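import Cfsg.Agent.Characters.Orthogonality

/-!
# Central elements and invariant constituents

`irr_central_mul`, the convolution of irreducible characters, and Clifford's theorem for an
invariant constituent: `restrict_eq_smul_of_invariant`.
-/

set_option autoImplicit false
set_option linter.unusedSectionVars false

namespace CfsgLib.BlocksCharsC

open Representation CfsgLib.Characters
open scoped ComplexConjugate

universe u

variable {G : Type u} [Group G]

theorem irr_central_mul {χ : G → ℂ} (h : Cfsg.IsIrrCharacter G χ) {z : G}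
    (hz : z ∈ Subgroup.center G) (g : G) : χ (z * g) * χ 1 = χ z * χ g := by
  obtain ⟨n, ρ, hρ, rfl⟩ := h
  haveI := hρ
  obtain ⟨c, hc⟩ := central_scalar ρ hz
  simp only [Representation.character, map_mul, hc, map_one]
  rw [show (c • LinearMap.id : (Fin n → ℂ) →ₗ[ℂ] (Fin n → ℂ)) * ρ g = c • ρ g by
    ext x; simp, map_smul, map_smul, show (LinearMap.id : (Fin n → ℂ) →ₗ[ℂ] (Fin n → ℂ)) = 1 from rfl]
  simp only [smul_eq_mul]; ring

variable [Fintype G]

/-- The convolution of a class function with an irreducible character. -/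
theorem classFunction_conv_irr {θ : G → ℂ} (hθ : Cfsg.IsClassFunction G θ) {χ : G → ℂ}
    (h : Cfsg.IsIrrCharacter G χ) (m : G) :
    (∑ g : G, θ g * χ (g⁻¹ * m)) * χ 1 = (Nat.card G : ℂ) * Cfsg.classInner θ χ * χ m := by
  obtain ⟨n, ρ, hρ, rfl⟩ := h
  haveI := hρ
  obtain ⟨c, hc⟩ := schur_scalar ρ _ (avgOp_comm hθ ρ)
  have ht := trace_avgOp θ ρ
  rw [hc, map_smul, show (LinearMap.id : (Fin n → ℂ) →ₗ[ℂ] (Fin n → ℂ)) = 1 from rfl,
    smul_eq_mul] at ht
  have h1 : ∑ g : G, θ g * ρ.character (g⁻¹ * m) = c * ρ.character m := by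
    have : LinearMap.trace ℂ _ (avgOp θ ρ * ρ m) = ∑ g : G, θ g * ρ.character (g⁻¹ * m) := by
      simp [avgOp, Finset.sum_mul, smul_mul_assoc, ← map_mul, Representation.character]
    rw [← this, hc]
    rw [show (c • LinearMap.id : (Fin n → ℂ) →ₗ[ℂ] (Fin n → ℂ)) * ρ m = c • ρ m by
      ext x; simp, map_smul]
    rfl
  rw [h1, ← ht]
  simp only [Representation.character, map_one]
  ring

omit [Fintype G] in
/-- Clifford's theorem for an invariant constituent: if `θ` is an irreducible character of the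
normal subgroup `N`, fixed by `G`, and a constituent of the restriction of `χ`, then this
restriction is a multiple of `θ`. -/
theorem restrict_eq_smul_of_invariant {N : Subgroup G} [hN : N.Normal] [Fintype N] {θ : N → ℂ}
    (hθ : Cfsg.IsIrrCharacter N θ)
    (hinv : ∀ (g : G) (n : N), θ ⟨g * n * g⁻¹, hN.conj_mem _ n.2 g⟩ = θ n) {χ : G → ℂ}
    (hχ : Cfsg.IsIrrCharacter G χ) (hne : Cfsg.classInner (fun n : N => χ n) θ ≠ 0) (n : N) :
    χ n = Cfsg.classInner (fun n : N => χ n) θ * θ n := by
  classical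
  obtain ⟨k, ρ, hρ, rfl⟩ := hχ
  haveI := hρ
  have hθc := isClassFunction_of_isIrr hθ
  let ψ : N → ℂ := fun n => ρ.character (n : G)
  have hψ : Cfsg.IsCharacter N ψ :=
    isCharacter_restrict N (isCharacter_character ρ)
  let T : (Fin k → ℂ) →ₗ[ℂ] (Fin k → ℂ) := ∑ x : N, θ x • ρ (x : G)⁻¹
  have hT : ∀ g v, T (ρ g v) = ρ g (T v) := by
    intro g v
    simp only [T, LinearMap.sum_apply, LinearMap.smul_apply, map_sum, map_smul]
    simp only [← Module.End.mul_apply, ← map_mul]
    refine Fintype.sum_bijective (fun x : N => (⟨g⁻¹ * x * g,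
      by simpa using hN.conj_mem _ x.2 g⁻¹⟩ : N)) ?_ _ _ fun x => ?_
    · refine Finite.injective_iff_bijective.1 fun a b hab => Subtype.ext ?_
      exact mul_left_cancel (mul_right_cancel (congrArg Subtype.val hab))
    · have hx := hinv g⁻¹ x
      simp only [inv_inv] at hx
      rw [hx]
      congr 3
      simp [mul_assoc]
  obtain ⟨c, hc⟩ := schur_scalar ρ T hT
  -- the two expressions of the trace of `T * ρ n`
  have h1 : ∀ m : N, ∑ x : N, θ x * ψ (x⁻¹ * m) = c * ψ m := by
    intro m
    have : LinearMap.trace ℂ _ (T * ρ (m : G)) = ∑ x : N, θ x * ψ (x⁻¹ * m) := by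
      simp [T, ψ, Finset.sum_mul, ← map_mul, Representation.character]
    rw [← this, hc]
    rw [show (c • LinearMap.id : (Fin k → ℂ) →ₗ[ℂ] (Fin k → ℂ)) * ρ (m : G) = c • ρ m by
      ext x; simp, map_smul]
    rfl
  have h2 : ∀ m : N, ∑ x : N, θ x * ψ (x⁻¹ * m) =
      Cfsg.classInner ψ θ * (Nat.card N : ℂ) / θ 1 * θ m := by
    intro m
    have he := character_expansion hψ
    calc ∑ x : N, θ x * ψ (x⁻¹ * m)
        = ∑ φ : Cfsg.IrrCharacter N, Cfsg.classInner ψ (φ : N → ℂ) *
            ∑ x : N, θ x * (φ : N → ℂ) (x⁻¹ * m) := by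
          conv_lhs => rw [he]
          simp only [Finset.sum_apply, Pi.smul_apply, smul_eq_mul, Finset.mul_sum]
          rw [Finset.sum_comm]
          exact Finset.sum_congr rfl fun φ _ => Finset.sum_congr rfl fun x _ => by ring
      _ = _ := by
          rw [Finset.sum_eq_single (⟨θ, hθ⟩ : Cfsg.IrrCharacter N)]
          · have := classFunction_conv_irr hθc hθ m
            rw [classInner_isIrr_self hθ, mul_one] at this
            rw [show ((⟨θ, hθ⟩ : Cfsg.IrrCharacter N) : N → ℂ) = θ from rfl,
              eq_div_of_mul_eq (irr_one_ne_zero hθ) this]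
            ring
          · intro φ _ hφ
            have := classFunction_conv_irr hθc φ.2 m
            rw [classInner_isIrr_ne hθ φ.2 fun h => hφ (Subtype.ext h.symm), mul_zero, zero_mul,
              mul_eq_zero, or_iff_left (irr_one_ne_zero φ.2)] at this
            rw [this, mul_zero]
          · exact fun h => absurd (Finset.mem_univ _) h
  have h3 : ∀ m : N, c * ψ m = Cfsg.classInner ψ θ * (Nat.card N : ℂ) / θ 1 * θ m :=
    fun m => (h1 m).symm.trans (h2 m)
  have hc0 : c ≠ 0 := by
    intro h0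
    have := h3 1
    rw [h0, zero_mul, div_mul_cancel₀ _ (irr_one_ne_zero hθ)] at this
    exact mul_ne_zero hne natCard_ne_zero this.symm
  -- `ψ` is proportional to `θ`; read off the factor with the inner product
  have h4 : ψ = (Cfsg.classInner ψ θ * (Nat.card N : ℂ) / θ 1 / c) • θ := by
    funext m
    rw [Pi.smul_apply, smul_eq_mul, div_mul_eq_mul_div, ← h3 m, mul_div_cancel_left₀ _ hc0]
  have h5 : Cfsg.classInner ψ θ = Cfsg.classInner ψ θ * (Nat.card N : ℂ) / θ 1 / c := by
    conv_lhs => rw [h4]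
    rw [classInner_smul_left, classInner_isIrr_self hθ, mul_one]
  calc ρ.character (n : G) = ψ n := rfl
    _ = _ := by
      conv_lhs => rw [h4]
      rw [Pi.smul_apply, smul_eq_mul, ← h5]

end CfsgLib.BlocksCharsC
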