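import Cfsg.Agent.Blocks.Induced
import Cfsg.Agent.BlocksLocal.OverLocalRing
import Cfsg.Agent.GaloisConj.Basic
import Cfsg.Agent.BlocksCharsC.CliffordInvariant
import Cfsg.Agent.Characters.Linear

/-!
# Blocks are determined by the `p`-regular classes

Support of block idempotents, weak block orthogonality, membership in the principal block through
`p`-regular elements, stability of the principal block under Galois conjugation, the principal
block over a normal subgroup containing all `p`-regular elements, and `O_{p'}` in the kernel.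
-/

set_option autoImplicit false
set_option linter.unusedSectionVars false

namespace CfsgLib.BlocksCharsC

open CfsgLib.Blocks Cfsg
open scoped ComplexConjugate

universe u

variable {G : Type u} [Group G] [Fintype G] {M : Ideal AlgInt} {p : ℕ}

/-- The trivial character. -/
noncomputable def trivialIrr (G : Type u) [Group G] : IrrCharacter G :=
  ⟨fun _ => 1, Characters.isIrr_one⟩

theorem principalBlock_eq : Cfsg.principalBlock M G = Cfsg.blockOf M (trivialIrr G : G → ℂ) := rfl

theorem isPBlock_principalBlock : Cfsg.IsPBlock M (Cfsg.principalBlock M G) :=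
  ⟨trivialIrr G, rfl⟩

variable [M.IsPrime]

theorem blockCoeff_eq_zero (hM : Cfsg.IsPModular p M) {A : Set (IrrCharacter G)}
    (hA : IsBlockUnion M A) {g : G} (hg : p ∣ orderOf g) : Cfsg.blockCoeff A g = 0 := by
  classical
  set e := setIdemO M A (memLocalRing_blockCoeff hA) with he
  have hee : e * e = e := ctr_ext_omegaO fun ψ => by
    rw [map_mul, omegaO_setIdemO]; split_ifs <;> simp
  have h := BlocksLocal.sum_coeff_mul_eq_zero_of_idempotent hM (e : MonoidAlgebra (localRing M) G)
    (by rw [← Subring.coe_mul, hee]) (fun x => if IsConj x g then 1 else 0) ?_ ?_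
  · have hsum : ∑ x : G, (((e : MonoidAlgebra (localRing M) G).coeff x : localRing M) : ℂ) *
        (if IsConj x g then 1 else 0) =
        ((Finset.univ.filter fun x : G => IsConj x g).card : ℂ) * Cfsg.blockCoeff A g := by
      rw [← nsmul_eq_mul, ← Finset.sum_const, Finset.sum_filter]
      refine Finset.sum_congr rfl fun x _ => ?_
      split_ifs with hx
      · simp [he, setIdemO, blockCoeff_isConj A hx]
      · simp
    rw [hsum, mul_eq_zero] at h
    refine h.resolve_left ?_
    exact (Nat.cast_ne_zero (R := ℂ)).2 (Finset.card_ne_zero_of_mem (a := g)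
      (Finset.mem_filter.2 ⟨Finset.mem_univ _, IsConj.refl g⟩))
  · intro x c
    refine if_congr ?_ rfl rfl
    exact ⟨fun h => (isConj_iff.2 ⟨c, rfl⟩ : IsConj x (c * x * c⁻¹)).trans h,
      fun h => (isConj_iff.2 ⟨c, rfl⟩ : IsConj x (c * x * c⁻¹)).symm.trans h⟩
  · intro x hx
    refine if_neg fun hc => hx ?_
    obtain ⟨c, hc⟩ := isConj_iff.1 hc
    rw [← hc, show c * x * c⁻¹ = MulAut.conj c x from rfl, MulEquiv.orderOf_eq] at hg
    exact hg

/-- Weak block orthogonality. -/
theorem sum_degree_mul_eq_zero (hM : Cfsg.IsPModular p M) {A : Set (IrrCharacter G)}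
    [DecidablePred (· ∈ A)] (hA : IsBlockUnion M A) {g : G} (hg : p ∣ orderOf g) :
    ∑ χ : IrrCharacter G, (if χ ∈ A then (χ : G → ℂ) 1 * (χ : G → ℂ) g else 0) = 0 := by
  classical
  have h := blockCoeff_eq_zero hM hA hg
  rw [blockCoeff_eq_sum, mul_eq_zero, inv_eq_zero] at h
  have h2 := congrArg conj (h.resolve_left Characters.natCard_ne_zero)
  rw [map_sum, map_zero] at h2
  refine Eq.trans ?_ h2
  refine Finset.sum_congr rfl fun χ _ => ?_
  obtain ⟨n, -, hn⟩ := Characters.exists_degree_pos χ.2
  split_ifs <;> simp [hn]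

/-- Two characters lie in one block when their central characters agree on `p`-regular
elements. -/
theorem sameBlock_of_regular (hM : Cfsg.IsPModular p M) {χ ψ : IrrCharacter G}
    (h : ∀ g : G, ¬ p ∣ orderOf g →
      Cfsg.MemLocalIdeal M (Cfsg.centralChar (χ : G → ℂ) g - Cfsg.centralChar (ψ : G → ℂ) g)) :
    Cfsg.SameBlock M (χ : G → ℂ) (ψ : G → ℂ) := by
  classical
  haveI := Fintype.ofFinite (ConjClasses G)
  have hB := isBlockUnion_of_isPBlock (isPBlock_blockOf (M := M) χ)
  set B := Cfsg.blockOf M (χ : G → ℂ)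
  have key : omegaBar M χ (idemBar M B hB) = omegaBar M ψ (idemBar M B hB) := by
    rw [eq_sum_classSum (idemBar M B hB), map_sum, map_sum]
    refine Finset.sum_congr rfl fun C _ => ?_
    obtain ⟨g, rfl⟩ := ConjClasses.mk_surjective C
    rw [map_mul, map_mul, omegaBar_scalar, omegaBar_scalar, classCoeff_mk, coeff_idemBar]
    by_cases hg : p ∣ orderOf g
    · have h0 : (⟨Cfsg.blockCoeff B g, memLocalRing_blockCoeff hB g⟩ : localRing M) = 0 :=
        Subtype.ext (blockCoeff_eq_zero hM hB hg)
      rw [h0, map_zero, zero_mul, zero_mul]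
    · rw [omegaBar_classSum, omegaBar_classSum]
      exact congrArg _ (red_eq_red_iff.2 (h g hg))
  rw [omegaBar_idemBar, omegaBar_idemBar, if_pos (mem_blockOf_self χ)] at key
  by_contra hne
  rw [if_neg (show ψ ∉ B from hne)] at key
  exact one_ne_zero key

theorem centralChar_trivialIrr (g : G) :
    Cfsg.centralChar (trivialIrr G : G → ℂ) g =
      ((Subgroup.centralizer ({g} : Set G)).index : ℂ) := by
  simp [Cfsg.centralChar, trivialIrr]

theorem mem_principalBlock_iff {χ : IrrCharacter G} :
    χ ∈ Cfsg.principalBlock M G ↔ ∀ g : G, Cfsg.MemLocalIdeal M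
      (Cfsg.centralChar (χ : G → ℂ) g - ((Subgroup.centralizer ({g} : Set G)).index : ℂ)) := by
  rw [principalBlock_eq]
  constructor
  · intro h g
    have := sameBlock_symm h g
    rwa [centralChar_trivialIrr] at this
  · intro h
    refine sameBlock_symm (ψ := trivialIrr G) fun g => ?_
    rw [centralChar_trivialIrr]
    exact h g

theorem mem_principalBlock_of_regular (hM : Cfsg.IsPModular p M) {χ : IrrCharacter G}
    (h : ∀ g : G, ¬ p ∣ orderOf g → Cfsg.MemLocalIdeal M
      (Cfsg.centralChar (χ : G → ℂ) g - ((Subgroup.centralizer ({g} : Set G)).index : ℂ))) :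
    χ ∈ Cfsg.principalBlock M G := by
  rw [principalBlock_eq]
  refine sameBlock_symm (ψ := trivialIrr G) (sameBlock_of_regular hM fun g hg => ?_)
  rw [centralChar_trivialIrr]
  exact h g hg

/-- The Galois conjugate `g ↦ χ (g ^ k)`. -/
noncomputable def powIrr (k : ℕ) (hk : Nat.Coprime k (Nat.card G)) (χ : IrrCharacter G) :
    IrrCharacter G :=
  ⟨fun g => (χ : G → ℂ) (g ^ k), GaloisConj.isIrrCharacter_pow χ.2 hk⟩

theorem centralizer_pow_of_coprime (k : ℕ) (hk : Nat.Coprime k (Nat.card G)) (g : G) :
    Subgroup.centralizer ({g ^ k} : Set G) = Subgroup.centralizer ({g} : Set G) := by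
  ext x
  simp only [Subgroup.mem_centralizer_singleton_iff]
  refine ⟨fun h => ?_, fun h => Commute.eq (Commute.pow_right (a := x) (b := g) h k)⟩
  obtain ⟨m, hm⟩ := exists_pow_eq_self_of_coprime (hk.coprime_dvd_right (orderOf_dvd_natCard g))
  rw [← hm]
  exact Commute.eq (Commute.pow_right (a := x) (b := g ^ k) h m)

theorem powIrr_mem_principalBlock {k : ℕ} (hk : Nat.Coprime k (Nat.card G))
    {χ : IrrCharacter G} (hχ : χ ∈ Cfsg.principalBlock M G) :
    powIrr k hk χ ∈ Cfsg.principalBlock M G := by
  rw [mem_principalBlock_iff] at hχ ⊢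
  intro g
  have := hχ (g ^ k)
  simp only [Cfsg.centralChar, powIrr, one_pow, centralizer_pow_of_coprime k hk g] at this ⊢
  exact this

theorem omegaBar_eq_trivial {χ : IrrCharacter G} (hχ : χ ∈ Cfsg.principalBlock M G) :
    omegaBar M χ = omegaBar M (trivialIrr G) :=
  ((sameBlock_iff (trivialIrr G) χ).1 hχ).symm

/-- A character over the principal block of a normal subgroup containing all `p`-regular
elements lies in the principal block. -/
theorem mem_principalBlock_of_restrict (hM : Cfsg.IsPModular p M) (N : Subgroup G) [N.Normal]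
    [Fintype N] (hreg : ∀ g : G, ¬ p ∣ orderOf g → g ∈ N) {θ : IrrCharacter N}
    (hθ : θ ∈ Cfsg.principalBlock M N) {χ : IrrCharacter G} {e : ℂ}
    (hres : ∀ n : N, (χ : G → ℂ) n = e * (θ : N → ℂ) n) :
    χ ∈ Cfsg.principalBlock M G := by
  classical
  refine mem_principalBlock_of_regular hM fun g hg => ?_
  have hgN := hreg g hg
  have he : e ≠ 0 := by
    intro h0
    have := hres 1
    rw [h0, zero_mul, OneMemClass.coe_one] at this
    exact Characters.irr_one_ne_zero χ.2 this
  -- the sum over the class of `g` inside `N`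
  have key : ∀ φ : IrrCharacter N, ∀ f : ℂ, (∀ n : N, IsConj g (n : G) →
      (φ : N → ℂ) n / (φ : N → ℂ) 1 = f) →
      Cfsg.inducedCentralChar N (φ : N → ℂ) g =
        ((Subgroup.centralizer ({g} : Set G)).index : ℂ) * f := by
    intro φ f hf
    rw [Cfsg.inducedCentralChar, finsum_mem_congr (s := {h : N | IsConj g (h : G)}) rfl
      (fun n hn => hf n hn), finsum_mem_eq_toFinset_sum]
    rw [Finset.sum_const, nsmul_eq_mul, ← natCard_class g]
    congr 2
    rw [← Nat.card_eq_card_toFinset]
    refine Nat.card_congr ⟨fun x => ⟨(x.1 : G), ?_⟩, fun x => ⟨⟨x.1, ?_⟩, ?_⟩,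
      fun x => rfl, fun x => rfl⟩
    · exact ConjClasses.mk_eq_mk_iff_isConj.2 (x.2 : IsConj g (x.1 : G)).symm
    · obtain ⟨c, hc⟩ := isConj_iff.1 (ConjClasses.mk_eq_mk_iff_isConj.1 x.2).symm
      rw [← hc]
      exact Subgroup.Normal.conj_mem ‹N.Normal› g hgN c
    · exact (ConjClasses.mk_eq_mk_iff_isConj.1 x.2).symm
  have h1 : Cfsg.inducedCentralChar N (θ : N → ℂ) g = Cfsg.centralChar (χ : G → ℂ) g := by
    rw [key θ ((χ : G → ℂ) g / (χ : G → ℂ) 1), Cfsg.centralChar, mul_div_assoc]
    intro n hn
    have hc := Characters.classFunction_isConj (Characters.isClassFunction_of_isIrr χ.2) hn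
    rw [hc, hres n, ← OneMemClass.coe_one N, hres 1, mul_div_mul_left _ _ he]
  have h2 : Cfsg.inducedCentralChar N (trivialIrr N : N → ℂ) g =
      ((Subgroup.centralizer ({g} : Set G)).index : ℂ) := by
    rw [key (trivialIrr N) 1 fun n _ => by simp [trivialIrr], mul_one]
  have h3 := DFunLike.congr_fun (omegaBar_eq_trivial hθ)
    (resCtr N (classSum _ (ConjClasses.mk g)))
  rw [omegaBar_resCtr_classSum, omegaBar_resCtr_classSum, red_eq_red_iff] at h3
  simp only [h1, h2] at h3
  exact h3

/-- A normal subgroup of order prime to `p` lies in the kernel of the principal block. -/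
theorem eq_degree_of_mem_principalBlock (hM : Cfsg.IsPModular p M) (K : Subgroup G) [K.Normal]
    [Fintype K] (hK : ¬ p ∣ Nat.card K) {χ : IrrCharacter G} (hχ : χ ∈ Cfsg.principalBlock M G)
    {k : G} (hk : k ∈ K) : (χ : G → ℂ) k = (χ : G → ℂ) 1 := by
  classical
  let z : Ctr (localRing M) G := ⟨ofFun fun x => if x ∈ K then 1 else 0, mem_ctr_iff.2 fun g h => by
    simp only [coeff_ofFun]
    refine if_congr ⟨fun hh => ?_, fun hh => Subgroup.Normal.conj_mem ‹K.Normal› g hh h⟩ rfl rfl
    have := Subgroup.Normal.conj_mem ‹K.Normal› _ hh h⁻¹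
    simpa [mul_assoc] using this⟩
  have hz : ∀ φ : IrrCharacter G,
      (omegaO M φ z : ℂ) = (∑ n : K, (φ : G → ℂ) n) / (φ : G → ℂ) 1 := by
    intro φ
    rw [coe_omegaO, omega_apply]
    congr 1
    simp only [z, toC, coeff_mapCtr, coeff_ofFun]
    rw [← Finset.sum_subtype (Finset.univ.filter (· ∈ K)) (by simp) (fun x => (φ : G → ℂ) x),
      Finset.sum_filter]
    exact Finset.sum_congr rfl fun x _ => by split_ifs <;> simp
  have h3 := DFunLike.congr_fun (omegaBar_eq_trivial hχ) (redCtr M z)
  rw [omegaBar_redCtr, omegaBar_redCtr, red_eq_red_iff, hz, hz] at h3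
  have hne : Cfsg.classInner (fun n : K => (χ : G → ℂ) n) (fun _ => 1) ≠ 0 := by
    intro h0
    simp only [Cfsg.classInner, map_one, mul_one, mul_eq_zero, inv_eq_zero,
      Characters.natCard_ne_zero, false_or] at h0
    simp only [h0, zero_div, trivialIrr, Finset.sum_const, Finset.card_univ, nsmul_eq_mul, mul_one,
      div_one, zero_sub] at h3
    have h4 := memLocalIdeal_neg h3
    rw [neg_neg, ← Nat.card_eq_fintype_card, memLocalIdeal_natCast_iff hM] at h4
    exact hK h4
  have h1 := restrict_eq_smul_of_invariant (Characters.isIrr_one (G := K)) (fun _ _ => rfl) χ.2 hne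
  have e1 := h1 ⟨k, hk⟩
  have e2 := h1 1
  rw [OneMemClass.coe_one] at e2
  rw [e2, e1]

end CfsgLib.BlocksCharsC
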