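import Mathlib.RingTheory.RootsOfUnity.PrimitiveRoots
import Mathlib.Analysis.Complex.Basic
import Mathlib.Analysis.Complex.Polynomial.Basic
import Mathlib.NumberTheory.Real.Irrational

/-!
# Squares of integer combinations of roots of unity

The sum, over the primitive exponents, of the squared absolute values of an integer combination of
`p ^ (k + 1)`-th roots of unity, as a sum of squared differences inside the fibres.
-/

set_option autoImplicit false

namespace CfsgLib.BlocksCharsC.RootSquares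

open scoped ComplexConjugate

/-- Parseval for a cyclic group. -/
theorem parseval_range {q : ℕ} (hq : 0 < q) {ζ : ℂ} (hζ : IsPrimitiveRoot ζ q) (N : ℕ → ℤ) :
    ∑ j ∈ Finset.range q, (∑ a ∈ Finset.range q, (N a : ℂ) * ζ ^ (a * j)) *
        conj (∑ a ∈ Finset.range q, (N a : ℂ) * ζ ^ (a * j)) =
      ((q : ℤ) * ∑ a ∈ Finset.range q, N a ^ 2 : ℤ) := by
  have hconj : conj ζ = ζ⁻¹ :=
    (Complex.inv_eq_conj (Complex.norm_eq_one_of_pow_eq_one hζ.pow_eq_one hq.ne')).symm
  have h0 : ζ ≠ 0 := hζ.ne_zero hq.ne'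
  have horth : ∀ a ∈ Finset.range q, ∀ b ∈ Finset.range q,
      ∑ j ∈ Finset.range q, ζ ^ (a * j) * conj (ζ ^ (b * j)) = if a = b then (q : ℂ) else 0 := by
    intro a ha b hb
    have he : ∀ j, ζ ^ (a * j) * conj (ζ ^ (b * j)) = (ζ ^ a * (ζ⁻¹) ^ b) ^ j := fun j => by
      rw [map_pow, hconj, mul_pow, ← pow_mul, ← pow_mul]
    simp only [he]
    split_ifs with h
    · subst h
      rw [inv_pow, mul_inv_cancel₀ (pow_ne_zero _ h0)]
      simp
    · have hne : ζ ^ a * (ζ⁻¹) ^ b ≠ 1 := fun h1 => h (hζ.pow_inj (Finset.mem_range.1 ha)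
        (Finset.mem_range.1 hb) (by rwa [inv_pow, mul_inv_eq_one₀ (pow_ne_zero _ h0)] at h1))
      rw [geom_sum_eq hne, mul_pow, ← pow_mul, ← pow_mul, mul_comm a, mul_comm b, pow_mul, pow_mul,
        inv_pow, hζ.pow_eq_one]
      simp
  simp only [map_sum, map_mul, Finset.sum_mul_sum, map_intCast]
  rw [Finset.sum_comm]
  push_cast
  rw [Finset.mul_sum]
  refine Finset.sum_congr rfl fun a ha => ?_
  rw [Finset.sum_comm, Finset.sum_eq_single a (fun b hb hne => ?_) (fun h => absurd ha h)]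
  · simp only [show ∀ j, (N a : ℂ) * ζ ^ (a * j) * ((N a : ℂ) * conj (ζ ^ (a * j))) =
      (N a : ℂ) ^ 2 * (ζ ^ (a * j) * conj (ζ ^ (a * j))) from fun j => by ring]
    rw [← Finset.mul_sum, horth a ha a ha, if_pos rfl]
    ring
  · simp only [show ∀ j, (N a : ℂ) * ζ ^ (a * j) * ((N b : ℂ) * conj (ζ ^ (b * j))) =
      (N a : ℂ) * (N b : ℂ) * (ζ ^ (a * j) * conj (ζ ^ (b * j))) from fun j => by ring]
    rw [← Finset.mul_sum, horth a ha b hb, if_neg (Ne.symm hne), mul_zero]

/-- Sums over `range (m * p)` by fibres. -/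
theorem sum_range_mul {R : Type*} [AddCommMonoid R] {m p : ℕ} (hm : 0 < m) (f : ℕ → R) :
    ∑ a ∈ Finset.range (m * p), f a =
      ∑ b ∈ Finset.range m, ∑ c ∈ Finset.range p, f (b + m * c) := by
  rw [← Finset.sum_product']
  refine Finset.sum_nbij' (fun a => (a % m, a / m)) (fun x => x.1 + m * x.2) ?_ ?_ ?_ ?_ ?_
  · intro a ha
    simp only [Finset.mem_coe, Finset.mem_range] at ha
    simp only [Finset.mem_coe, Finset.mem_product, Finset.mem_range]
    exact ⟨Nat.mod_lt _ hm, Nat.div_lt_of_lt_mul ha⟩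
  · rintro ⟨b, c⟩ hbc
    simp only [Finset.mem_coe, Finset.mem_product, Finset.mem_range] at hbc
    simp only [Finset.mem_coe, Finset.mem_range]
    calc b + m * c < m + m * c := by omega
      _ = m * (c + 1) := by ring
      _ ≤ m * p := Nat.mul_le_mul_left _ hbc.2
  · intro a _
    exact Nat.mod_add_div a m
  · rintro ⟨b, c⟩ hbc
    simp only [Finset.mem_coe, Finset.mem_product, Finset.mem_range] at hbc
    simp [Nat.add_mul_mod_self_left, Nat.mod_eq_of_lt hbc.1, Nat.add_mul_div_left _ _ hm,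
      Nat.div_eq_of_lt hbc.1]
  · intro a _
    simp [Nat.mod_add_div]

/-- The fibrewise form. -/
def fibreForm (m p : ℕ) (N : ℕ → ℤ) : ℤ :=
  ∑ b ∈ Finset.range m,
    ((p : ℤ) * ∑ c ∈ Finset.range p, N (b + m * c) ^ 2 - (∑ c ∈ Finset.range p, N (b + m * c)) ^ 2)

/-- The sum over the exponents prime to `p`. -/
theorem sum_primitive {m p : ℕ} (hp : p.Prime) (hm : 0 < m) {ζ : ℂ}
    (hζ : IsPrimitiveRoot ζ (m * p)) (N : ℕ → ℤ) :
    ∑ j ∈ (Finset.range (m * p)).filter (fun j => ¬ p ∣ j),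
      (∑ a ∈ Finset.range (m * p), (N a : ℂ) * ζ ^ (a * j)) *
        conj (∑ a ∈ Finset.range (m * p), (N a : ℂ) * ζ ^ (a * j)) =
      (((m : ℤ) * fibreForm m p N : ℤ) : ℂ) := by
  set S : ℕ → ℂ := fun j => ∑ a ∈ Finset.range (m * p), (N a : ℂ) * ζ ^ (a * j)
  have hη : IsPrimitiveRoot (ζ ^ p) m :=
    hζ.pow (Nat.mul_pos hm hp.pos) (mul_comm m p)
  have hall := parseval_range (Nat.mul_pos hm hp.pos) hζ N
  have hlow := parseval_range hm hη (fun b => ∑ c ∈ Finset.range p, N (b + m * c))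
  have himg : ∑ j ∈ (Finset.range (m * p)).filter (fun j => p ∣ j), S j * conj (S j) =
      (((m : ℤ) * ∑ b ∈ Finset.range m, (∑ c ∈ Finset.range p, N (b + m * c)) ^ 2 : ℤ) : ℂ) := by
    rw [← hlow]
    refine Finset.sum_nbij' (fun j => j / p) (fun i => p * i) ?_ ?_ ?_ ?_ ?_
    · intro j hj
      simp only [Finset.mem_coe, Finset.mem_filter, Finset.mem_range] at hj ⊢
      exact Nat.div_lt_of_lt_mul (by rw [mul_comm]; exact hj.1)
    · intro i hi
      simp only [Finset.mem_coe, Finset.mem_filter, Finset.mem_range] at hi ⊢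
      exact ⟨by rw [mul_comm m]; exact Nat.mul_lt_mul_of_pos_left hi hp.pos, dvd_mul_right p i⟩
    · intro j hj
      simp only [Finset.mem_coe, Finset.mem_filter] at hj
      exact Nat.mul_div_cancel' hj.2
    · intro i _
      exact Nat.mul_div_cancel_left i hp.pos
    · intro j hj
      simp only [Finset.mem_filter] at hj
      obtain ⟨i, rfl⟩ := hj.2
      have hS : S (p * i) = ∑ b ∈ Finset.range m,
          (((∑ c ∈ Finset.range p, N (b + m * c) : ℤ)) : ℂ) * (ζ ^ p) ^ (b * i) := by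
        simp only [S]
        rw [sum_range_mul hm]
        refine Finset.sum_congr rfl fun b _ => ?_
        push_cast
        rw [Finset.sum_mul]
        refine Finset.sum_congr rfl fun c _ => ?_
        congr 1
        rw [← pow_mul, show (b + m * c) * (p * i) = p * (b * i) + (m * p) * (c * i) by ring,
          pow_add, pow_mul ζ (m * p), hζ.pow_eq_one, one_pow, mul_one]
      rw [hS, Nat.mul_div_cancel_left i hp.pos]
  have hsum := (Finset.sum_filter_add_sum_filter_not (Finset.range (m * p))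
    (fun j => p ∣ j) fun j => S j * conj (S j)).trans hall
  rw [himg] at hsum
  show ∑ j ∈ (Finset.range (m * p)).filter (fun j => ¬ p ∣ j), S j * conj (S j) = _
  rw [eq_sub_of_add_eq' hsum, sum_range_mul hm, fibreForm, Finset.sum_sub_distrib, ← Finset.mul_sum]
  push_cast
  ring

/-- The number of exponents prime to `p`. -/
theorem card_primitive {m p : ℕ} (hp : p.Prime) :
    ((Finset.range (m * p)).filter fun j => ¬ p ∣ j).card = m * (p - 1) := by
  have h : ((Finset.range (m * p)).filter fun j => p ∣ j).card = m := by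
    rw [show ((Finset.range (m * p)).filter fun j => p ∣ j) =
        (Finset.range m).map ⟨fun i => p * i, mul_right_injective₀ hp.ne_zero⟩ by
      ext j
      simp only [Finset.mem_filter, Finset.mem_range, Finset.mem_map, Function.Embedding.coeFn_mk]
      constructor
      · rintro ⟨hj, i, rfl⟩
        exact ⟨i, Nat.lt_of_mul_lt_mul_left (by rwa [mul_comm m] at hj), rfl⟩
      · rintro ⟨i, hi, rfl⟩
        exact ⟨by rw [mul_comm m]; exact Nat.mul_lt_mul_of_pos_left hi hp.pos, dvd_mul_right p i⟩,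
      Finset.card_map, Finset.card_range]
  have h2 := Finset.card_filter_add_card_filter_not (s := Finset.range (m * p)) fun j => p ∣ j
  rw [h, Finset.card_range] at h2
  rw [Nat.mul_sub, mul_one]
  omega

/-- `p ∑ v² - (∑ v)²` as half the sum of the squared differences. -/
theorem sum_sq_sub_sq {ι : Type*} (s : Finset ι) (v : ι → ℤ) :
    2 * ((s.card : ℤ) * ∑ c ∈ s, v c ^ 2 - (∑ c ∈ s, v c) ^ 2) =
      ∑ c ∈ s, ∑ c' ∈ s, (v c - v c') ^ 2 := by
  have h : ∀ c c', (v c - v c') ^ 2 = v c ^ 2 + v c' ^ 2 - 2 * (v c * v c') := fun c c' => by ring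
  simp only [h, Finset.sum_sub_distrib, Finset.sum_add_distrib, Finset.sum_const, nsmul_eq_mul,
    ← Finset.mul_sum, ← Finset.sum_mul]
  ring

/-- A symmetric nonnegative distance which is at least `L` on distinct values: if two values
differ, the total is at least `2 (n - 1) L`. -/
theorem pairs_bound {ι β : Type*} [DecidableEq ι] (s : Finset ι) (v : ι → β) (D : ι → ι → ℤ)
    {L : ℤ} (hnn : ∀ i j, 0 ≤ D i j) (hsymm : ∀ i j, D i j = D j i)
    (hL : ∀ i ∈ s, ∀ j ∈ s, v i ≠ v j → L ≤ D i j) (hex : ∃ i ∈ s, ∃ j ∈ s, v i ≠ v j) :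
    2 * (((s.card : ℕ) : ℤ) - 1) * L ≤ ∑ i ∈ s, ∑ j ∈ s, D i j := by
  obtain ⟨a, ha, b, hb, hab⟩ := hex
  have hne : a ≠ b := fun h => hab (h ▸ rfl)
  set r := (s.erase a).erase b
  have hbe : b ∈ s.erase a := Finset.mem_erase.2 ⟨hne.symm, hb⟩
  have hrc : (r.card : ℤ) = (s.card : ℤ) - 2 := by
    have h1 := Finset.card_erase_add_one ha
    have h2 := Finset.card_erase_add_one hbe
    simp only [r]
    omega
  have hr : ∀ c ∈ r, L ≤ D c a + D c b := fun c hc => by
    have hcs := Finset.mem_of_mem_erase (Finset.mem_of_mem_erase hc)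
    by_cases h : v c = v a
    · exact le_add_of_nonneg_of_le (hnn c a) (hL c hcs b hb (h ▸ hab))
    · exact le_add_of_le_of_nonneg (hL c hcs a ha h) (hnn c b)
  have hsplit : ∀ f : ι → ℤ, ∑ j ∈ s, f j = f a + f b + ∑ j ∈ r, f j := fun f => by
    rw [← Finset.add_sum_erase s f ha, ← Finset.add_sum_erase _ f hbe, add_assoc]
  have hrow : ∀ c ∈ r, L ≤ ∑ j ∈ s, D c j := fun c hc => by
    rw [hsplit]
    linarith [hr c hc, Finset.sum_nonneg fun j (_ : j ∈ r) => hnn c j]
  have hcol : ((r.card : ℕ) : ℤ) * L ≤ ∑ j ∈ r, (D a j + D b j) := by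
    rw [← nsmul_eq_mul]
    exact Finset.card_nsmul_le_sum r _ L fun c hc => by rw [hsymm a, hsymm b]; exact hr c hc
  have hrows : ((r.card : ℕ) : ℤ) * L ≤ ∑ c ∈ r, ∑ j ∈ s, D c j := by
    rw [← nsmul_eq_mul]
    exact Finset.card_nsmul_le_sum r _ L hrow
  rw [hsplit (fun i => ∑ j ∈ s, D i j), hsplit (D a), hsplit (D b)]
  rw [Finset.sum_add_distrib] at hcol
  rw [hrc] at hrows hcol
  have := hL a ha b hb hab
  have := hsymm a b
  have := hnn a a
  have := hnn b b
  linarith

end CfsgLib.BlocksCharsC.RootSquares
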