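import Cfsg.Agent.BlocksCharsC.SubsectionForm

/-!
# The contributions of a subsection at characters of height zero

For a block `b` of `C(x)` inducing `B`, the numbers `p ^ q * secInner p x b χ ψ`, `q` the defect of
`b`, are algebraic integers, and units when `χ` and `ψ` have height zero in `B`.
-/

set_option autoImplicit false
set_option linter.style.haveILetI false
set_option linter.unusedSectionVars false

namespace CfsgLib.BlocksCharsC

open Cfsg CfsgLib.Blocks CfsgLib.BlockPairing
open scoped ComplexConjugate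

universe u

variable {G : Type u} [Group G] [Fintype G] {p : ℕ} {x : G}
  [Fintype (Subgroup.centralizer ({x} : Set G))]

/-- The element `x` in its centralizer. -/
def selfCent (x : G) : Subgroup.centralizer ({x} : Set G) :=
  ⟨x, Subgroup.mem_centralizer_singleton_iff.2 rfl⟩

theorem selfCent_mem_center : selfCent x ∈ Subgroup.center (Subgroup.centralizer ({x} : Set G)) :=
  Subgroup.mem_center_iff.2 fun c => Subtype.ext (Subgroup.mem_centralizer_singleton_iff.1 c.2)

/-- The central value at `x`. -/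
noncomputable def secRoot (x : G) (ξ : IrrCharacter (Subgroup.centralizer ({x} : Set G))) : ℂ :=
  (ξ : Subgroup.centralizer ({x} : Set G) → ℂ) (selfCent x) /
    (ξ : Subgroup.centralizer ({x} : Set G) → ℂ) 1

theorem secRoot_pow {k : ℕ} (hk : orderOf x = p ^ k) (ξ : IrrCharacter (Subgroup.centralizer ({x} : Set G))) :
    secRoot x ξ ^ (p ^ k) = 1 := by
  have h1 := Characters.irr_one_ne_zero ξ.2
  have hpow : ∀ n : ℕ, (ξ : (Subgroup.centralizer ({x} : Set G)) → ℂ) (selfCent x ^ n) = (ξ : (Subgroup.centralizer ({x} : Set G)) → ℂ) 1 * secRoot x ξ ^ n := by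
    intro n
    induction n with
    | zero => simp
    | succ n ih =>
      have h := irr_central_mul ξ.2 (z := selfCent x) selfCent_mem_center (selfCent x ^ n)
      rw [ih] at h
      rw [pow_succ', pow_succ', secRoot] at *
      field_simp at h ⊢
      linear_combination h
  have hz : selfCent x ^ (p ^ k) = 1 := Subtype.ext (by
    rw [SubgroupClass.coe_pow, ← hk]; exact pow_orderOf_eq_one x)
  have h := hpow (p ^ k)
  rw [hz] at h
  exact mul_left_cancel₀ h1 (h.symm.trans (mul_one _).symm)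

theorem secCoef_eq (χ : G → ℂ) (ξ : IrrCharacter (Subgroup.centralizer ({x} : Set G))) :
    secCoef x χ ξ = Cfsg.classInner (fun c : (Subgroup.centralizer ({x} : Set G)) => χ c) (ξ : (Subgroup.centralizer ({x} : Set G)) → ℂ) * secRoot x ξ := by
  have h1 := Characters.irr_one_ne_zero ξ.2
  have key : ∀ c : (Subgroup.centralizer ({x} : Set G)), conj ((ξ : (Subgroup.centralizer ({x} : Set G)) → ℂ) c) =
      conj ((ξ : (Subgroup.centralizer ({x} : Set G)) → ℂ) (selfCent x * c)) * secRoot x ξ := by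
    intro c
    have h := irr_central_mul ξ.2 (z := (selfCent x)⁻¹) (inv_mem selfCent_mem_center)
      (selfCent x * c)
    rw [inv_mul_cancel_left] at h
    have h' := congrArg conj h
    have hz : conj ((ξ : (Subgroup.centralizer ({x} : Set G)) → ℂ) (selfCent x)⁻¹) = (ξ : (Subgroup.centralizer ({x} : Set G)) → ℂ) (selfCent x) := by
      rw [Characters.character_inv (Characters.isCharacter_of_isIrr ξ.2), Complex.conj_conj]
    have hd : conj ((ξ : (Subgroup.centralizer ({x} : Set G)) → ℂ) 1) = (ξ : (Subgroup.centralizer ({x} : Set G)) → ℂ) 1 := by rw [← charDegree_cast, Complex.conj_natCast]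
    rw [map_mul, map_mul, hz, hd] at h'
    rw [secRoot]
    field_simp
    linear_combination h'
  simp only [secCoef, Cfsg.classInner]
  rw [mul_assoc]
  congr 1
  rw [Finset.sum_mul]
  refine Fintype.sum_equiv (Equiv.mulLeft (selfCent x)) _ _ fun c => ?_
  rw [key c, Equiv.coe_mulLeft]
  show χ (x * (c : G)) * (_ * _) = χ (((selfCent x * c : (Subgroup.centralizer ({x} : Set G))) : G)) * _ * _
  rw [Subgroup.coe_mul, mul_assoc]
  rfl

variable {M : Ideal AlgInt} [M.IsPrime] [Fact p.Prime] (hM : Cfsg.IsPModular p M)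

/-- Congruence modulo the local ideal. -/
def Cong (M : Ideal AlgInt) (a b : ℂ) : Prop := Cfsg.MemLocalIdeal M (a - b)

theorem Cong.refl (a : ℂ) : Cong M a a := by
  rw [Cong, sub_self]; exact memLocalIdeal_zero

theorem Cong.symm {a b : ℂ} (h : Cong M a b) : Cong M b a := by
  rw [Cong, ← neg_sub]; exact memLocalIdeal_neg h

theorem Cong.trans {a b c : ℂ} (h : Cong M a b) (h' : Cong M b c) : Cong M a c := by
  rw [Cong, ← sub_add_sub_cancel a b c]; exact memLocalIdeal_add h h'

theorem Cong.mul_left {a b : ℂ} (c : ℂ) (hc : Cfsg.MemLocalRing M c) (h : Cong M a b) :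
    Cong M (c * a) (c * b) := by
  rw [Cong, ← mul_sub]; exact memLocalIdeal_mul_left hc h

theorem Cong.mul_right {a b : ℂ} (c : ℂ) (hc : Cfsg.MemLocalRing M c) (h : Cong M a b) :
    Cong M (a * c) (b * c) := by
  rw [Cong, ← sub_mul]; exact memLocalIdeal_mul_right h hc

theorem Cong.sum {ι : Type*} (s : Finset ι) {f g : ι → ℂ} (h : ∀ i ∈ s, Cong M (f i) (g i)) :
    Cong M (∑ i ∈ s, f i) (∑ i ∈ s, g i) := by
  classical
  induction s using Finset.induction_on with
  | empty => exact Cong.refl _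
  | insert a t ha ih =>
    rw [Finset.sum_insert ha, Finset.sum_insert ha, Cong, add_sub_add_comm]
    exact memLocalIdeal_add (h a (Finset.mem_insert_self a t))
      (ih fun i hi => h i (Finset.mem_insert_of_mem hi))

theorem Cong.not_mem {a b : ℂ} (h : Cong M a b) (hb : ¬ Cfsg.MemLocalIdeal M b) :
    ¬ Cfsg.MemLocalIdeal M a := fun ha => hb (by simpa using memLocalIdeal_sub ha h)

variable {B : Set (IrrCharacter G)} {b : Set (IrrCharacter (Subgroup.centralizer ({x} : Set G)))}

include hM in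
omit [Fact p.Prime] in
theorem cong_secRoot [Fact p.Prime] {k : ℕ} (hk : orderOf x = p ^ k) (ξ : IrrCharacter (Subgroup.centralizer ({x} : Set G))) :
    Cong M (secRoot x ξ) 1 ∧ Cfsg.MemLocalRing M (secRoot x ξ) := by
  have hint : IsIntegral ℤ (secRoot x ξ) := by
    refine IsIntegral.of_pow (pow_pos (Fact.out : p.Prime).pos k) ?_
    rw [secRoot_pow hk]
    exact isIntegral_one
  have hm := memLocalRing_of_isIntegral (M := M) hint
  refine ⟨?_, hm⟩
  have h := red_eq_one_of_pow_eq_one hM (z := (⟨secRoot x ξ, hm⟩ : localRing M)) (k := k)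
    (Subtype.ext (secRoot_pow hk ξ))
  rw [← map_one (red M), red_eq_red_iff] at h
  simpa [Cong] using h

include hM in
/-- The roots of unity in a contribution are congruent to one. -/
theorem cong_term {k : ℕ} (hk : orderOf x = p ^ k)
    (ξ η : IrrCharacter (Subgroup.centralizer ({x} : Set G))) (n m : ℕ) (z : ℤ) :
    Cong M ((n : ℂ) * secRoot x ξ * ((m : ℂ) * conj (secRoot x η)) * (z : ℂ))
      ((n : ℂ) * (m : ℂ) * (z : ℂ)) := by
  obtain ⟨hc, hcm⟩ := cong_secRoot hM hk ξ
  obtain ⟨hd, hdm⟩ := cong_secRoot hM hk η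
  have hp1 : 1 ≤ p ^ k := Nat.one_le_pow _ _ (Fact.out : p.Prime).pos
  have hw := secRoot_pow hk η (p := p)
  have hn1 : ‖secRoot x η‖ = 1 :=
    Complex.norm_eq_one_of_pow_eq_one hw (Nat.one_le_iff_ne_zero.1 hp1)
  have hinv : conj (secRoot x η) * secRoot x η = 1 := by
    rw [mul_comm, Complex.mul_conj', hn1]; simp
  have hcj : Cfsg.MemLocalRing M (conj (secRoot x η)) := by
    refine memLocalRing_of_isIntegral (IsIntegral.of_pow (pow_pos (Fact.out : p.Prime).pos k) ?_)
    rw [← map_pow, hw, map_one]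
    exact isIntegral_one
  have hd' : Cong M (conj (secRoot x η)) 1 := by
    have h := (hd.symm).mul_left (conj (secRoot x η)) hcj
    rwa [hinv, mul_one] at h
  have h2 : Cong M (secRoot x ξ * conj (secRoot x η)) 1 :=
    ((Cong.mul_left _ hcm hd').trans (by rw [mul_one]; exact hc))
  have h3 := h2.mul_left ((n : ℂ) * (m : ℂ) * (z : ℂ))
    ((localRing M).mul_mem ((localRing M).mul_mem (memLocalRing_natCast _) (memLocalRing_natCast _))
      (memLocalRing_of_isIntegral isIntegral_algebraMap))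
  rw [mul_one] at h3
  refine Eq.subst (motive := fun t => Cong M t _) ?_ h3
  ring

include hM in
theorem cong_regSum_restrict (hind : Cfsg.IsInducedBlock M (Subgroup.centralizer ({x} : Set G)) b B) {ξ : IrrCharacter (Subgroup.centralizer ({x} : Set G))} (hξ : ξ ∈ b)
    {χ0 : IrrCharacter G} (hχ0 : χ0 ∈ B) (χ : IrrCharacter G) :
    Cong M (regSum p (ξ : (Subgroup.centralizer ({x} : Set G)) → ℂ) (fun c : (Subgroup.centralizer ({x} : Set G)) => (χ : G → ℂ) c))
      (regSum p (χ0 : G → ℂ) χ) := by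
  classical
  haveI := Fintype.ofFinite (ConjClasses G)
  rw [regSum_eq_classes]
  have h1 : regSum p (ξ : (Subgroup.centralizer ({x} : Set G)) → ℂ) (fun c : (Subgroup.centralizer ({x} : Set G)) => (χ : G → ℂ) c) =
      ∑ C : ConjClasses G, if p ∣ orderOf (Quotient.out C) then 0 else
        Cfsg.inducedCentralChar (Subgroup.centralizer ({x} : Set G)) (ξ : (Subgroup.centralizer ({x} : Set G)) → ℂ) (Quotient.out C) *
          conj ((χ : G → ℂ) (Quotient.out C)) := by
    rw [regSum, ← Finset.sum_fiberwise Finset.univ (fun h : (Subgroup.centralizer ({x} : Set G)) => ConjClasses.mk (h : G))]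
    refine Finset.sum_congr rfl fun C _ => ?_
    have hC : ConjClasses.mk (Quotient.out C) = C := Quotient.out_eq C
    have hmem : ∀ h : (Subgroup.centralizer ({x} : Set G)), ConjClasses.mk (h : G) = C ↔ IsConj (Quotient.out C) (h : G) := fun h => by
      rw [← ConjClasses.mk_eq_mk_iff_isConj, hC]; exact eq_comm
    rw [Finset.sum_congr rfl (g := fun h : (Subgroup.centralizer ({x} : Set G)) => if p ∣ orderOf (Quotient.out C) then 0 else
      (ξ : (Subgroup.centralizer ({x} : Set G)) → ℂ) h / (ξ : (Subgroup.centralizer ({x} : Set G)) → ℂ) 1 * conj ((χ : G → ℂ) (Quotient.out C)))]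
    · split_ifs with hp
      · exact Finset.sum_const_zero
      · rw [← Finset.sum_mul, Cfsg.inducedCentralChar, finsum_mem_def, finsum_eq_sum_of_fintype,
          Finset.sum_filter]
        congr 1
        refine Finset.sum_congr rfl fun h _ => ?_
        simp only [Set.indicator_apply, Set.mem_setOf_eq, hmem]
    · intro h hh
      obtain ⟨c, hc⟩ := isConj_iff.1 ((hmem h).1 (Finset.mem_filter.1 hh).2)
      rw [← Subgroup.orderOf_coe h, ← hc, Characters.isClassFunction_of_isIrr χ.2,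
        show c * Quotient.out C * c⁻¹ = MulAut.conj c (Quotient.out C) from rfl, MulEquiv.orderOf_eq]
  rw [h1]
  refine Cong.sum _ fun C _ => ?_
  split_ifs
  · exact Cong.refl _
  · refine Cong.mul_right _ ?_ (hind.2.2 ξ hξ χ0 hχ0 (Quotient.out C))
    rw [← Characters.character_inv (Characters.isCharacter_of_isIrr χ.2)]
    exact memLocalRing_char χ _

/-- The factor between regular sums and regular inner products of defect `q`. -/
noncomputable def defScale (p q : ℕ) {H : Type u} [Group H] (ξ : IrrCharacter H) : ℂ :=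
  ((p ^ q : ℕ) : ℂ) * (ξ : H → ℂ) 1 / (Nat.card H : ℂ)

theorem defScale_mul_regSum (q : ℕ) (ξ : IrrCharacter (Subgroup.centralizer ({x} : Set G))) (f : (Subgroup.centralizer ({x} : Set G)) → ℂ) :
    defScale p q ξ * regSum p (ξ : (Subgroup.centralizer ({x} : Set G)) → ℂ) f = ((p ^ q : ℕ) : ℂ) * regInner p (ξ : (Subgroup.centralizer ({x} : Set G)) → ℂ) f := by
  have h1 := Characters.irr_one_ne_zero ξ.2
  have h2 : (Nat.card (Subgroup.centralizer ({x} : Set G)) : ℂ) ≠ 0 := Nat.cast_ne_zero.2 Nat.card_pos.ne'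
  rw [regSum_eq, defScale]
  field_simp

include hM in
theorem defScale_spec {H : Type u} [Group H] [Fintype H] {e : Set (IrrCharacter H)}
    {ξ : IrrCharacter H} (hξ : ξ ∈ e) :
    Cfsg.MemLocalRing M (defScale p (Cfsg.blockDefect p e) ξ) ∧
      ((∀ η ∈ e, (Cfsg.charDegree (ξ : H → ℂ)).factorization p ≤
          (Cfsg.charDegree (η : H → ℂ)).factorization p) →
        ¬ Cfsg.MemLocalIdeal M (defScale p (Cfsg.blockDefect p e) ξ)) := by
  have hp : p.Prime := Fact.out
  set q := Cfsg.blockDefect p e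
  set v := (Cfsg.charDegree (ξ : H → ℂ)).factorization p with hv
  set a := (Nat.card H).factorization p
  have hge : a ≤ q + v := by
    have : a - v ≤ q := BlockPairing.factorization_sub_le_blockDefect hξ
    omega
  obtain ⟨n, hn, hnp⟩ : ∃ n, Cfsg.charDegree (ξ : H → ℂ) = p ^ v * n ∧ ¬ p ∣ n :=
    ⟨_, (Nat.ordProj_mul_ordCompl_eq_self _ p).symm,
      Nat.not_dvd_ordCompl hp (charDegree_ne_zero ξ)⟩
  obtain ⟨m, hm, hmp⟩ : ∃ m, Nat.card H = p ^ a * m ∧ ¬ p ∣ m :=
    ⟨_, (Nat.ordProj_mul_ordCompl_eq_self _ p).symm, Nat.not_dvd_ordCompl hp Nat.card_pos.ne'⟩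
  have hm0 : (m : ℂ) ≠ 0 := Nat.cast_ne_zero.2 fun h0 => hmp (h0 ▸ dvd_zero p)
  have hp0 : (p : ℂ) ≠ 0 := Nat.cast_ne_zero.2 hp.ne_zero
  have e1 : defScale p q ξ = ((p ^ (q + v - a) * n : ℕ) : ℂ) * (m : ℂ)⁻¹ := by
    rw [defScale, ← charDegree_cast, hn, hm]
    push_cast
    field_simp
    rw [← pow_add, show (p : ℂ) ^ (q + v) = (p : ℂ) ^ a * (p : ℂ) ^ (q + v - a) by
      rw [← pow_add, Nat.add_sub_cancel' hge]]
    ring
  have hinv := memLocalRing_natCast_inv hM hmp
  refine ⟨?_, fun hmin => ?_⟩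
  · rw [e1]
    exact (localRing M).mul_mem (memLocalRing_natCast _) hinv
  · have hq : q + v - a = 0 := by
      have hq' : q = a - sInf ((fun χ : IrrCharacter H =>
          (Cfsg.charDegree (χ : H → ℂ)).factorization p) '' e) := rfl
      have hle := le_csInf (Set.image_nonempty.2 ⟨ξ, hξ⟩)
        (s := (fun χ : IrrCharacter H => (Cfsg.charDegree (χ : H → ℂ)).factorization p) '' e)
        (by rintro _ ⟨η, hη, rfl⟩; exact hmin η hη)
      have hle' : v ≤ sInf ((fun χ : IrrCharacter H =>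
          (Cfsg.charDegree (χ : H → ℂ)).factorization p) '' e) := hle
      have hva : v ≤ a := (Nat.factorization_le_iff_dvd (charDegree_ne_zero ξ) Nat.card_pos.ne').2
        (charDegree_dvd_card ξ) p
      omega
    intro hI
    have h3 := memLocalIdeal_mul_right hI (memLocalRing_natCast m)
    rw [e1, inv_mul_cancel_right₀ hm0, hq, pow_zero, one_mul, memLocalIdeal_natCast_iff hM] at h3
    exact hnp h3

/-- The subsection contribution `p ^ q * secInner`. -/
noncomputable def subContrib (p : ℕ) (x : G) [Fintype (Subgroup.centralizer ({x} : Set G))]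
    (b : Set (IrrCharacter (Subgroup.centralizer ({x} : Set G)))) (χ ψ : G → ℂ) : ℂ :=
  ((p ^ Cfsg.blockDefect p b : ℕ) : ℂ) * secInner p x b χ ψ

include hM in
open Classical in
/-- The contributions are combinations of integers with roots of unity. -/
theorem subContrib_expand (χ ψ : IrrCharacter G) :
    ∃ (n m : IrrCharacter (Subgroup.centralizer ({x} : Set G)) → ℕ) (z : IrrCharacter (Subgroup.centralizer ({x} : Set G)) → IrrCharacter (Subgroup.centralizer ({x} : Set G)) → ℤ),
      (∀ ξ η, ξ ∈ b → (z ξ η : ℂ) = defScale p (Cfsg.blockDefect p b) ξ * regSum p (ξ : (Subgroup.centralizer ({x} : Set G)) → ℂ) η) ∧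
      (∀ ξ η, ξ ∈ b → η ∈ b → z ξ η = z η ξ) ∧
      (∀ ξ : IrrCharacter (Subgroup.centralizer ({x} : Set G)), (n ξ : ℂ) = Cfsg.classInner (fun c : (Subgroup.centralizer ({x} : Set G)) => (χ : G → ℂ) c) (ξ : (Subgroup.centralizer ({x} : Set G)) → ℂ)) ∧
      (∀ ξ : IrrCharacter (Subgroup.centralizer ({x} : Set G)), (m ξ : ℂ) = Cfsg.classInner (fun c : (Subgroup.centralizer ({x} : Set G)) => (ψ : G → ℂ) c) (ξ : (Subgroup.centralizer ({x} : Set G)) → ℂ)) ∧
      subContrib p x b (χ : G → ℂ) ψ = ∑ ξ ∈ b.toFinset, ∑ η ∈ b.toFinset,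
        ((n ξ : ℂ) * secRoot x ξ) * ((m η : ℂ) * conj (secRoot x η)) * (z ξ η : ℂ) := by
  choose n hn using fun ξ : IrrCharacter (Subgroup.centralizer ({x} : Set G)) => Characters.classInner_character_irr
    (Characters.isCharacter_restrict (Subgroup.centralizer ({x} : Set G)) (Characters.isCharacter_of_isIrr χ.2)) ξ.2
  choose m hm using fun ξ : IrrCharacter (Subgroup.centralizer ({x} : Set G)) => Characters.classInner_character_irr
    (Characters.isCharacter_restrict (Subgroup.centralizer ({x} : Set G)) (Characters.isCharacter_of_isIrr ψ.2)) ξ.2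
  have hz : ∀ ξ η : IrrCharacter (Subgroup.centralizer ({x} : Set G)), ∃ z : ℤ, ξ ∈ b →
      ((p ^ Cfsg.blockDefect p b : ℕ) : ℂ) * regInner p (ξ : (Subgroup.centralizer ({x} : Set G)) → ℂ) η = z := fun ξ η => by
    by_cases h : ξ ∈ b
    · obtain ⟨z, hz⟩ := exists_int_pow_defect (p := p) h η
      exact ⟨z, fun _ => hz⟩
    · exact ⟨0, fun h' => absurd h' h⟩
  choose z hz using hz
  refine ⟨n, m, z, fun ξ η h => ?_, fun ξ η h h' => ?_, fun ξ => (hn ξ).symm, fun ξ => (hm ξ).symm, ?_⟩
  · rw [defScale_mul_regSum, hz ξ η h]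
  · refine Int.cast_injective (α := ℂ) ?_
    rw [← hz ξ η h, ← hz η ξ h', regInner_symm p ξ η]
  · rw [subContrib, secInner]
    unfold secVal
    rw [regInner_sum_left, Finset.mul_sum]
    refine Finset.sum_congr rfl fun ξ hξ => ?_
    rw [regInner_sum_right, Finset.mul_sum, Finset.mul_sum]
    refine Finset.sum_congr rfl fun η _ => ?_
    rw [← hz ξ η (Set.mem_toFinset.1 hξ), secCoef_eq, secCoef_eq, hn, hm, map_mul,
      Complex.conj_natCast]
    ring

include hM in
open Classical in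
theorem memLocalIdeal_sub_regSum (hb : Cfsg.IsPBlock M b) (χ : IrrCharacter G) {ξ : IrrCharacter (Subgroup.centralizer ({x} : Set G))}
    (hξ : ξ ∈ b) (n : IrrCharacter (Subgroup.centralizer ({x} : Set G)) → ℕ)
    (hn : ∀ η : IrrCharacter (Subgroup.centralizer ({x} : Set G)), (n η : ℂ) = Cfsg.classInner (fun c : (Subgroup.centralizer ({x} : Set G)) => (χ : G → ℂ) c) (η : (Subgroup.centralizer ({x} : Set G)) → ℂ)) :
    regSum p (ξ : (Subgroup.centralizer ({x} : Set G)) → ℂ) (fun c : (Subgroup.centralizer ({x} : Set G)) => (χ : G → ℂ) c) =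
      ∑ η ∈ b.toFinset, (n η : ℂ) * regSum p (ξ : (Subgroup.centralizer ({x} : Set G)) → ℂ) η := by
  have hexp := Characters.character_expansion
    (Characters.isCharacter_restrict (Subgroup.centralizer ({x} : Set G)) (Characters.isCharacter_of_isIrr χ.2))
  have h1 : (fun c : (Subgroup.centralizer ({x} : Set G)) => (χ : G → ℂ) c) = fun c => ∑ η : IrrCharacter (Subgroup.centralizer ({x} : Set G)), (n η : ℂ) * (η : (Subgroup.centralizer ({x} : Set G)) → ℂ) c := by
    rw [hexp]; funext c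
    simp [Finset.sum_apply, hn]
  simp only [regSum_eq, h1, regInner_sum_right, Finset.mul_sum, Complex.conj_natCast]
  rw [← Finset.sum_subset (Finset.subset_univ b.toFinset)]
  · exact Finset.sum_congr rfl fun η _ => by ring
  intro η _ hη
  rw [Contributions.regInner_eq_zero hM hb hξ (fun h => hη (Set.mem_toFinset.2 h))]
  simp

include hM in
open Classical in
/-- The contribution at two characters of height zero is a unit. -/
theorem subContrib_unit (hx : ∃ k, orderOf x = p ^ k) (hB : Cfsg.IsPBlock M B)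
    (hind : Cfsg.IsInducedBlock M (Subgroup.centralizer ({x} : Set G)) b B) {χ ψ : IrrCharacter G} (hχ : χ ∈ B) (hψ : ψ ∈ B)
    (hχ0 : Cfsg.blockHeight p B (χ : G → ℂ) = 0) (hψ0 : Cfsg.blockHeight p B (ψ : G → ℂ) = 0) :
    ¬ Cfsg.MemLocalIdeal M (subContrib p x b (χ : G → ℂ) ψ) := by
  obtain ⟨k, hk⟩ := hx
  obtain ⟨n, m, z, hz, hzs, hn, hm, he⟩ := subContrib_expand hM (b := b) χ ψ
  set q := Cfsg.blockDefect p b
  have hb := hind.1
  obtain ⟨ξ0, hξ0, hmin, -⟩ := exists_minimal (p := p) hb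
  set uχ := regSum p (χ : G → ℂ) χ
  set uψ := regSum p (ψ : G → ℂ) ψ
  set P : ℂ := ∑ ξ ∈ b.toFinset, (n ξ : ℂ) * defScale p q ξ
  have hρ : ∀ ξ ∈ b, Cfsg.MemLocalRing M (defScale p q ξ) := fun ξ h => (defScale_spec hM h).1
  have hint : IsIntegral ℤ uψ ∧ IsIntegral ℤ uχ := ⟨isIntegral_regSum p ψ ψ, isIntegral_regSum p χ χ⟩
  -- the contribution is congruent to `P * uψ`
  have h1 : Cong M (subContrib p x b (χ : G → ℂ) ψ) (P * uψ) := by
    rw [he]
    have hA : Cong M (∑ ξ ∈ b.toFinset, ∑ η ∈ b.toFinset,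
        ((n ξ : ℂ) * secRoot x ξ) * ((m η : ℂ) * conj (secRoot x η)) * (z ξ η : ℂ))
        (∑ ξ ∈ b.toFinset, ∑ η ∈ b.toFinset, (n ξ : ℂ) * (m η : ℂ) * (z ξ η : ℂ)) := by
      exact Cong.sum _ fun ξ _ => Cong.sum _ fun η _ => cong_term hM hk ξ η _ _ _
    refine hA.trans ?_
    have e2 : ∀ ξ ∈ b.toFinset, ∑ η ∈ b.toFinset, (n ξ : ℂ) * (m η : ℂ) * (z ξ η : ℂ) =
        (n ξ : ℂ) * defScale p q ξ * regSum p (ξ : (Subgroup.centralizer ({x} : Set G)) → ℂ) (fun c : (Subgroup.centralizer ({x} : Set G)) => (ψ : G → ℂ) c) := by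
      intro ξ hξ
      rw [memLocalIdeal_sub_regSum hM hb ψ (Set.mem_toFinset.1 hξ) m hm, Finset.mul_sum]
      exact Finset.sum_congr rfl fun η _ => by rw [hz ξ η (Set.mem_toFinset.1 hξ)]; ring
    rw [Finset.sum_congr rfl e2, Finset.sum_mul]
    exact Cong.sum _ fun ξ hξ => (cong_regSum_restrict hM hind (Set.mem_toFinset.1 hξ) hψ ψ).mul_left _
      ((localRing M).mul_mem (memLocalRing_natCast _) (hρ ξ (Set.mem_toFinset.1 hξ)))
  -- `P` is a unit
  have h2 : Cong M (defScale p q ξ0 * uχ) (P * regSum p (ξ0 : (Subgroup.centralizer ({x} : Set G)) → ℂ) ξ0) := by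
    have e3 : defScale p q ξ0 * regSum p (ξ0 : (Subgroup.centralizer ({x} : Set G)) → ℂ) (fun c : (Subgroup.centralizer ({x} : Set G)) => (χ : G → ℂ) c) =
        ∑ η ∈ b.toFinset, (n η : ℂ) * defScale p q η * regSum p (η : (Subgroup.centralizer ({x} : Set G)) → ℂ) ξ0 := by
      rw [memLocalIdeal_sub_regSum hM hb χ hξ0 n hn, Finset.mul_sum]
      refine Finset.sum_congr rfl fun η hη => ?_
      rw [mul_left_comm, ← hz ξ0 η hξ0, hzs ξ0 η hξ0 (Set.mem_toFinset.1 hη),
        hz η ξ0 (Set.mem_toFinset.1 hη)]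
      ring
    refine ((cong_regSum_restrict hM hind hξ0 hχ χ).symm.mul_left _ (hρ ξ0 hξ0)).trans ?_
    rw [e3, Finset.sum_mul]
    refine Cong.sum _ fun η hη => Cong.mul_left _
      ((localRing M).mul_mem (memLocalRing_natCast _) (hρ η (Set.mem_toFinset.1 hη))) ?_
    refine memLocalIdeal_regSum_sub p ?_ ξ0
    have : η ∈ Cfsg.blockOf M (ξ0 : (Subgroup.centralizer ({x} : Set G)) → ℂ) := eq_blockOf_of_mem hb hξ0 ▸ (Set.mem_toFinset.1 hη)
    exact sameBlock_symm (mem_blockOf.1 this)
  have hu : ∀ φ ∈ B, Cfsg.blockHeight p B (φ : G → ℂ) = 0 →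
      ¬ Cfsg.MemLocalIdeal M (regSum p (φ : G → ℂ) φ) := fun φ hφ h0 =>
    regSum_not_mem_of_minimal hM hB hφ (Contributions.degree_le_of_height_zero hM hB hφ h0) hφ
  have hPm : Cfsg.MemLocalRing M P :=
    (localRing M).sum_mem fun ξ hξ =>
      (localRing M).mul_mem (memLocalRing_natCast _) (hρ ξ (Set.mem_toFinset.1 hξ))
  have hnm : ∀ a c : ℂ, Cfsg.MemLocalRing M a → Cfsg.MemLocalRing M c →
      ¬ Cfsg.MemLocalIdeal M a → ¬ Cfsg.MemLocalIdeal M c → ¬ Cfsg.MemLocalIdeal M (a * c) := by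
    intro a c ha hc hna hnc h
    have h' : red M (⟨a, ha⟩ * ⟨c, hc⟩ : localRing M) = 0 := red_eq_zero_iff.2 h
    rw [map_mul, mul_eq_zero] at h'
    rcases h' with h' | h'
    · exact hna (red_eq_zero_iff.1 h')
    · exact hnc (red_eq_zero_iff.1 h')
  have hP : ¬ Cfsg.MemLocalIdeal M P := fun h =>
    h2.symm.not_mem (hnm _ _ (hρ ξ0 hξ0) (memLocalRing_of_isIntegral hint.2)
      ((defScale_spec hM hξ0).2 hmin) (hu χ hχ hχ0))
      (memLocalIdeal_mul_right h (memLocalRing_of_isIntegral (isIntegral_regSum p ξ0 ξ0)))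
  exact h1.not_mem (hnm _ _ hPm (memLocalRing_of_isIntegral hint.1) hP (hu ψ hψ hψ0))

end CfsgLib.BlocksCharsC
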