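import Cfsg.Agent.BlocksCharsC.DefectOneColumns
import Cfsg.Agent.BlocksCharsC.RootSquares
import Cfsg.Agent.BlocksCharsC.SubsectionUnit
import Cfsg.Agent.BlocksCharsC.RegularSupport
import Cfsg.Agent.BlocksLocal.PrincipalSection
import Mathlib.Analysis.Complex.Polynomial.Basic

/-!
# Characters of degree prime to `p` in the principal block with a small centralizer

For a `p`-element `x ≠ 1` let `X` be the quotient of the centralizer of `x` by the powers of `x`.
An integer lower bound for the squared length of the integer vectors on the principal block of `X`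
which are orthogonal to the singular columns and proportional to the degrees modulo `p` gives an
upper bound for the number of characters of degree prime to `p` in the principal block of `G`.
-/

set_option autoImplicit false
set_option linter.style.haveILetI false
set_option linter.unusedSectionVars false

namespace CfsgLib.BlocksCharsC.SmallCent

open Cfsg CfsgLib.Blocks CfsgLib.BlockPairing
open scoped ComplexConjugate

universe u

/-- The vectors the bound is about. -/
def IsSpecial {X : Type u} [Group X] [Fintype X] (p : ℕ) (B : Finset (IrrCharacter X))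
    (w : IrrCharacter X → ℤ) : Prop :=
  (∀ ψ ∈ B, ∀ ψ' ∈ B, (p : ℤ) ∣
      w ψ * (Cfsg.charDegree (ψ' : X → ℂ) : ℤ) - w ψ' * (Cfsg.charDegree (ψ : X → ℂ) : ℤ)) ∧
    ∀ g : X, p ∣ orderOf g → ∑ ψ ∈ B, (w ψ : ℂ) * (ψ : X → ℂ) g = 0

section Quotient

variable {C : Type u} [Group C] [Fintype C] {p : ℕ} [hp : Fact p.Prime]
  {M : Ideal AlgInt} [M.IsPrime] (Q : Subgroup C) [Q.Normal] [Fintype (C ⧸ Q)]

theorem regular_mk {g : C} (hg : ¬ p ∣ orderOf g) : ¬ p ∣ orderOf (g : C ⧸ Q) := fun hd =>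
  hg (hd.trans (orderOf_map_dvd (QuotientGroup.mk' Q) g))

theorem exists_regular_lift {z : C ⧸ Q} (hz : ¬ p ∣ orderOf z) :
    ∃ g : C, ¬ p ∣ orderOf g ∧ (g : C ⧸ Q) = z := by
  obtain ⟨g, rfl⟩ := QuotientGroup.mk_surjective z
  set a := (orderOf g).factorization p
  obtain ⟨r, hr⟩ := exists_pow_eq_self_of_coprime (x := (g : C ⧸ Q)) (n := p ^ a)
    (Nat.Coprime.pow_left _ (hp.out.coprime_iff_not_dvd.2 hz))
  refine ⟨(g ^ p ^ a) ^ r, fun hd => ?_, by rw [QuotientGroup.mk_pow, QuotientGroup.mk_pow, hr]⟩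
  have h := hd.trans (orderOf_pow_dvd r)
  rw [orderOf_pow, Nat.gcd_eq_right (Nat.ordProj_dvd _ _)] at h
  exact Nat.not_dvd_ordCompl hp.out (orderOf_pos g).ne' h

variable (hQ : IsPGroup p Q) (hQc : Q ≤ Subgroup.center C)
include hQ hQc

theorem regular_eq_of_mk_eq {x y : C} (hx : ¬ p ∣ orderOf x) (hy : ¬ p ∣ orderOf y)
    (h : (x : C ⧸ Q) = (y : C ⧸ Q)) : x = y := by
  have hq : x⁻¹ * y ∈ Q := QuotientGroup.eq.1 h
  have hc : Commute x (x⁻¹ * y) := Subgroup.mem_center_iff.1 (hQc hq) x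
  obtain ⟨j, hj⟩ := hQ ⟨_, hq⟩
  have h1 : (x⁻¹ * y) ^ p ^ j = 1 := congrArg Subtype.val hj
  have h2 : (x⁻¹ * y) ^ (orderOf x * orderOf y) = 1 := by
    have hxy : Commute x⁻¹ y := by
      have h' : Commute x⁻¹ (x * (x⁻¹ * y)) := (Commute.refl x).inv_left.mul_right hc.inv_left
      rwa [mul_inv_cancel_left] at h'
    rw [hxy.mul_pow, inv_pow, pow_mul, pow_orderOf_eq_one, one_pow, inv_one, one_mul, mul_comm,
      pow_mul, pow_orderOf_eq_one, one_pow]
  have h3 := pow_gcd_eq_one.mpr ⟨h1, h2⟩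
  rw [Nat.Coprime.gcd_eq_one (Nat.Coprime.pow_left _ (hp.out.coprime_iff_not_dvd.2
    (fun hd => (hp.out.dvd_mul.1 hd).elim hx hy))), pow_one, inv_mul_eq_one] at h3
  exact h3

theorem index_centralizer_mk {x : C} (hx : ¬ p ∣ orderOf x) :
    (Subgroup.centralizer ({(x : C ⧸ Q)} : Set (C ⧸ Q))).index =
      (Subgroup.centralizer ({x} : Set C)).index := by
  rw [← Subgroup.index_comap_of_surjective (Subgroup.centralizer ({(x : C ⧸ Q)} : Set (C ⧸ Q)))
    (QuotientGroup.mk'_surjective Q)]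
  congr 1
  ext c
  simp only [Subgroup.mem_comap, Subgroup.mem_centralizer_singleton_iff, QuotientGroup.mk'_apply,
    ← QuotientGroup.mk_mul]
  refine ⟨fun h => ?_, fun h => by rw [h]⟩
  rw [← mul_inv_eq_iff_eq_mul]
  refine regular_eq_of_mk_eq Q hQ hQc ?_ hx ?_
  · rwa [show c * x * c⁻¹ = MulAut.conj c x from rfl, MulEquiv.orderOf_eq]
  · rw [QuotientGroup.mk_mul, h, QuotientGroup.mk_mul, QuotientGroup.mk_inv, mul_inv_cancel_right]

/-- Inflation keeps the principal block. -/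
theorem inflation_mem (hM : Cfsg.IsPModular p M) {ψ : IrrCharacter (C ⧸ Q)}
    (h : ψ ∈ Cfsg.principalBlock M (C ⧸ Q)) :
    (⟨fun g : C => (ψ : C ⧸ Q → ℂ) (g : C ⧸ Q), Characters.isIrr_comp (QuotientGroup.mk' Q)
      (QuotientGroup.mk'_surjective Q) ψ.2⟩ : IrrCharacter C) ∈ Cfsg.principalBlock M C := by
  refine mem_principalBlock_of_regular hM fun g hg => ?_
  have hi := index_centralizer_mk Q hQ hQc hg
  have e : Cfsg.centralChar (fun g : C => (ψ : C ⧸ Q → ℂ) (g : C ⧸ Q)) g =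
      Cfsg.centralChar (ψ : C ⧸ Q → ℂ) (g : C ⧸ Q) := by
    simp only [Cfsg.centralChar, QuotientGroup.mk_one, hi]
  rw [e, ← hi]
  exact BlocksCharsC.mem_principalBlock_iff.1 h (g : C ⧸ Q)

/-- The regular inner product of inflations. -/
theorem regInner_inflation (f₁ f₂ : C ⧸ Q → ℂ) :
    (Nat.card Q : ℂ) * regInner p (fun g : C => f₁ g) (fun g : C => f₂ g) =
      regInner p f₁ f₂ := by
  classical
  have hsum : (∑ g : C, if p ∣ orderOf g then 0 else f₁ g * conj (f₂ g)) =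
      ∑ z : C ⧸ Q, if p ∣ orderOf z then 0 else f₁ z * conj (f₂ z) := by
    rw [Finset.sum_ite, Finset.sum_ite, Finset.sum_const_zero, Finset.sum_const_zero, zero_add,
      zero_add]
    refine Finset.sum_bij (fun g _ => (g : C ⧸ Q)) (fun g hg => ?_) (fun a ha b hb h => ?_)
      (fun z hz => ?_) fun g _ => rfl
    · simp only [Finset.mem_filter, Finset.mem_univ, true_and] at hg ⊢
      exact regular_mk Q hg
    · simp only [Finset.mem_filter, Finset.mem_univ, true_and] at ha hb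
      exact regular_eq_of_mk_eq Q hQ hQc ha hb h
    · simp only [Finset.mem_filter, Finset.mem_univ, true_and] at hz
      obtain ⟨g, hg, rfl⟩ := exists_regular_lift Q hz
      exact ⟨g, by simpa using hg, rfl⟩
  have hQ0 : (Nat.card Q : ℂ) ≠ 0 := Nat.cast_ne_zero.2 Nat.card_pos.ne'
  rw [regInner, regInner, hsum, Subgroup.card_eq_card_quotient_mul_card_subgroup Q, Nat.cast_mul,
    mul_inv, ← mul_assoc, ← mul_assoc, mul_comm (Nat.card Q : ℂ), mul_assoc (Nat.card (C ⧸ Q) : ℂ)⁻¹,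
    mul_comm (Nat.card Q : ℂ), inv_mul_cancel₀ hQ0]
  simp

end Quotient

variable {G : Type u} [Group G] [Fintype G] {p : ℕ} [hp : Fact p.Prime] {M : Ideal AlgInt}
  [M.IsPrime]

/-- The orthogonality of the translates, for an element with the given centralizer. -/
theorem sum_translate_regInner (hM : Cfsg.IsPModular p M) (y : G) (hy : ∃ k, orderOf y = p ^ k)
    (C : Subgroup G) [Fintype C] (hC : Subgroup.centralizer ({y} : Set G) = C)
    (ξ : IrrCharacter C) :
    ∑ χ : IrrCharacter G, regInner p (ξ : C → ℂ) (fun c : C => (χ : G → ℂ) (y * (c : G))) *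
        conj (regInner p (ξ : C → ℂ) (fun c : C => (χ : G → ℂ) (y * (c : G)))) =
      regInner p (ξ : C → ℂ) ξ := by
  subst hC
  rw [← sum_secReg_mul_conj hM hy ξ ξ]
  refine Finset.sum_congr rfl fun χ _ => ?_
  rw [secReg, regInner_conj, mul_comm, ← regInner_conj (H := Subgroup.centralizer ({y} : Set G))
    (fun c : Subgroup.centralizer ({y} : Set G) => (χ : G → ℂ) (y * (c : G))) ξ]

variable {x : G} [Fintype (Subgroup.centralizer ({x} : Set G))]

theorem apply_selfCent_pow_mul (ξ : IrrCharacter (Subgroup.centralizer ({x} : Set G))) (j : ℕ)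
    (c : Subgroup.centralizer ({x} : Set G)) :
    (ξ : Subgroup.centralizer ({x} : Set G) → ℂ) (selfCent x ^ j * c) =
      secRoot x ξ ^ j * (ξ : Subgroup.centralizer ({x} : Set G) → ℂ) c := by
  have h1 := Characters.irr_one_ne_zero ξ.2
  induction j with
  | zero => simp
  | succ j ih =>
    have h := irr_central_mul ξ.2 (selfCent_mem_center (x := x)) (selfCent x ^ j * c)
    rw [pow_succ' (selfCent x), mul_assoc, ← mul_left_inj' h1, h, ih, pow_succ' (secRoot x ξ)]
    show _ = secRoot x ξ * _ * _ * _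
    rw [secRoot]
    field_simp

open Classical in
/-- The count, from the bound `L` on special vectors of the quotient by the powers of `x`. -/
theorem count_le (hM : Cfsg.IsPModular p M) {k : ℕ} (hk : orderOf x = p ^ (k + 1)) {d : ℕ}
    (hd : (Nat.card (Subgroup.centralizer ({x} : Set G))).factorization p = d)
    {Q : Subgroup (Subgroup.centralizer ({x} : Set G))} [Q.Normal]
    (hQ : Q = Subgroup.zpowers (selfCent x))
    [Fintype ((Subgroup.centralizer ({x} : Set G)) ⧸ Q)] (L R : ℕ) (hL0 : 0 < L)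
    (hR : Cfsg.blockRank p (Cfsg.principalBlock M (Subgroup.centralizer ({x} : Set G) ⧸ Q)) ≤ R)
    (hL : ∀ w : IrrCharacter (Subgroup.centralizer ({x} : Set G) ⧸ Q) → ℤ,
      IsSpecial p (Cfsg.principalBlock M (Subgroup.centralizer ({x} : Set G) ⧸ Q)).toFinset w →
      (∃ ψ ∈ (Cfsg.principalBlock M (Subgroup.centralizer ({x} : Set G) ⧸ Q)).toFinset, w ψ ≠ 0) →
      (L : ℤ) ≤ ∑ ψ ∈ (Cfsg.principalBlock M (Subgroup.centralizer ({x} : Set G) ⧸ Q)).toFinset,
        w ψ ^ 2)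
    (hnum : p ^ (2 * d) * R ≤ p ^ 2 * (L * p ^ (k + 1))) :
    Nat.card {χ : IrrCharacter G // χ ∈ Cfsg.principalBlock M G ∧
      ¬ p ∣ Cfsg.charDegree (χ : G → ℂ)} ≤ p ^ 2 := by
  have hxo : ∃ j, orderOf x = p ^ j := ⟨k + 1, hk⟩
  set B := (Cfsg.principalBlock M ((Subgroup.centralizer ({x} : Set G)) ⧸ Q)).toFinset with hB
  have hsc : orderOf (selfCent x) = p ^ (k + 1) := by
    rw [← Subgroup.orderOf_coe]; exact hk
  have hQcard : Nat.card Q = p ^ (k + 1) := by rw [hQ, Nat.card_zpowers, hsc]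
  have hQp : IsPGroup p Q := IsPGroup.of_card hQcard
  have hQc : Q ≤ Subgroup.center (Subgroup.centralizer ({x} : Set G)) := by
    rw [hQ, Subgroup.zpowers_le]; exact selfCent_mem_center
  let infl : IrrCharacter ((Subgroup.centralizer ({x} : Set G)) ⧸ Q) → IrrCharacter (Subgroup.centralizer ({x} : Set G)) := fun ψ =>
    ⟨fun g => (ψ : (Subgroup.centralizer ({x} : Set G)) ⧸ Q → ℂ) (g : (Subgroup.centralizer ({x} : Set G)) ⧸ Q), Characters.isIrr_comp (QuotientGroup.mk' Q)
      (QuotientGroup.mk'_surjective Q) ψ.2⟩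
  -- the integers
  have hzex : ∀ (ψ : IrrCharacter ((Subgroup.centralizer ({x} : Set G)) ⧸ Q)) (η : IrrCharacter (Subgroup.centralizer ({x} : Set G))), ∃ z : ℤ,
      ((p ^ d : ℕ) : ℂ) * regInner p (infl ψ : (Subgroup.centralizer ({x} : Set G)) → ℂ) η = z := fun ψ η =>
    hd ▸ exists_int_regInner p (infl ψ) η
  choose z hz using hzex
  have hCcard : ∃ m, Nat.card (Subgroup.centralizer ({x} : Set G)) = p ^ d * m ∧ ¬ p ∣ m :=
    by
      rw [← hd]
      exact ⟨_, (Nat.ordProj_mul_ordCompl_eq_self _ p).symm,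
        Nat.not_dvd_ordCompl hp.out Nat.card_pos.ne'⟩
  obtain ⟨m, hm, hpm⟩ := hCcard
  have hm0 : (m : ℂ) ≠ 0 := Nat.cast_ne_zero.2 fun h => hpm (h ▸ dvd_zero p)
  have hp0 : (p : ℂ) ≠ 0 := Nat.cast_ne_zero.2 hp.out.ne_zero
  have hscale : ∀ (ψ : IrrCharacter ((Subgroup.centralizer ({x} : Set G)) ⧸ Q)) (f : (Subgroup.centralizer ({x} : Set G)) → ℂ),
      ((p ^ d : ℕ) : ℂ) * regInner p (infl ψ : (Subgroup.centralizer ({x} : Set G)) → ℂ) f =
        (Cfsg.charDegree (ψ : (Subgroup.centralizer ({x} : Set G)) ⧸ Q → ℂ) : ℂ) * (m : ℂ)⁻¹ * regSum p (infl ψ : (Subgroup.centralizer ({x} : Set G)) → ℂ) f := by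
    intro ψ f
    have h1 : (infl ψ : (Subgroup.centralizer ({x} : Set G)) → ℂ) 1 = (Cfsg.charDegree (ψ : (Subgroup.centralizer ({x} : Set G)) ⧸ Q → ℂ) : ℂ) := by
      rw [charDegree_cast]; rfl
    have h2 : (Cfsg.charDegree (ψ : (Subgroup.centralizer ({x} : Set G)) ⧸ Q → ℂ) : ℂ) ≠ 0 :=
      Nat.cast_ne_zero.2 (charDegree_ne_zero ψ)
    rw [regSum_eq, h1, hm]
    push_cast
    field_simp
  have hzcong : ∀ η, ∀ ψ ∈ B, ∀ ψ' ∈ B, (p : ℤ) ∣ z ψ η * (Cfsg.charDegree (ψ' : (Subgroup.centralizer ({x} : Set G)) ⧸ Q → ℂ) : ℤ) -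
      z ψ' η * (Cfsg.charDegree (ψ : (Subgroup.centralizer ({x} : Set G)) ⧸ Q → ℂ) : ℤ) := by
    intro η ψ hψ ψ' hψ'
    have hs : Cfsg.SameBlock M (infl ψ : (Subgroup.centralizer ({x} : Set G)) → ℂ) (infl ψ' : (Subgroup.centralizer ({x} : Set G)) → ℂ) := by
      have h1 := inflation_mem Q hQp hQc hM (Set.mem_toFinset.1 hψ)
      have h2 := inflation_mem Q hQp hQc hM (Set.mem_toFinset.1 hψ')
      rw [PrincipalBlock.principalBlock_eq, mem_blockOf] at h1 h2
      exact sameBlock_trans (sameBlock_symm h1) h2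
    set N : ℤ := z ψ η * (Cfsg.charDegree (ψ' : (Subgroup.centralizer ({x} : Set G)) ⧸ Q → ℂ) : ℤ) -
      z ψ' η * (Cfsg.charDegree (ψ : (Subgroup.centralizer ({x} : Set G)) ⧸ Q → ℂ) : ℤ)
    have hN : Cfsg.MemLocalIdeal M (N : ℂ) := by
      have e : (N : ℂ) = (Cfsg.charDegree (ψ : (Subgroup.centralizer ({x} : Set G)) ⧸ Q → ℂ) : ℂ) *
          (Cfsg.charDegree (ψ' : (Subgroup.centralizer ({x} : Set G)) ⧸ Q → ℂ) : ℂ) * (m : ℂ)⁻¹ *
            (regSum p (infl ψ : (Subgroup.centralizer ({x} : Set G)) → ℂ) η - regSum p (infl ψ' : (Subgroup.centralizer ({x} : Set G)) → ℂ) η) := by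
        simp only [N]
        push_cast
        rw [← hz, ← hz, hscale, hscale]
        ring
      rw [e]
      refine memLocalIdeal_mul_left ((localRing M).mul_mem ((localRing M).mul_mem
        (memLocalRing_natCast _) (memLocalRing_natCast _)) (memLocalRing_natCast_inv hM hpm)) ?_
      exact memLocalIdeal_regSum_sub p hs η
    rcases Int.natAbs_eq N with h | h <;> rw [h] at hN
    · rw [Int.cast_natCast, memLocalIdeal_natCast_iff hM] at hN
      exact Int.natCast_dvd.2 hN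
    · rw [Int.cast_neg, Int.cast_natCast] at hN
      have hN' := memLocalIdeal_neg hN
      rw [neg_neg, memLocalIdeal_natCast_iff hM] at hN'
      exact Int.natCast_dvd.2 hN'
  have hBu : IsBlockUnion M (Cfsg.principalBlock M ((Subgroup.centralizer ({x} : Set G)) ⧸ Q)) :=
    isBlockUnion_of_isPBlock BlocksCharsC.isPBlock_principalBlock
  have hzorth : ∀ η, ∀ g : (Subgroup.centralizer ({x} : Set G)) ⧸ Q, p ∣ orderOf g →
      ∑ ψ ∈ B, (z ψ η : ℂ) * (ψ : (Subgroup.centralizer ({x} : Set G)) ⧸ Q → ℂ) g = 0 := by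
    intro η g hg
    simp only [← hz, regInner, Finset.mul_sum, Finset.sum_mul]
    rw [Finset.sum_comm]
    refine Finset.sum_eq_zero fun c _ => ?_
    by_cases hc : p ∣ orderOf c
    · simp [hc]
    simp only [if_neg hc]
    have h := sum_union_mul_conj_eq_zero hM hBu (regular_mk Q hc) (y := g⁻¹)
      (by rwa [orderOf_inv])
    rw [← Finset.sum_filter, show (Finset.univ.filter fun ψ =>
      ψ ∈ Cfsg.principalBlock M ((Subgroup.centralizer ({x} : Set G)) ⧸ Q)) = B by ext ψ; simp [hB]] at h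
    have h' : ∀ ψ : IrrCharacter ((Subgroup.centralizer ({x} : Set G)) ⧸ Q), conj ((ψ : (Subgroup.centralizer ({x} : Set G)) ⧸ Q → ℂ) g⁻¹) = (ψ : (Subgroup.centralizer ({x} : Set G)) ⧸ Q → ℂ) g :=
      fun ψ => by
        rw [Characters.character_inv (Characters.isCharacter_of_isIrr ψ.2), Complex.conj_conj]
    simp only [h'] at h
    rw [← mul_zero (((p ^ d : ℕ) : ℂ) * (Nat.card (Subgroup.centralizer ({x} : Set G)) : ℂ)⁻¹ * conj ((η : (Subgroup.centralizer ({x} : Set G)) → ℂ) c)), ← h,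
      Finset.mul_sum]
    exact Finset.sum_congr rfl fun ψ _ => by simp only [infl]; ring
  -- the roots
  set q := p ^ k * p with hq
  have hqk : q = p ^ (k + 1) := (pow_succ p k).symm
  have hq0 : 0 < q := Nat.mul_pos (pow_pos hp.out.pos k) hp.out.pos
  haveI : NeZero q := ⟨hq0.ne'⟩
  have hζ := Complex.isPrimitiveRoot_exp q hq0.ne'
  set ζ := Complex.exp (2 * Real.pi * Complex.I / (q : ℂ))
  have hroot : ∀ η : IrrCharacter (Subgroup.centralizer ({x} : Set G)), ∃ a < q, ζ ^ a = conj (secRoot x η) := fun η => by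
    refine hζ.eq_pow_of_pow_eq_one ?_
    rw [hqk, ← map_pow, secRoot_pow hk η, map_one]
  choose aη haq haη using hroot
  -- the expansions
  choose n hn using fun (χ : IrrCharacter G) (η : IrrCharacter (Subgroup.centralizer ({x} : Set G))) =>
    Characters.classInner_character_irr (Characters.isCharacter_restrict (Subgroup.centralizer ({x} : Set G))
      (Characters.isCharacter_of_isIrr χ.2)) η.2
  let Nv : IrrCharacter G → IrrCharacter ((Subgroup.centralizer ({x} : Set G)) ⧸ Q) → ℕ → ℤ := fun χ ψ a =>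
    ∑ η ∈ Finset.univ.filter (fun η => aη η = a), (n χ η : ℤ) * z ψ η
  have hexp : ∀ (χ : IrrCharacter G) (j : ℕ) (c : (Subgroup.centralizer ({x} : Set G))), (χ : G → ℂ) (x ^ j * (c : G)) =
      ∑ η : IrrCharacter (Subgroup.centralizer ({x} : Set G)), ((n χ η : ℂ) * secRoot x η ^ j) * (η : (Subgroup.centralizer ({x} : Set G)) → ℂ) c := by
    intro χ j c
    have h := congrFun (Characters.character_expansion (Characters.isCharacter_restrict (Subgroup.centralizer ({x} : Set G))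
      (Characters.isCharacter_of_isIrr χ.2))) (selfCent x ^ j * c)
    simp only [Finset.sum_apply, Pi.smul_apply, smul_eq_mul] at h
    refine Eq.trans ?_ (h.trans (Finset.sum_congr rfl fun η _ => ?_))
    · rfl
    · rw [hn, apply_selfCent_pow_mul]; ring
  have hZ : ∀ (χ : IrrCharacter G) (ψ : IrrCharacter ((Subgroup.centralizer ({x} : Set G)) ⧸ Q)) (j : ℕ),
      ((p ^ d : ℕ) : ℂ) * regInner p (infl ψ : (Subgroup.centralizer ({x} : Set G)) → ℂ) (fun c : (Subgroup.centralizer ({x} : Set G)) => (χ : G → ℂ) (x ^ j * (c : G))) =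
        ∑ a ∈ Finset.range q, (Nv χ ψ a : ℂ) * ζ ^ (a * j) := by
    intro χ ψ j
    simp only [hexp χ j, regInner_sum_right, Finset.mul_sum]
    rw [← Finset.sum_fiberwise_of_maps_to (g := aη) (t := Finset.range q)
      fun η _ => Finset.mem_range.2 (haq η)]
    refine Finset.sum_congr rfl fun a _ => ?_
    simp only [Nv]
    push_cast
    rw [Finset.sum_mul]
    refine Finset.sum_congr rfl fun η hη => ?_
    rw [← hz, map_mul, map_pow, Complex.conj_natCast, ← haη, (Finset.mem_filter.1 hη).2, ← pow_mul]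
    push_cast
    ring
  -- the form
  let T : IrrCharacter G → ℤ := fun χ =>
    ∑ ψ ∈ B, RootSquares.fibreForm (p ^ k) p (Nv χ ψ)
  have hTeq : ∀ χ, T χ = ∑ b ∈ Finset.range (p ^ k), ∑ ψ ∈ B,
      ((p : ℤ) * ∑ c ∈ Finset.range p, Nv χ ψ (b + p ^ k * c) ^ 2 -
        (∑ c ∈ Finset.range p, Nv χ ψ (b + p ^ k * c)) ^ 2) := fun χ => by
    simp only [T, RootSquares.fibreForm]
    rw [Finset.sum_comm]
  have hdiff : ∀ χ b, 2 * (∑ ψ ∈ B, ((p : ℤ) * ∑ c ∈ Finset.range p, Nv χ ψ (b + p ^ k * c) ^ 2 -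
      (∑ c ∈ Finset.range p, Nv χ ψ (b + p ^ k * c)) ^ 2)) =
      ∑ c ∈ Finset.range p, ∑ c' ∈ Finset.range p, ∑ ψ ∈ B,
        (Nv χ ψ (b + p ^ k * c) - Nv χ ψ (b + p ^ k * c')) ^ 2 := by
    intro χ b
    rw [Finset.mul_sum]
    conv_rhs => arg 2; ext c; rw [Finset.sum_comm]
    rw [Finset.sum_comm]
    refine Finset.sum_congr rfl fun ψ _ => ?_
    have := RootSquares.sum_sq_sub_sq (Finset.range p) fun c => Nv χ ψ (b + p ^ k * c)
    rwa [Finset.card_range] at this
  have hpart : ∀ χ b, 0 ≤ ∑ ψ ∈ B, ((p : ℤ) * ∑ c ∈ Finset.range p, Nv χ ψ (b + p ^ k * c) ^ 2 -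
      (∑ c ∈ Finset.range p, Nv χ ψ (b + p ^ k * c)) ^ 2) := by
    intro χ b
    refine nonneg_of_mul_nonneg_right (a := (2 : ℤ)) ?_ two_pos
    rw [hdiff]
    exact Finset.sum_nonneg fun _ _ => Finset.sum_nonneg fun _ _ => Finset.sum_nonneg
      fun _ _ => sq_nonneg _
  have hspec : ∀ χ a a', IsSpecial p B fun ψ => Nv χ ψ a - Nv χ ψ a' := by
    intro χ a a'
    have key : ∀ a, IsSpecial p B fun ψ => Nv χ ψ a := by
      intro a
      refine ⟨fun ψ hψ ψ' hψ' => ?_, fun g hg => ?_⟩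
      · simp only [Nv, Finset.sum_mul, ← Finset.sum_sub_distrib]
        refine Finset.dvd_sum fun η _ => ?_
        rw [mul_assoc, mul_assoc, ← mul_sub]
        exact (hzcong η ψ hψ ψ' hψ').mul_left _
      · simp only [Nv, Int.cast_sum, Int.cast_mul, Int.cast_natCast, Finset.sum_mul, mul_assoc]
        rw [Finset.sum_comm]
        refine Finset.sum_eq_zero fun η _ => ?_
        rw [← Finset.mul_sum, hzorth η g hg, mul_zero]
    refine ⟨fun ψ hψ ψ' hψ' => ?_, fun g hg => ?_⟩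
    · have h := Int.dvd_sub ((key a).1 ψ hψ ψ' hψ') ((key a').1 ψ hψ ψ' hψ')
      convert h using 1
      ring
    · push_cast
      simp only [sub_mul, Finset.sum_sub_distrib]
      rw [(key a).2 g hg, (key a').2 g hg, sub_zero]
  -- good characters
  have hgood : ∀ χ ∈ Cfsg.principalBlock M G, ¬ p ∣ Cfsg.charDegree (χ : G → ℂ) →
      (((p : ℤ) - 1) * L) ≤ T χ := by
    intro χ hχ hχd
    set ψ₀ : IrrCharacter ((Subgroup.centralizer ({x} : Set G)) ⧸ Q) := PrincipalBlock.trivChar ((Subgroup.centralizer ({x} : Set G)) ⧸ Q) with hψ₀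
    have hψ₀B : ψ₀ ∈ B := Set.mem_toFinset.2 PrincipalBlock.trivChar_mem
    obtain ⟨b, hb, c, hc, c', hc', hne⟩ : ∃ b ∈ Finset.range (p ^ k), ∃ c ∈ Finset.range p,
        ∃ c' ∈ Finset.range p, Nv χ ψ₀ (b + p ^ k * c) ≠ Nv χ ψ₀ (b + p ^ k * c') := by
      by_contra! hall
      set K : ℤ := ∑ a ∈ Finset.range q, Nv χ ψ₀ a
      have hpK : (p : ℤ) ∣ K := by
        simp only [K, hq]
        rw [RootSquares.sum_range_mul (pow_pos hp.out.pos k)]
        refine Finset.dvd_sum fun b hb => ?_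
        rw [Finset.sum_congr rfl (g := fun _ => Nv χ ψ₀ (b + p ^ k * 0)) fun c hc =>
          hall b hb c hc 0 (Finset.mem_range.2 hp.out.pos), Finset.sum_const, Finset.card_range,
          nsmul_eq_mul]
        exact dvd_mul_right _ _
      have hK : (K : ℂ) = (m : ℂ)⁻¹ *
          regSum p (infl ψ₀ : (Subgroup.centralizer ({x} : Set G)) → ℂ) (fun c : (Subgroup.centralizer ({x} : Set G)) => (χ : G → ℂ) c) := by
        have h := hZ χ ψ₀ 0
        simp only [pow_zero, one_mul, mul_zero, mul_one] at h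
        rw [hscale] at h
        simp only [K]
        push_cast
        rw [← h]
        simp [hψ₀, PrincipalBlock.trivChar, Cfsg.charDegree]
      obtain ⟨B', hB'⟩ := induced_setup hM hxo (infl ψ₀)
      have hblk : Cfsg.blockOf M (infl ψ₀ : (Subgroup.centralizer ({x} : Set G)) → ℂ) = Cfsg.principalBlock M (Subgroup.centralizer ({x} : Set G)) :=
        isPBlock_eq_of_mem (isPBlock_blockOf _) BlocksCharsC.isPBlock_principalBlock
          (mem_blockOf_self _) (inflation_mem Q hQp hQc hM (Set.mem_toFinset.1 hψ₀B))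
      have hind := (BlocksLocal.isInducedBlock_principal_iff hM ⟨B', hB'⟩).2 hblk
      rw [hblk] at hind
      have hcg := cong_regSum_restrict hM (b := Cfsg.principalBlock M (Subgroup.centralizer ({x} : Set G))) hind
        (inflation_mem Q hQp hQc hM (Set.mem_toFinset.1 hψ₀B)) hχ χ
      have hu : ¬ Cfsg.MemLocalIdeal M (regSum p (χ : G → ℂ) χ) :=
        regSum_not_mem_of_minimal hM BlocksCharsC.isPBlock_principalBlock hχ (fun φ _ => by
          rw [Nat.factorization_eq_zero_of_not_dvd hχd]; exact Nat.zero_le _) hχ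
      refine hcg.not_mem hu ?_
      have hKI : Cfsg.MemLocalIdeal M (K : ℂ) := by
        obtain ⟨K', hK'⟩ := hpK
        rw [hK']
        push_cast
        exact memLocalIdeal_mul_right ((memLocalIdeal_natCast_iff hM p).2 dvd_rfl)
          (memLocalRing_of_isIntegral (isIntegral_intCast K'))
      have := memLocalIdeal_mul_left (memLocalRing_natCast m) hKI
      rwa [hK, ← mul_assoc, mul_inv_cancel₀ hm0, one_mul] at this
    rw [hTeq]
    refine le_trans ?_ (Finset.single_le_sum (fun b _ => hpart χ b) hb)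
    refine le_of_mul_le_mul_left ?_ (two_pos (α := ℤ))
    rw [hdiff]
    have h := RootSquares.pairs_bound (Finset.range p)
      (fun c (ψ : {ψ // ψ ∈ B}) => Nv χ ψ.1 (b + p ^ k * c))
      (fun c c' => ∑ ψ ∈ B, (Nv χ ψ (b + p ^ k * c) - Nv χ ψ (b + p ^ k * c')) ^ 2) (L := L)
      (fun _ _ => Finset.sum_nonneg fun _ _ => sq_nonneg _)
      (fun _ _ => Finset.sum_congr rfl fun _ _ => by ring)
      (fun i _ j _ hij => by
        obtain ⟨⟨ψ, hψ⟩, hψne⟩ := Function.ne_iff.1 hij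
        exact hL _ (hspec χ _ _) ⟨ψ, hψ, sub_ne_zero.2 hψne⟩)
      ⟨c, hc, c', hc', fun h => hne (congrFun h ⟨ψ₀, hψ₀B⟩)⟩
    rw [Finset.card_range, mul_assoc] at h
    exact h
  -- the total
  have htot : ((q : ℤ) * ∑ χ : IrrCharacter G, T χ) =
      ((p : ℤ) - 1) * (p : ℤ) ^ (2 * d) *
        (Cfsg.blockRank p (Cfsg.principalBlock M ((Subgroup.centralizer ({x} : Set G)) ⧸ Q)) : ℤ) := by
    have hjC : ∀ j, ¬ p ∣ j → Subgroup.centralizer ({x ^ j} : Set G) = (Subgroup.centralizer ({x} : Set G)) := fun j hj => by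
      refine le_antisymm (fun g hg => ?_) fun g hg => Subgroup.mem_centralizer_singleton_iff.2
        ((show Commute g x from Subgroup.mem_centralizer_singleton_iff.1 hg).pow_right j)
      obtain ⟨r, hr⟩ := exists_pow_eq_self_of_coprime (x := x) (n := j)
        (by rw [hk]; exact (Nat.Coprime.pow_right _ (hp.out.coprime_iff_not_dvd.2 hj).symm))
      refine Subgroup.mem_centralizer_singleton_iff.2 ?_
      rw [← hr]
      exact ((show Commute g (x ^ j) from Subgroup.mem_centralizer_singleton_iff.1 hg).pow_right r)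
    set U := (Finset.range (p ^ k * p)).filter fun j => ¬ p ∣ j
    have hchi : ∀ (ψ : IrrCharacter ((Subgroup.centralizer ({x} : Set G)) ⧸ Q)) (j : ℕ), j ∈ U →
        ∑ χ : IrrCharacter G, (∑ a ∈ Finset.range q, (Nv χ ψ a : ℂ) * ζ ^ (a * j)) *
          conj (∑ a ∈ Finset.range q, (Nv χ ψ a : ℂ) * ζ ^ (a * j)) =
        ((p : ℂ) ^ (2 * d)) * regInner p (infl ψ : (Subgroup.centralizer ({x} : Set G)) → ℂ) (infl ψ) := by
      intro ψ j hj
      have h := sum_translate_regInner hM (x ^ j) ⟨k + 1, by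
        rw [Nat.Coprime.orderOf_pow (by
          rw [hk]; exact (Nat.Coprime.pow_left _ (hp.out.coprime_iff_not_dvd.2
            (Finset.mem_filter.1 hj).2))), hk]⟩ (Subgroup.centralizer ({x} : Set G)) (hjC j (Finset.mem_filter.1 hj).2) (infl ψ)
      rw [← h, Finset.mul_sum]
      refine Finset.sum_congr rfl fun χ _ => ?_
      rw [← hZ, map_mul, Complex.conj_natCast]
      push_cast
      ring
    have h1 : ((((p ^ k : ℕ) : ℤ) * ∑ χ : IrrCharacter G, T χ : ℤ) : ℂ) =
        ((p ^ k * (p - 1) : ℕ) : ℂ) * ((p : ℂ) ^ (2 * d)) *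
          ∑ ψ ∈ B, regInner p (infl ψ : (Subgroup.centralizer ({x} : Set G)) → ℂ) (infl ψ) := by
      have e : ∀ χ ψ, (((((p ^ k : ℕ) : ℤ) * RootSquares.fibreForm (p ^ k) p (Nv χ ψ)) : ℤ) : ℂ) =
          ∑ j ∈ U, (∑ a ∈ Finset.range q, (Nv χ ψ a : ℂ) * ζ ^ (a * j)) *
            conj (∑ a ∈ Finset.range q, (Nv χ ψ a : ℂ) * ζ ^ (a * j)) := fun χ ψ =>
        (RootSquares.sum_primitive hp.out (pow_pos hp.out.pos k) hζ (Nv χ ψ)).symm
      calc ((((p ^ k : ℕ) : ℤ) * ∑ χ : IrrCharacter G, T χ : ℤ) : ℂ)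
          = ∑ χ : IrrCharacter G, ∑ ψ ∈ B, ∑ j ∈ U,
              (∑ a ∈ Finset.range q, (Nv χ ψ a : ℂ) * ζ ^ (a * j)) *
                conj (∑ a ∈ Finset.range q, (Nv χ ψ a : ℂ) * ζ ^ (a * j)) := by
            simp only [T, Finset.mul_sum, Int.cast_sum, e]
        _ = ∑ ψ ∈ B, ∑ j ∈ U, ((p : ℂ) ^ (2 * d)) * regInner p (infl ψ : (Subgroup.centralizer ({x} : Set G)) → ℂ) (infl ψ) := by
            rw [Finset.sum_comm]
            refine Finset.sum_congr rfl fun ψ _ => ?_
            rw [Finset.sum_comm]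
            exact Finset.sum_congr rfl fun j hj => hchi ψ j hj
        _ = _ := by
            rw [Finset.mul_sum]
            refine Finset.sum_congr rfl fun ψ _ => ?_
            rw [Finset.sum_const, RootSquares.card_primitive hp.out, nsmul_eq_mul]
            ring
    have h2 : (q : ℂ) * ∑ ψ ∈ B, regInner p (infl ψ : (Subgroup.centralizer ({x} : Set G)) → ℂ) (infl ψ) =
        (Cfsg.blockRank p (Cfsg.principalBlock M ((Subgroup.centralizer ({x} : Set G)) ⧸ Q)) : ℂ) := by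
      rw [BlockPairing.blockRank_eq_sum hM hBu, ← Finset.sum_filter, Finset.mul_sum]
      refine Finset.sum_congr (by ext ψ; simp [hB]) fun ψ _ => ?_
      rw [hqk, ← hQcard]
      exact regInner_inflation Q hQp hQc (ψ : (Subgroup.centralizer ({x} : Set G)) ⧸ Q → ℂ) (ψ : (Subgroup.centralizer ({x} : Set G)) ⧸ Q → ℂ)
    have hpk : ((p ^ k : ℕ) : ℂ) ≠ 0 := Nat.cast_ne_zero.2 (pow_ne_zero _ hp.out.ne_zero)
    apply Int.cast_injective (α := ℂ)
    refine mul_left_cancel₀ hpk ?_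
    have h1' := congrArg (fun v : ℂ => (q : ℂ) * v) h1
    have hp1 : ((p - 1 : ℕ) : ℂ) = (p : ℂ) - 1 := by rw [Nat.cast_sub hp.out.one_le, Nat.cast_one]
    push_cast [hp1] at h1' ⊢
    rw [← h2]
    linear_combination h1'
  -- conclusion
  set S := Finset.univ.filter fun χ : IrrCharacter G =>
    χ ∈ Cfsg.principalBlock M G ∧ ¬ p ∣ Cfsg.charDegree (χ : G → ℂ) with hS
  rw [Nat.card_eq_fintype_card, Fintype.card_subtype, ← hS]
  have hlow : (S.card : ℤ) * (((p : ℤ) - 1) * L) ≤ ∑ χ : IrrCharacter G, T χ := by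
    calc (S.card : ℤ) * (((p : ℤ) - 1) * L) = ∑ χ ∈ S, ((p : ℤ) - 1) * L := by
          rw [Finset.sum_const, nsmul_eq_mul]
      _ ≤ ∑ χ ∈ S, T χ := Finset.sum_le_sum fun χ hχ =>
          hgood χ (Finset.mem_filter.1 hχ).2.1 (Finset.mem_filter.1 hχ).2.2
      _ ≤ _ := Finset.sum_le_sum_of_subset_of_nonneg (Finset.subset_univ _) fun χ _ _ => by
          rw [hTeq]; exact Finset.sum_nonneg fun b _ => hpart χ b
  have hp1 : (0 : ℤ) < (p : ℤ) - 1 := by
    have := hp.out.one_lt; omega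
  have hqpos : (0 : ℤ) ≤ (q : ℤ) := Int.natCast_nonneg _
  have h1 := mul_le_mul_of_nonneg_left hlow hqpos
  rw [htot] at h1
  have h2 : (q : ℤ) * (S.card : ℤ) * L ≤
      (p : ℤ) ^ (2 * d) * (Cfsg.blockRank p (Cfsg.principalBlock M ((Subgroup.centralizer ({x} : Set G)) ⧸ Q)) : ℤ) :=
    le_of_mul_le_mul_left (by linarith) hp1
  have h3 : q * S.card * L ≤ p ^ 2 * (L * q) := by
    rw [hqk]
    refine le_trans ?_ hnum
    refine le_trans ?_ (Nat.mul_le_mul_left _ hR)
    rw [hqk] at h2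
    exact_mod_cast h2
  refine le_of_mul_le_mul_left ?_ (Nat.mul_pos hL0 hq0)
  linarith

end CfsgLib.BlocksCharsC.SmallCent
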