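import Cfsg.Agent.BlocksCharsC.SubsectionUnit

/-!
# Contributions of a major subsection

`secInner p x A χ ψ` only involves the `A`-part of one of the two characters, so
`p ^ d * secInner p x A χ ψ = defScale p d χ * secSum p x A χ ψ` where `secSum` depends on `χ` through
its central character only.  For a major subsection the row at every character of the block has no
zero in the columns of height zero.
-/

set_option autoImplicit false
set_option linter.style.haveILetI false
set_option linter.unusedSectionVars false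

namespace CfsgLib.BlocksCharsC

open Cfsg CfsgLib.Blocks CfsgLib.BlockPairing
open scoped ComplexConjugate

universe u

variable {G : Type u} [Group G] [Fintype G] {p : ℕ} {x : G}
  [Fintype (Subgroup.centralizer ({x} : Set G))] {M : Ideal AlgInt} [M.IsPrime] [Fact p.Prime]
  (hM : Cfsg.IsPModular p M)
  {A : Set (IrrCharacter (Subgroup.centralizer ({x} : Set G)))} (hA : IsBlockUnion M A)

include hM hA in
open Classical in
/-- Only the `A`-part of one of the characters matters. -/
theorem secInner_eq_translate {χ ψ : G → ℂ} (hχ : Cfsg.IsClassFunction G χ)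
    (hψ : Cfsg.IsClassFunction G ψ) :
    secInner p x A χ ψ =
      regInner p (fun c : Subgroup.centralizer ({x} : Set G) => χ (x * (c : G))) (secVal x A ψ) := by
  let K := Subgroup.centralizer ({x} : Set G)
  rw [secInner, regInner_congr_right _ fun y hy => secVal_eq hM hA hψ hy,
    regInner_congr_right _ fun y hy => secVal_eq hM hA hψ hy, regInner_sum_right, regInner_sum_right]
  refine Finset.sum_congr rfl fun η hη => ?_
  congr 1
  set f : K → ℂ := fun c => χ (x * (c : G)) with hf
  have hfc : Cfsg.IsClassFunction K f := isClassFunction_translate χ hχ x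
  have he : f = fun c => ∑ l : IrrCharacter K, Cfsg.classInner f (l : K → ℂ) * (l : K → ℂ) c := by
    funext c
    conv_lhs => rw [Characters.classFunction_expansion hfc]
    simp [Finset.sum_apply]
  show regInner p (secVal x A χ) (η : K → ℂ) = regInner p f (η : K → ℂ)
  conv_rhs => rw [he, regInner_sum_left]
  unfold secVal
  rw [regInner_sum_left]
  refine Finset.sum_subset (Finset.subset_univ _) fun l _ hl => ?_
  have hb : l ∉ Cfsg.blockOf M (η : K → ℂ) := fun h =>
    hl (Set.mem_toFinset.2 (hA η (Set.mem_toFinset.1 hη) h))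
  rw [regInner_symm p l η,
    Contributions.regInner_eq_zero hM (isPBlock_blockOf η) (mem_blockOf_self η) hb, mul_zero]

/-- The central part of a contribution. -/
noncomputable def secSum (p : ℕ) (x : G) [Fintype (Subgroup.centralizer ({x} : Set G))]
    (A : Set (IrrCharacter (Subgroup.centralizer ({x} : Set G)))) (χ ψ : G → ℂ) : ℂ :=
  ∑ᶠ C : ConjClasses (Subgroup.centralizer ({x} : Set G)),
    if p ∣ orderOf (Quotient.out C) then 0 else
      Cfsg.centralChar χ (x * ((Quotient.out C : Subgroup.centralizer ({x} : Set G)) : G)) *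
        conj (secVal x A ψ (Quotient.out C))

omit [Fintype (Subgroup.centralizer ({x} : Set G))] in
/-- The centralizer of `x * y` is that of `y` in the centralizer of `x`. -/
theorem card_centralizer_translate (hx : ∃ k, orderOf x = p ^ k)
    {y : Subgroup.centralizer ({x} : Set G)} (hy : ¬ p ∣ orderOf y) :
    Nat.card (Subgroup.centralizer ({x * (y : G)} : Set G)) =
      Nat.card (Subgroup.centralizer ({y} : Set (Subgroup.centralizer ({x} : Set G)))) := by
  have hcy : Commute x (y : G) := (Subgroup.mem_centralizer_singleton_iff.1 y.2).symm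
  have hP : Cfsg.IsPPart p (x * (y : G)) x := isPPart_of_mul hcy hx (by rwa [Subgroup.orderOf_coe])
  have hmem : ∀ g : G, g ∈ Subgroup.centralizer ({x * (y : G)} : Set G) →
      g * x = x * g ∧ g * (y : G) = (y : G) * g := by
    intro g hg
    have hg' := Subgroup.mem_centralizer_singleton_iff.1 hg
    have h1 := isPPart_conj hP g
    rw [hg', mul_inv_cancel_right] at h1
    have hgx : g * x = x * g :=
      mul_inv_eq_iff_eq_mul.1 (isPPart_unique (Fact.out : p.Prime) h1 hP)
    refine ⟨hgx, mul_left_cancel (a := x) ?_⟩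
    rw [← mul_assoc, ← mul_assoc, ← hgx, mul_assoc, hg']
  refine Nat.card_congr ⟨fun g => ⟨⟨g.1, ?_⟩, ?_⟩, fun g => ⟨(g.1 : G), ?_⟩, fun g => rfl, fun g => rfl⟩
  · exact Subgroup.mem_centralizer_singleton_iff.2 (hmem g g.2).1
  · exact Subgroup.mem_centralizer_singleton_iff.2 (Subtype.ext (hmem g g.2).2)
  · refine Subgroup.mem_centralizer_singleton_iff.2 ?_
    have hg := congrArg Subtype.val (Subgroup.mem_centralizer_singleton_iff.1 g.2)
    push_cast at hg
    rw [← mul_assoc, Subgroup.mem_centralizer_singleton_iff.1 g.1.2, mul_assoc, hg, ← mul_assoc]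

include hM hA in
open Classical in
theorem pow_mul_secInner (hx : ∃ k, orderOf x = p ^ k) (d : ℕ) (χ ψ : IrrCharacter G) :
    ((p ^ d : ℕ) : ℂ) * secInner p x A (χ : G → ℂ) ψ =
      defScale p d χ * secSum p x A (χ : G → ℂ) ψ := by
  let K := Subgroup.centralizer ({x} : Set G)
  haveI := Fintype.ofFinite (ConjClasses K)
  have hχc := Characters.isClassFunction_of_isIrr χ.2
  rw [secInner_eq_translate hM hA hχc (Characters.isClassFunction_of_isIrr ψ.2), regInner, secSum,
    finsum_eq_sum_of_fintype, ← Finset.sum_fiberwise Finset.univ (ConjClasses.mk : K → ConjClasses K),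
    Finset.mul_sum, Finset.mul_sum, Finset.mul_sum]
  refine Finset.sum_congr rfl fun C _ => ?_
  have hC : ConjClasses.mk (Quotient.out C) = C := Quotient.out_eq C
  have hθ : Cfsg.IsClassFunction K (secVal x A (ψ : G → ℂ)) := fun a c =>
    Finset.sum_congr rfl fun ξ _ => by rw [Characters.isClassFunction_of_isIrr ξ.2]
  set y : K := Quotient.out C
  rw [Finset.sum_congr rfl (g := fun _ : K => if p ∣ orderOf y then 0 else
    (χ : G → ℂ) (x * (y : G)) * conj (secVal x A (ψ : G → ℂ) y))]
  · split_ifs with hy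
    · simp
    · rw [Finset.sum_const, nsmul_eq_mul, ← Fintype.card_subtype, ← Nat.card_eq_fintype_card]
      conv_lhs => rw [← hC]
      rw [natCard_class, Cfsg.centralChar, defScale]
      have h1 := Characters.irr_one_ne_zero χ.2
      have hG : (Nat.card G : ℂ) ≠ 0 := Nat.cast_ne_zero.2 Nat.card_pos.ne'
      have hK : (Nat.card K : ℂ) ≠ 0 := Nat.cast_ne_zero.2 Nat.card_pos.ne'
      have hi : ((Subgroup.centralizer ({y} : Set K)).index : ℂ) * (Nat.card G : ℂ) =
          ((Subgroup.centralizer ({x * (y : G)} : Set G)).index : ℂ) * (Nat.card K : ℂ) := by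
        rw [← Subgroup.index_mul_card (Subgroup.centralizer ({x * (y : G)} : Set G)),
          ← Subgroup.index_mul_card (Subgroup.centralizer ({y} : Set K)),
          card_centralizer_translate hx hy]
        push_cast
        ring
      field_simp
      linear_combination (((p ^ d : ℕ) : ℂ) * (χ : G → ℂ) (x * (y : G)) * conj (secVal x A (ψ : G → ℂ) y)) * hi
  · intro z hz
    obtain ⟨c, hc⟩ := isConj_iff.1
      (ConjClasses.mk_eq_mk_iff_isConj.1 (hC.trans (Finset.mem_filter.1 hz).2.symm))
    have e := isClassFunction_translate _ hχc x y c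
    rw [hc] at e
    dsimp only at e
    rw [e]
    have e2 := hθ y c
    rw [hc] at e2
    rw [e2, ← hc, show c * y * c⁻¹ = MulAut.conj c y from rfl, MulEquiv.orderOf_eq]

include hM in
open Classical in
theorem memLocalRing_secVal {k : ℕ} (hk : orderOf x = p ^ k) (ψ : IrrCharacter G)
    (y : Subgroup.centralizer ({x} : Set G)) :
    Cfsg.MemLocalRing M (secVal x A (ψ : G → ℂ) y) ∧
      Cfsg.MemLocalRing M (conj (secVal x A (ψ : G → ℂ) y)) := by
  have hint : IsIntegral ℤ (secVal x A (ψ : G → ℂ) y) := by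
    refine IsIntegral.sum _ fun ξ _ => IsIntegral.mul ?_
      (Characters.character_isIntegral (Characters.isCharacter_of_isIrr ξ.2) y)
    obtain ⟨n, hn⟩ := Characters.classInner_character_irr
      (Characters.isCharacter_restrict (Subgroup.centralizer ({x} : Set G))
        (Characters.isCharacter_of_isIrr ψ.2)) ξ.2
    rw [secCoef_eq, hn]
    refine (isIntegral_natCast n).mul (IsIntegral.of_pow (pow_pos (Fact.out : p.Prime).pos k) ?_)
    rw [secRoot_pow hk]
    exact isIntegral_one
  refine ⟨memLocalRing_of_isIntegral hint, memLocalRing_of_isIntegral ?_⟩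
  have h' := (isIntegral_algHom_iff ((starRingEnd ℂ).toIntAlgHom) (RingHom.injective _)).2 hint
  exact h'

include hM in
/-- The central part depends only on the block of the first character. -/
theorem cong_secSum {k : ℕ} (hk : orderOf x = p ^ k) {χ φ : IrrCharacter G}
    (h : Cfsg.SameBlock M (χ : G → ℂ) (φ : G → ℂ)) (ψ : IrrCharacter G) :
    Cong M (secSum p x A (χ : G → ℂ) ψ) (secSum p x A (φ : G → ℂ) ψ) := by
  haveI := Fintype.ofFinite (ConjClasses (Subgroup.centralizer ({x} : Set G)))
  simp only [secSum, finsum_eq_sum_of_fintype]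
  refine Cong.sum _ fun C _ => ?_
  split_ifs
  · exact Cong.refl _
  · exact Cong.mul_right _ (memLocalRing_secVal hM hk ψ _).2 (h _)

include hM in
theorem memLocalRing_secSum {k : ℕ} (hk : orderOf x = p ^ k) (χ ψ : IrrCharacter G) :
    Cfsg.MemLocalRing M (secSum p x A (χ : G → ℂ) ψ) := by
  haveI := Fintype.ofFinite (ConjClasses (Subgroup.centralizer ({x} : Set G)))
  simp only [secSum, finsum_eq_sum_of_fintype]
  refine (localRing M).sum_mem fun C _ => ?_
  split_ifs
  · exact (localRing M).zero_mem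
  · exact (localRing M).mul_mem (Blocks.memLocalRing_centralChar χ _)
      (memLocalRing_secVal hM hk ψ _).2

omit hA

include hM in
open Classical in
/-- Both sides of a contribution lie in the ideal together. -/
theorem subContrib_symm_mem {b : Set (IrrCharacter (Subgroup.centralizer ({x} : Set G)))} {k : ℕ}
    (hk : orderOf x = p ^ k) {χ ψ : IrrCharacter G}
    (h : Cfsg.MemLocalIdeal M (subContrib p x b (χ : G → ℂ) ψ)) :
    Cfsg.MemLocalIdeal M (subContrib p x b (ψ : G → ℂ) χ) := by
  -- both are congruent to the same sum of integers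
  have key : ∀ φ φ' : IrrCharacter G, ∃ (n m : IrrCharacter (Subgroup.centralizer ({x} : Set G)) → ℕ)
      (z : IrrCharacter (Subgroup.centralizer ({x} : Set G)) →
        IrrCharacter (Subgroup.centralizer ({x} : Set G)) → ℤ),
      (∀ ξ η, ξ ∈ b → (z ξ η : ℂ) = defScale p (Cfsg.blockDefect p b) ξ *
          regSum p (ξ : Subgroup.centralizer ({x} : Set G) → ℂ) η) ∧
      (∀ ξ η, ξ ∈ b → η ∈ b → z ξ η = z η ξ) ∧
      (∀ ξ, (n ξ : ℂ) = Cfsg.classInner (fun c : Subgroup.centralizer ({x} : Set G) => (φ : G → ℂ) c)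
        (ξ : Subgroup.centralizer ({x} : Set G) → ℂ)) ∧
      (∀ ξ, (m ξ : ℂ) = Cfsg.classInner (fun c : Subgroup.centralizer ({x} : Set G) => (φ' : G → ℂ) c)
        (ξ : Subgroup.centralizer ({x} : Set G) → ℂ)) ∧
      Cong M (subContrib p x b (φ : G → ℂ) φ')
        (∑ ξ ∈ b.toFinset, ∑ η ∈ b.toFinset, (n ξ : ℂ) * (m η : ℂ) * (z ξ η : ℂ)) := by
    intro φ φ'
    obtain ⟨n, m, z, hz, hzs, hn, hm, he⟩ := subContrib_expand hM (b := b) φ φ'
    refine ⟨n, m, z, hz, hzs, hn, hm, ?_⟩
    rw [he]
    refine Cong.sum _ fun ξ _ => Cong.sum _ fun η _ => ?_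
    exact cong_term hM hk ξ η (n ξ) (m η) (z ξ η)
  obtain ⟨n, m, z, hz, hzs, hn, hm, he⟩ := key χ ψ
  obtain ⟨m', n', z', hz', -, hm', hn', he'⟩ := key ψ χ
  have hsum : (∑ ξ ∈ b.toFinset, ∑ η ∈ b.toFinset, (m' ξ : ℂ) * (n' η : ℂ) * (z' ξ η : ℂ)) =
      ∑ ξ ∈ b.toFinset, ∑ η ∈ b.toFinset, (n ξ : ℂ) * (m η : ℂ) * (z ξ η : ℂ) := by
    rw [Finset.sum_comm]
    refine Finset.sum_congr rfl fun ξ hξ => Finset.sum_congr rfl fun η hη => ?_
    rw [hn ξ, hm η, hm' η, hn' ξ, hzs ξ η (Set.mem_toFinset.1 hξ) (Set.mem_toFinset.1 hη),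
      hz η ξ (Set.mem_toFinset.1 hη), hz' η ξ (Set.mem_toFinset.1 hη)]
    ring
  rw [hsum] at he'
  simpa [Cong] using memLocalIdeal_add (he'.trans he.symm) h

section Major

variable {B : Set (IrrCharacter G)} (hB : Cfsg.IsPBlock M B)
  {b : Set (IrrCharacter (Subgroup.centralizer ({x} : Set G)))}
  (hind : Cfsg.IsInducedBlock M (Subgroup.centralizer ({x} : Set G)) b B)
  (hd : Cfsg.blockDefect p b = Cfsg.blockDefect p B) {k : ℕ} (hk : orderOf x = p ^ k)

include hM hind hd hk

theorem subContrib_eq (χ ψ : IrrCharacter G) :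
    subContrib p x b (χ : G → ℂ) ψ =
      defScale p (Cfsg.blockDefect p B) χ * secSum p x b (χ : G → ℂ) ψ := by
  rw [subContrib, hd]
  exact pow_mul_secInner hM (isBlockUnion_of_isPBlock hind.1) ⟨k, hk⟩ _ χ ψ

include hB

/-- In a column of height zero the central part is a unit. -/
theorem secSum_unit {χ ψ : IrrCharacter G} (hχ : χ ∈ B) (hψ : ψ ∈ B)
    (hψ0 : Cfsg.blockHeight p B (ψ : G → ℂ) = 0) :
    ¬ Cfsg.MemLocalIdeal M (secSum p x b (χ : G → ℂ) ψ) := by
  have hsame : Cfsg.SameBlock M (χ : G → ℂ) (ψ : G → ℂ) :=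
    mem_blockOf.1 (eq_blockOf_of_mem hB hχ ▸ hψ)
  refine (cong_secSum hM hk hsame ψ).not_mem fun h => ?_
  refine subContrib_unit hM ⟨k, hk⟩ hB hind hψ hψ hψ0 hψ0 ?_
  rw [subContrib_eq hM hind hd hk ψ ψ]
  exact memLocalIdeal_mul_left (defScale_spec hM hψ).1 h

/-- A row of a major subsection has no zero in the columns of height zero. -/
theorem subContrib_ne_zero {χ ψ : IrrCharacter G} (hχ : χ ∈ B) (hψ : ψ ∈ B)
    (hψ0 : Cfsg.blockHeight p B (ψ : G → ℂ) = 0) : subContrib p x b (χ : G → ℂ) ψ ≠ 0 := by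
  rw [subContrib_eq hM hind hd hk χ ψ]
  refine mul_ne_zero ?_ fun h => secSum_unit hM hB hind hd hk hχ hψ hψ0 (h ▸ memLocalIdeal_zero)
  rw [defScale]
  exact div_ne_zero (mul_ne_zero (Nat.cast_ne_zero.2 (pow_ne_zero _ (Fact.out : p.Prime).ne_zero))
    (Characters.irr_one_ne_zero χ.2)) (Nat.cast_ne_zero.2 Nat.card_pos.ne')

/-- For positive height the diagonal central part is in the ideal. -/
theorem secSum_self_mem {χ : IrrCharacter G} (hχ : χ ∈ B)
    (h0 : Cfsg.blockHeight p B (χ : G → ℂ) ≠ 0) :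
    Cfsg.MemLocalIdeal M (secSum p x b (χ : G → ℂ) χ) := by
  obtain ⟨φ, hφ, hmin, -⟩ := exists_minimal (p := p) hB
  have hp : p.Prime := Fact.out
  have hρφ := (defScale_spec hM hφ).2 hmin
  have hρ : Cfsg.MemLocalIdeal M (defScale p (Cfsg.blockDefect p B) χ) := by
    obtain ⟨n, hn, -⟩ : ∃ n, Cfsg.charDegree (χ : G → ℂ) =
        p ^ (Cfsg.charDegree (χ : G → ℂ)).factorization p * n ∧ True :=
      ⟨_, (Nat.ordProj_mul_ordCompl_eq_self _ p).symm, trivial⟩
    obtain ⟨m, hm, hmp⟩ : ∃ m, Nat.card G = p ^ (Nat.card G).factorization p * m ∧ ¬ p ∣ m :=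
      ⟨_, (Nat.ordProj_mul_ordCompl_eq_self _ p).symm, Nat.not_dvd_ordCompl hp Nat.card_pos.ne'⟩
    have hh := Contributions.height_add (p := p) χ hχ
    have hm0 : (m : ℂ) ≠ 0 := Nat.cast_ne_zero.2 fun h0 => hmp (h0 ▸ dvd_zero p)
    have hp0 : (p : ℂ) ≠ 0 := Nat.cast_ne_zero.2 hp.ne_zero
    have e1 : defScale p (Cfsg.blockDefect p B) χ =
        ((p ^ Cfsg.blockHeight p B (χ : G → ℂ) * n : ℕ) : ℂ) * (m : ℂ)⁻¹ := by
      rw [defScale, ← charDegree_cast, hn, hm]
      push_cast
      field_simp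
      rw [← pow_add, show Cfsg.blockDefect p B + (Cfsg.charDegree (χ : G → ℂ)).factorization p =
        (Nat.card G).factorization p + Cfsg.blockHeight p B (χ : G → ℂ) by omega, pow_add]
      ring
    rw [e1]
    exact memLocalIdeal_mul_right ((memLocalIdeal_natCast_iff hM _).2
      ((dvd_pow_self p h0).mul_right n)) (memLocalRing_natCast_inv hM hmp)
  have h1 : Cfsg.MemLocalIdeal M (subContrib p x b (φ : G → ℂ) χ) := by
    have h2 : Cfsg.MemLocalIdeal M (subContrib p x b (χ : G → ℂ) φ) := by
      rw [subContrib_eq hM hind hd hk χ φ]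
      exact memLocalIdeal_mul_right hρ (memLocalRing_secSum hM hk χ φ)
    obtain ⟨n, m, z, -, hzs, -, -, he⟩ := subContrib_expand hM (b := b) χ φ
    -- conjugation preserves the ideal on integral combinations of roots of unity
    have hT := subContrib_symm_mem hM hk h2
    exact hT
  rw [subContrib_eq hM hind hd hk φ χ] at h1
  have hS : Cfsg.MemLocalIdeal M (secSum p x b (φ : G → ℂ) χ) := by
    by_contra hS
    have h' : red M (⟨_, (defScale_spec hM hφ).1⟩ * ⟨_, memLocalRing_secSum hM hk φ χ⟩ : localRing M)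
        = 0 := red_eq_zero_iff.2 h1
    rw [map_mul, mul_eq_zero] at h'
    rcases h' with h' | h'
    · exact hρφ (red_eq_zero_iff.1 h')
    · exact hS (red_eq_zero_iff.1 h')
  have hsame : Cfsg.SameBlock M (χ : G → ℂ) (φ : G → ℂ) :=
    mem_blockOf.1 (eq_blockOf_of_mem hB hχ ▸ hφ)
  simpa [Cong] using memLocalIdeal_add (cong_secSum hM hk (A := b) hsame χ) hS

end Major

end CfsgLib.BlocksCharsC
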