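import Cfsg.Prelude.Def_Transfer
import Cfsg.Agent.Solvable.Frattini
import Mathlib.GroupTheory.Abelianization.Defs
import Mathlib.GroupTheory.SpecificGroups.Cyclic

/-!
# Groups of prime power order whose commutator quotient has order `p²`
-/

set_option autoImplicit false
set_option linter.unusedSectionVars false
set_option linter.style.haveILetI false

namespace CfsgLib.BlocksCharsC

open Subgroup
open scoped commutatorElement

universe u

variable {X : Type u} [Group X] [Finite X] {p : ℕ} [hp : Fact p.Prime]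

/-- A cyclic commutator quotient makes a `p`-group commutative. -/
theorem comm_of_sup_zpowers_commutator (hX : IsPGroup p X) {x : X}
    (h : zpowers x ⊔ commutator X = ⊤) : ∀ a b : X, a * b = b * a := by
  have h1 : zpowers x = ⊤ := Solvable.eq_top_of_sup_frattini (top_unique (h.symm.le.trans
    (sup_le_sup_left (Solvable.commutator_le_frattini hX) _)))
  intro a b
  obtain ⟨i, rfl⟩ := mem_zpowers_iff.1 (h1.symm ▸ mem_top a)
  obtain ⟨j, rfl⟩ := mem_zpowers_iff.1 (h1.symm ▸ mem_top b)
  exact ((Commute.refl x).zpow_zpow i j).eq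

/-- A commutator quotient of order at most `p` makes a `p`-group commutative. -/
theorem comm_of_index_commutator_le (hX : IsPGroup p X) (h : (commutator X).index ≤ p) :
    ∀ a b : X, a * b = b * a := by
  obtain ⟨k, hk⟩ := (IsPGroup.iff_card.1 hX)
  obtain ⟨i, -, hi⟩ := (Nat.dvd_prime_pow hp.out).1
    (hk ▸ Subgroup.index_dvd_card (commutator X))
  rcases Nat.lt_or_ge i 2 with h2 | h2
  · obtain ⟨x, hx⟩ : ∃ x, zpowers x ⊔ commutator X = ⊤ := by
      rcases Nat.eq_zero_or_pos i with rfl | h0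
      · exact ⟨1, by rw [index_eq_one.1 (hi.trans (pow_zero p)), sup_top_eq]⟩
      · obtain rfl : i = 1 := by omega
        obtain ⟨x, hx⟩ : ∃ x, x ∉ commutator X := by
          by_contra hc
          push Not at hc
          rw [(eq_top_iff' _).2 hc, index_top] at hi
          exact absurd hi.symm (by simpa using hp.out.ne_one)
        refine ⟨x, index_eq_one.1 ?_⟩
        have hdvd : (zpowers x ⊔ commutator X).index ∣ p := by
          have := index_dvd_of_le (le_sup_right : commutator X ≤ zpowers x ⊔ commutator X)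
          rwa [hi, pow_one] at this
        refine ((Nat.dvd_prime hp.out).1 hdvd).resolve_right fun hc => hx ?_
        have heq := relIndex_mul_index (le_sup_right : commutator X ≤ zpowers x ⊔ commutator X)
        rw [hi, hc, pow_one, Nat.mul_eq_right hp.out.ne_zero, relIndex_eq_one] at heq
        exact heq (mem_sup_left (mem_zpowers x))
    exact comm_of_sup_zpowers_commutator hX hx
  · rw [hi] at h
    have h3 := Nat.pow_le_pow_right hp.out.pos h2
    have h4 := Nat.lt_mul_self_iff.2 hp.out.one_lt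
    rw [pow_two] at h3
    omega

/-- For noncommutative groups the Frattini subgroup is the commutator subgroup. -/
theorem frattini_le_commutator (hX : IsPGroup p X) (hidx : (commutator X).index = p ^ 2)
    (hnc : ¬ ∀ a b : X, a * b = b * a) : frattini X ≤ commutator X := by
  refine Solvable.frattini_le_of_elementary le_rfl (p := p) fun x => ?_
  by_contra hx
  refine hnc (comm_of_sup_zpowers_commutator hX (x := x) (index_eq_one.1 ?_))
  set K := zpowers x ⊔ commutator X
  have hle : commutator X ≤ K := le_sup_right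
  obtain ⟨i, hi, hKi⟩ := (Nat.dvd_prime_pow hp.out).1
    ((index_dvd_of_le hle).trans hidx.dvd)
  by_contra hK
  apply hx
  have hrel := relIndex_mul_index hle
  rw [hKi, hidx] at hrel
  have hi1 : i ≠ 0 := fun h => hK (by rw [hKi, h, pow_zero])
  haveI : ((commutator X).subgroupOf K).Normal := normal_subgroupOf
  have hdvd : (commutator X).relIndex K ∣ p := by
    have h1 : (commutator X).relIndex K * p ^ i = p ^ i * p ^ (2 - i) := by
      rw [hrel, ← pow_add, Nat.add_sub_cancel' hi]
    rw [mul_comm, Nat.mul_right_inj (pow_pos hp.out.pos i).ne'] at h1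
    rw [h1]
    calc p ^ (2 - i) ∣ p ^ 1 := Nat.pow_dvd_pow p (by omega)
      _ = p := pow_one p
  have hpow : (⟨x, mem_sup_left (mem_zpowers x)⟩ : K) ^ (commutator X).relIndex K ∈
      (commutator X).subgroupOf K := pow_index_mem _ _
  obtain ⟨c, hc⟩ := hdvd
  have : x ^ ((commutator X).relIndex K) ∈ commutator X := hpow
  exact (congrArg (fun n => x ^ n) hc).symm ▸ (pow_mul x _ c).symm ▸ pow_mem this c

/-- A normal subgroup outside the Frattini subgroup has cyclic quotient of order at most `p`. -/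
theorem exists_generator_of_not_le (hX : IsPGroup p X) (hidx : (commutator X).index = p ^ 2)
    (hnc : ¬ ∀ a b : X, a * b = b * a) (R : Subgroup X) [R.Normal] (hR : ¬ R ≤ frattini X) :
    ∃ y : X, R ⊔ zpowers y = ⊤ ∧ commutator X ≤ R ∧ (R.index = 1 ∨ R.index = p) := by
  have hΦ := frattini_le_commutator hX hidx hnc
  have hlt : commutator X < R ⊔ commutator X := lt_of_le_of_ne le_sup_right fun h =>
    hR ((le_sup_left.trans h.symm.le).trans (Solvable.commutator_le_frattini hX))
  have hd : (R ⊔ commutator X).index = 1 ∨ (R ⊔ commutator X).index = p := by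
    obtain ⟨i, hi, h⟩ := (Nat.dvd_prime_pow hp.out).1
      ((index_dvd_of_le hlt.le).trans hidx.dvd)
    have := index_strictAnti hlt
    rw [hidx, h] at this
    have := (Nat.pow_lt_pow_iff_right hp.out.one_lt).1 this
    interval_cases i
    · exact Or.inl (by simpa using h)
    · exact Or.inr (by simpa using h)
  obtain ⟨y, hy⟩ : ∃ y, R ⊔ commutator X ⊔ zpowers y = ⊤ := by
    rcases hd with h | h
    · exact ⟨1, by rw [index_eq_one.1 h, top_sup_eq]⟩
    · obtain ⟨y, hy⟩ : ∃ y, y ∉ R ⊔ commutator X := by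
        by_contra hc
        push Not at hc
        rw [(eq_top_iff' _).2 hc, index_top] at h
        exact hp.out.ne_one h.symm
      refine ⟨y, index_eq_one.1 ?_⟩
      have hd' := index_dvd_of_le (le_sup_left : R ⊔ commutator X ≤ R ⊔ commutator X ⊔ zpowers y)
      rw [h] at hd'
      refine ((Nat.dvd_prime hp.out).1 hd').resolve_right fun hc => hy ?_
      have heq := relIndex_mul_index
        (le_sup_left : R ⊔ commutator X ≤ R ⊔ commutator X ⊔ zpowers y)
      rw [h, hc, Nat.mul_eq_right hp.out.ne_zero, relIndex_eq_one] at heq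
      exact heq (mem_sup_right (mem_zpowers y))
  have hgen : R ⊔ zpowers y = ⊤ := Solvable.eq_top_of_sup_frattini (top_unique (hy.symm.le.trans
    (sup_le (sup_le (le_sup_left.trans le_sup_left)
      ((Solvable.commutator_le_frattini hX).trans le_sup_right))
      (le_sup_right.trans le_sup_left))))
  have hle : commutator X ≤ R := by
    haveI : IsCyclic (X ⧸ R) := ⟨⟨QuotientGroup.mk' R y, fun q => by
      obtain ⟨x, rfl⟩ := QuotientGroup.mk'_surjective R q
      have hx : x ∈ R ⊔ zpowers y := hgen ▸ mem_top x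
      obtain ⟨r, hr, s, hs, rfl⟩ := mem_sup_of_normal_left.1 hx
      obtain ⟨k, rfl⟩ := mem_zpowers_iff.1 hs
      exact ⟨k, by
        show (QuotientGroup.mk' R y) ^ k = _
        rw [map_mul, map_zpow, (QuotientGroup.eq_one_iff r).2 hr |> fun h =>
          (show QuotientGroup.mk' R r = 1 from h), one_mul]⟩⟩⟩
    rw [← QuotientGroup.ker_mk' R, commutator_eq_closure, closure_le]
    rintro _ ⟨a, b, rfl⟩
    exact MonoidHom.mem_ker.2 (by
      rw [map_commutatorElement]; exact commutatorElement_eq_one_iff_mul_comm.2 (mul_comm' _ _))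
  rw [sup_eq_left.2 hle] at hd
  exact ⟨y, hgen, hle, hd⟩

/-- Two normal subgroups filling a subgroup with cyclic quotient force commutativity. -/
theorem comm_of_two_factors (hX : IsPGroup p X) (hidx : (commutator X).index = p ^ 2)
    (R : Subgroup X) [R.Normal] {y : X} (hy : R ⊔ zpowers y = ⊤)
    (K₁ K₂ : Subgroup X) [K₁.Normal] [K₂.Normal] (h₁ : K₁ ≠ ⊥) (h₂ : K₂ ≠ ⊥)
    (hdisj : K₁ ⊓ K₂ = ⊥) (hR : K₁ ⊔ K₂ = R) : ∀ a b : X, a * b = b * a := by
  haveI := hX.isNilpotent
  set D₁ := ⁅(⊤ : Subgroup X), K₁⁆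
  set D₂ := ⁅(⊤ : Subgroup X), K₂⁆
  haveI : D₁.Normal := commutator_normal _ _
  haveI : D₂.Normal := commutator_normal _ _
  have hD₁ : D₁ ≤ K₁ := commutator_le_right _ _
  have hD₂ : D₂ ≤ K₂ := commutator_le_right _ _
  have hlt : ∀ K : Subgroup X, K.Normal → K ≠ ⊥ → ⁅(⊤ : Subgroup X), K⁆ ≠ K := by
    intro K hK hne heq
    obtain ⟨n, hn⟩ := Subgroup.nilpotent_iff_lowerCentralSeries.1 ‹Group.IsNilpotent X›
    have hle : ∀ i, K ≤ Subgroup.lowerCentralSeries (⊤ : Subgroup X) i := by
      intro i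
      induction i with
      | zero => exact le_top
      | succ i ih =>
        conv_lhs => rw [← heq, commutator_comm]
        exact commutator_mono ih le_rfl
    exact hne (le_bot_iff.1 (hn ▸ hle n))
  have hcomm : ∀ a b : X, ⁅a, b⁆ ∈ D₁ ⊔ D₂ := by
    set q := QuotientGroup.mk' (D₁ ⊔ D₂)
    have hcen : ∀ r ∈ R, q r ∈ center (X ⧸ (D₁ ⊔ D₂)) := by
      intro r hr
      rw [← hR] at hr
      refine (sup_le ?_ ?_ : K₁ ⊔ K₂ ≤ (center _).comap q) hr <;>
      · intro k hk
        rw [mem_comap, mem_center_iff]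
        intro g
        obtain ⟨g, rfl⟩ := QuotientGroup.mk'_surjective _ g
        rw [← commutatorElement_eq_one_iff_mul_comm, ← map_commutatorElement]
        refine (QuotientGroup.eq_one_iff _).2 ?_
        first
        | exact mem_sup_left (commutator_mem_commutator (mem_top g) hk)
        | exact mem_sup_right (commutator_mem_commutator (mem_top g) hk)
    have hall : ∀ x : X, ∃ c ∈ center (X ⧸ (D₁ ⊔ D₂)), ∃ k : ℤ, q x = c * q y ^ k := by
      intro x
      have hx : x ∈ R ⊔ zpowers y := hy ▸ mem_top x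
      obtain ⟨r, hr, s, hs, rfl⟩ := mem_sup_of_normal_left.1 hx
      obtain ⟨k, rfl⟩ := mem_zpowers_iff.1 hs
      exact ⟨q r, hcen r hr, k, by rw [map_mul, map_zpow]⟩
    intro a b
    rw [← QuotientGroup.eq_one_iff, show ((⁅a, b⁆ : X) : X ⧸ (D₁ ⊔ D₂)) = q ⁅a, b⁆ from rfl,
      map_commutatorElement, commutatorElement_eq_one_iff_mul_comm]
    obtain ⟨c, hc, i, ha⟩ := hall a
    obtain ⟨d, hd, j, hb⟩ := hall b
    rw [ha, hb]
    exact (((show Commute c d from (mem_center_iff.1 hc d).symm).mul_right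
      (mem_center_iff.1 hc _).symm).mul_left
      ((show Commute (q y ^ i) d from mem_center_iff.1 hd _).mul_right
        ((Commute.refl (q y)).zpow_zpow i j))).eq
  have hder : commutator X ≤ D₁ ⊔ D₂ := by
    rw [commutator_eq_closure, closure_le]
    rintro _ ⟨a, b, rfl⟩
    exact hcomm a b
  have hcardsup : ∀ (A B : Subgroup X), B.Normal → A ⊓ B = ⊥ →
      Nat.card (A ⊔ B : Subgroup X) = Nat.card A * Nat.card B := by
    intro A B hB hAB
    have h1 : Nat.card (A ⊔ B : Subgroup X) = B.relIndex (A ⊔ B) * Nat.card B := by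
      have := relIndex_mul_relIndex (⊥ : Subgroup X) B (A ⊔ B) bot_le le_sup_right
      rw [relIndex_bot_left, relIndex_bot_left] at this
      rw [mul_comm, this]
    rw [h1, relIndex_sup_right, ← inf_relIndex_right, inf_comm, hAB, relIndex_bot_left]
  have hd12 : D₁ ⊓ D₂ = ⊥ := le_bot_iff.1 ((inf_le_inf hD₁ hD₂).trans hdisj.le)
  obtain ⟨n₁, hn₁⟩ := IsPGroup.iff_card.1 (hX.to_subgroup K₁)
  obtain ⟨n₂, hn₂⟩ := IsPGroup.iff_card.1 (hX.to_subgroup K₂)
  obtain ⟨m₁, -, hm₁⟩ := (Nat.dvd_prime_pow hp.out).1 (hn₁ ▸ card_dvd_of_le hD₁)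
  obtain ⟨m₂, -, hm₂⟩ := (Nat.dvd_prime_pow hp.out).1 (hn₂ ▸ card_dvd_of_le hD₂)
  have hstrict : ∀ (A B : Subgroup X), A ≤ B → A ≠ B → Nat.card A < Nat.card B :=
    fun A B hle hne => lt_of_le_of_ne (card_le_of_le hle) fun h =>
      hne (eq_of_le_of_card_ge hle h.ge)
  have hs₁ : m₁ < n₁ := (Nat.pow_lt_pow_iff_right hp.out.one_lt).1
    (hm₁ ▸ hn₁ ▸ hstrict D₁ K₁ hD₁ (hlt K₁ inferInstance h₁))
  have hs₂ : m₂ < n₂ := (Nat.pow_lt_pow_iff_right hp.out.one_lt).1
    (hm₂ ▸ hn₂ ▸ hstrict D₂ K₂ hD₂ (hlt K₂ inferInstance h₂))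
  obtain ⟨n, hn⟩ := IsPGroup.iff_card.1 hX
  obtain ⟨c, -, hc⟩ := (Nat.dvd_prime_pow hp.out).1 (hn ▸ card_subgroup_dvd_card (commutator X))
  have hcn : c + 2 = n := by
    have := card_mul_index (commutator X)
    rw [hidx, hc, hn, ← pow_add] at this
    exact Nat.pow_right_injective hp.out.two_le this
  have hcD : c ≤ m₁ + m₂ := by
    have := card_le_of_le hder
    rw [hcardsup D₁ D₂ inferInstance hd12, hm₁, hm₂, hc, ← pow_add] at this
    exact (Nat.pow_le_pow_iff_right hp.out.one_lt).1 this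
  have hnR : n₁ + n₂ ≤ n := by
    have := card_le_card_group (H := K₁ ⊔ K₂)
    rw [hcardsup K₁ K₂ inferInstance hdisj, hn₁, hn₂, hn, ← pow_add] at this
    exact (Nat.pow_le_pow_iff_right hp.out.one_lt).1 this
  have htop : K₁ ⊔ K₂ = ⊤ := eq_top_of_card_eq _ (by
    rw [hcardsup K₁ K₂ inferInstance hdisj, hn₁, hn₂, hn, ← pow_add]
    congr 1
    omega)
  -- each factor is commutative
  have hK : ∀ (A B : Subgroup X) (a b : ℕ), A.Normal → B.Normal → A ⊓ B = ⊥ → A ⊔ B = ⊤ →
      Nat.card A = p ^ a → Nat.card (⁅(⊤ : Subgroup X), A⁆ : Subgroup X) = p ^ b → b + 1 = a →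
      ∀ u ∈ A, ∀ v ∈ A, u * v = v * u := by
    intro A B a b hA hB hAB hABt ha hb hab
    have hAB' : ∀ u ∈ A, ∀ w ∈ B, Commute u w := fun u hu w hw =>
      commute_of_normal_of_disjoint A B hA hB (disjoint_iff.2 hAB) u w hu hw
    have hle : ⁅(⊤ : Subgroup X), A⁆ ≤ (commutator A).map A.subtype := by
      rw [map_subtype_commutator, commutator_le]
      intro g _ k hk
      have hg : g ∈ A ⊔ B := hABt ▸ mem_top g
      obtain ⟨u, hu, w, hw, rfl⟩ := mem_sup_of_normal_right.1 hg
      have : ⁅u * w, k⁆ = ⁅u, k⁆ := by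
        have h3 : w * k * w⁻¹ = k := by rw [(hAB' k hk w hw).symm.eq, mul_inv_cancel_right]
        calc ⁅u * w, k⁆ = u * (w * k * w⁻¹) * u⁻¹ * k⁻¹ := by
              rw [commutatorElement_def]; group
          _ = ⁅u, k⁆ := by rw [h3, commutatorElement_def]
      rw [this]
      exact commutator_mem_commutator hu hk
    have hidxA : (commutator A).index ≤ p := by
      have h1 := card_le_of_le hle
      rw [card_map_of_injective A.subtype_injective, hb] at h1
      have h2 := card_mul_index (commutator A)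
      rw [ha, ← hab, pow_succ] at h2
      have h0 : 0 < p ^ b := pow_pos hp.out.pos b
      nlinarith [Nat.mul_le_mul_right (commutator A).index h1]
    intro u hu v hv
    exact congrArg Subtype.val
      (comm_of_index_commutator_le (hX.to_subgroup A) hidxA ⟨u, hu⟩ ⟨v, hv⟩)
  have hc1 := hK K₁ K₂ n₁ m₁ inferInstance inferInstance hdisj htop hn₁ hm₁ (by omega)
  have hc2 := hK K₂ K₁ n₂ m₂ inferInstance inferInstance (by rwa [inf_comm])
    (by rwa [sup_comm]) hn₂ hm₂ (by omega)
  have h12 : ∀ u ∈ K₁, ∀ w ∈ K₂, Commute u w := fun u hu w hw =>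
    commute_of_normal_of_disjoint K₁ K₂ inferInstance inferInstance (disjoint_iff.2 hdisj) u w hu hw
  intro a b
  obtain ⟨a₁, ha₁, a₂, ha₂, rfl⟩ :=
    mem_sup_of_normal_right.1 (show a ∈ K₁ ⊔ K₂ from htop ▸ mem_top a)
  obtain ⟨b₁, hb₁, b₂, hb₂, rfl⟩ :=
    mem_sup_of_normal_right.1 (show b ∈ K₁ ⊔ K₂ from htop ▸ mem_top b)
  exact (((show Commute a₁ b₁ from hc1 a₁ ha₁ b₁ hb₁).mul_right (h12 a₁ ha₁ b₂ hb₂)).mul_left
    ((h12 b₁ hb₁ a₂ ha₂).symm.mul_right (hc2 a₂ ha₂ b₂ hb₂))).eq

/-- An element outside an abelian maximal subgroup has centralizer of order `p²`. -/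
theorem card_centralizer_of_abelian_index (hidx : (commutator X).index = p ^ 2) (A : Subgroup X)
    [A.Normal] (hA : A.index = p) (hcA : ∀ a ∈ A, ∀ b ∈ A, a * b = b * a) {y : X} (hy : y ∉ A) :
    Nat.card (centralizer ({y} : Set X)) = p ^ 2 := by
  let f : A →* X :=
    { toFun := fun a => ⁅y, (a : X)⁆
      map_one' := commutatorElement_one_right y
      map_mul' := fun a b => by
        have h1 : ∀ c : A, y * (c : X) * y⁻¹ ∈ A := fun c => ‹A.Normal›.conj_mem _ c.2 y
        have h2 : Commute (y * (b : X) * y⁻¹) (a : X)⁻¹ := hcA _ (h1 b) _ (A.inv_mem a.2)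
        simp only [commutatorElement_def, coe_mul]
        calc y * ((a : X) * b) * y⁻¹ * ((a : X) * b)⁻¹
            = (y * a * y⁻¹) * ((y * b * y⁻¹) * (b : X)⁻¹ * (a : X)⁻¹) := by group
          _ = (y * a * y⁻¹) * ((a : X)⁻¹ * ((y * b * y⁻¹) * (b : X)⁻¹)) := by
              have h3 : Commute ((y * (b : X) * y⁻¹) * (b : X)⁻¹) (a : X)⁻¹ :=
                h2.mul_left (hcA _ (A.inv_mem b.2) _ (A.inv_mem a.2))
              rw [h3.eq]
          _ = y * a * y⁻¹ * (a : X)⁻¹ * (y * b * y⁻¹ * (b : X)⁻¹) := by group }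
  have hfA : ∀ a, f a ∈ A := fun a =>
    A.mul_mem (‹A.Normal›.conj_mem _ a.2 y) (A.inv_mem a.2)
  have hgen : A ⊔ zpowers y = ⊤ := by
    refine index_eq_one.1 ?_
    have hd := index_dvd_of_le (le_sup_left : A ≤ A ⊔ zpowers y)
    rw [hA] at hd
    refine ((Nat.dvd_prime hp.out).1 hd).resolve_right fun hc => hy ?_
    have heq := relIndex_mul_index (le_sup_left : A ≤ A ⊔ zpowers y)
    rw [hA, hc, Nat.mul_eq_right hp.out.ne_zero, relIndex_eq_one] at heq
    exact heq (mem_sup_right (mem_zpowers y))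
  have hnorm : f.range.Normal := by
    rw [← normalizer_eq_top_iff, eq_top_iff, ← hgen, sup_le_iff, zpowers_le]
    refine ⟨fun a ha => ?_, ?_⟩
    · rw [mem_normalizer_iff]
      intro w
      have key : ∀ v ∈ f.range, ∀ c ∈ A, c * v * c⁻¹ = v := by
        rintro _ ⟨b, rfl⟩ c hc
        rw [hcA c hc _ (hfA b), mul_inv_cancel_right]
      refine ⟨fun hw => by rwa [key w hw a ha], fun hw => ?_⟩
      have h1 := key _ hw a⁻¹ (A.inv_mem ha)
      rw [inv_inv, ← mul_assoc, ← mul_assoc, inv_mul_cancel, one_mul, inv_mul_cancel_right] at h1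
      exact h1 ▸ hw
    · refine mem_normalizer_iff.2 fun w => ⟨?_, ?_⟩
      · rintro ⟨b, rfl⟩
        exact ⟨⟨y * b * y⁻¹, ‹A.Normal›.conj_mem _ b.2 y⟩, by
          simp [f, commutatorElement_def, mul_assoc]⟩
      · rintro ⟨b, hb⟩
        refine ⟨⟨y⁻¹ * b * y, by simpa using ‹A.Normal›.conj_mem _ b.2 y⁻¹⟩, ?_⟩
        change ⁅y, (b : X)⁆ = _ at hb
        show ⁅y, y⁻¹ * (b : X) * y⁆ = w
        have h1 : ⁅y, y⁻¹ * (b : X) * y⁆ = y⁻¹ * ⁅y, (b : X)⁆ * y := by
          rw [commutatorElement_def, commutatorElement_def]; group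
        rw [h1, hb]; group
  have hker : commutator X ≤ f.range := by
    set q := QuotientGroup.mk' f.range
    have hall : ∀ x : X, ∃ a ∈ A, ∃ k : ℤ, q x = q a * q y ^ k := by
      intro x
      obtain ⟨r, hr, s, hs, rfl⟩ :=
        mem_sup_of_normal_left.1 (show x ∈ A ⊔ zpowers y from hgen ▸ mem_top x)
      obtain ⟨k, rfl⟩ := mem_zpowers_iff.1 hs
      exact ⟨r, hr, k, by rw [map_mul, map_zpow]⟩
    have hqy : ∀ a ∈ A, Commute (q y) (q a) := fun a ha => by
      rw [commute_iff_eq, ← commutatorElement_eq_one_iff_mul_comm, ← map_commutatorElement]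
      exact (QuotientGroup.eq_one_iff _).2 ⟨⟨a, ha⟩, rfl⟩
    rw [← QuotientGroup.ker_mk' f.range, commutator_eq_closure, closure_le]
    rintro _ ⟨a, b, rfl⟩
    refine MonoidHom.mem_ker.2 ?_
    rw [map_commutatorElement, commutatorElement_eq_one_iff_mul_comm]
    obtain ⟨a', ha, i, ha'⟩ := hall a
    obtain ⟨b', hb, j, hb'⟩ := hall b
    rw [ha', hb']
    exact (((show Commute (q a') (q b') from by
      rw [commute_iff_eq, ← map_mul, hcA a' ha b' hb, map_mul]).mul_right
        ((hqy a' ha).symm.zpow_right j)).mul_left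
      (((hqy b' hb).zpow_left i).mul_right ((Commute.refl (q y)).zpow_zpow i j))).eq
  have hrange : f.range ≤ commutator X := by
    rintro _ ⟨a, rfl⟩
    exact commutator_mem_commutator (mem_top y) (mem_top _)
  have heq : f.range = commutator X := le_antisymm hrange hker
  have hkerc : Nat.card f.ker = p := by
    have h1 := card_mul_index f.ker
    rw [index_ker, heq] at h1
    have h2 := card_mul_index A
    have h3 := card_mul_index (commutator X)
    rw [hA, ← h3, hidx, ← h1, pow_two] at h2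
    have hc0 : 0 < Nat.card (commutator X) := Nat.card_pos
    have hp0 : 0 < p := hp.out.pos
    nlinarith [h2, Nat.eq_of_mul_eq_mul_right hp0 (show Nat.card f.ker * Nat.card (commutator X) * p =
      Nat.card (commutator X) * p * p by rw [h2]; ring)]
  set C := centralizer ({y} : Set X)
  have hCA : Nat.card (A.subgroupOf C) = p := by
    rw [← hkerc]
    refine Nat.card_congr
      { toFun := fun x => ⟨⟨(x : C), x.2⟩, ?_⟩
        invFun := fun a => ⟨⟨(a : A), mem_centralizer_singleton_iff.2 ?_⟩, (a : A).2⟩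
        left_inv := fun x => rfl
        right_inv := fun a => rfl }
    · refine MonoidHom.mem_ker.2 ?_
      show ⁅y, ((x : C) : X)⁆ = 1
      rw [commutatorElement_eq_one_iff_mul_comm, mem_centralizer_singleton_iff.1 (x : C).2]
    · exact (commutatorElement_eq_one_iff_mul_comm.1 (show ⁅y, ((a : A) : X)⁆ = 1 from a.2)).symm
  have hi : (A.subgroupOf C).index = p := by
    have hd : (A.subgroupOf C).index ∣ p := by
      rw [← hA]; exact relIndex_dvd_index_of_normal A C
    refine ((Nat.dvd_prime hp.out).1 hd).resolve_left fun h1 => hy ?_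
    exact relIndex_eq_one.1 h1 (mem_centralizer_singleton_iff.2 rfl)
  rw [← card_mul_index (A.subgroupOf C), hCA, hi, pow_two]

/-- A centralizer of order `p²` bounds the commutator index by `p²`. -/
theorem index_commutator_le_card_centralizer (x : X) :
    (commutator X).index ≤ Nat.card (centralizer ({x} : Set X)) := by
  set C := centralizer ({x} : Set X)
  have hle : C.index ≤ Nat.card (commutator X) := by
    rw [index_eq_card]
    refine Nat.card_le_card_of_injective
      (fun q => ⟨⁅q.out, x⁆, commutator_mem_commutator (mem_top _) (mem_top _)⟩) ?_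
    intro a b h
    have h' : a.out * x * a.out⁻¹ * x⁻¹ = b.out * x * b.out⁻¹ * x⁻¹ := congrArg Subtype.val h
    have h1 : a.out * x * a.out⁻¹ = b.out * x * b.out⁻¹ := mul_right_cancel h'
    rw [← QuotientGroup.out_eq' a, ← QuotientGroup.out_eq' b, QuotientGroup.eq,
      mem_centralizer_singleton_iff]
    calc a.out⁻¹ * b.out * x = a.out⁻¹ * (b.out * x * b.out⁻¹) * b.out := by group
      _ = a.out⁻¹ * (a.out * x * a.out⁻¹) * b.out := by rw [h1]
      _ = x * (a.out⁻¹ * b.out) := by group
  have h1 := card_mul_index (commutator X)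
  rw [← card_mul_index C] at h1
  by_contra hlt
  push Not at hlt
  have : Nat.card C * C.index < (commutator X).index * Nat.card (commutator X) :=
    Nat.mul_lt_mul_of_lt_of_le hlt hle Nat.card_pos
  rw [mul_comm (commutator X).index, h1] at this
  exact lt_irrefl _ this

end CfsgLib.BlocksCharsC
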