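import Mathlib.GroupTheory.PGroup
import Mathlib.GroupTheory.GroupAction.ConjAct

/-!
# Normal subgroups of `p`-groups meet the centre
-/

set_option autoImplicit false

namespace CfsgLib.BlocksCharsC

theorem inf_center_ne_bot {P : Type*} [Group P] [Finite P] {p : ℕ} [Fact p.Prime]
    (hP : IsPGroup p P) (K : Subgroup P) [K.Normal] [Nontrivial K] :
    K ⊓ Subgroup.center P ≠ ⊥ := by
  have hP' : IsPGroup p (ConjAct P) := hP
  have h1 : (1 : K) ∈ MulAction.fixedPoints (ConjAct P) K := fun g => smul_one g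
  have hdvd : p ∣ Nat.card K := (hP.to_subgroup K).card_eq_or_dvd.resolve_left
    (Finite.one_lt_card_iff_nontrivial.2 inferInstance).ne'
  obtain ⟨b, hb, hb1⟩ := hP'.exists_fixed_point_of_prime_dvd_card_of_fixed_point K hdvd h1
  intro hbot
  have hmem : (b : P) ∈ K ⊓ Subgroup.center P := ⟨b.2, Subgroup.mem_center_iff.2 fun g => by
    have h := congrArg Subtype.val (hb (ConjAct.toConjAct g))
    rw [ConjAct.Subgroup.val_conj_smul, ConjAct.toConjAct_smul] at h
    exact mul_inv_eq_iff_eq_mul.1 h⟩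
  rw [hbot, Subgroup.mem_bot] at hmem
  exact hb1 (Subtype.ext hmem.symm)

theorem exists_mem_ne_one {G : Type*} [Group G] {H : Subgroup G} (h : H ≠ ⊥) :
    ∃ x ∈ H, x ≠ 1 := by
  by_contra hcon
  push Not at hcon
  exact h ((Subgroup.eq_bot_iff_forall H).2 hcon)

end CfsgLib.BlocksCharsC
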