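import Mathlib.GroupTheory.PGroup
import Mathlib.Tactic.Ring
import Mathlib.RingTheory.Ideal.Span
import Mathlib.Algebra.BigOperators.Group.Finset.Basic

/-!
# Sums of invariant functions modulo `p`

For a `p`-group acting on a finite set, the sum of an invariant function is congruent modulo `p`
to its sum over the fixed points.
-/

set_option autoImplicit false

namespace CfsgLib.BlocksCharsC

open MulAction

theorem dvd_sum_sub_sum_fixed {P α R : Type*} [Group P] [MulAction P α] [Fintype α] [CommRing R]
    {p : ℕ} [hp : Fact p.Prime] (hP : IsPGroup p P) (f : α → R) (hf : ∀ (g : P) a, f (g • a) = f a)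
    [DecidablePred fun a : α => a ∈ fixedPoints P α] :
    (p : R) ∣ ∑ a, f a - ∑ a ∈ Finset.univ.filter (fun a => a ∈ fixedPoints P α), f a := by
  classical
  have hsplit : ∑ a, f a - ∑ a ∈ Finset.univ.filter (fun a => a ∈ fixedPoints P α), f a =
      ∑ a ∈ Finset.univ.filter (fun a => a ∉ fixedPoints P α), f a := by
    rw [← Finset.sum_filter_add_sum_filter_not Finset.univ (fun a => a ∈ fixedPoints P α) f]
    ring
  rw [hsplit]
  rw [← Finset.sum_fiberwise_of_maps_to (g := fun a => (Quotient.mk'' a : orbitRel.Quotient P α))
    (t := Finset.univ) (fun _ _ => Finset.mem_univ _)]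
  refine Finset.dvd_sum fun q _ => ?_
  induction q using Quotient.inductionOn' with
  | h b =>
    set s := (Finset.univ.filter fun a => a ∉ fixedPoints P α).filter
      fun a => (Quotient.mk'' a : orbitRel.Quotient P α) = Quotient.mk'' b with hs
    by_cases hb : b ∈ fixedPoints P α
    · have : s = ∅ := by
        refine Finset.eq_empty_of_forall_notMem fun a ha => ?_
        simp only [hs, Finset.mem_filter, Finset.mem_univ, true_and] at ha
        obtain ⟨g, hg⟩ := Quotient.exact' ha.2
        change g • b = a at hg
        rw [hb g] at hg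
        exact ha.1 (hg ▸ hb)
      rw [this, Finset.sum_empty]; exact dvd_zero _
    · have hmem : ∀ a, a ∈ s ↔ a ∈ orbit P b := by
        intro a
        simp only [hs, Finset.mem_filter, Finset.mem_univ, true_and]
        rw [Quotient.eq'']
        refine ⟨fun h => h.2, fun h => ⟨fun ha => ?_, h⟩⟩
        obtain ⟨g, rfl⟩ := h
        refine hb fun k => ?_
        have h2 := ha (g * k * g⁻¹)
        rw [smul_smul, inv_mul_cancel_right, mul_smul] at h2
        exact MulAction.injective g h2
      have hconst : ∀ a ∈ s, f a = f b := by
        intro a ha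
        obtain ⟨g, rfl⟩ := (hmem a).1 ha
        exact hf g b
      rw [Finset.sum_congr rfl hconst, Finset.sum_const, nsmul_eq_mul]
      refine Dvd.dvd.mul_right ?_ _
      obtain ⟨n, hn⟩ := hP.card_orbit b
      have hcard : s.card = p ^ n := by
        rw [← hn, Nat.card_eq_fintype_card, ← Set.toFinset_card]
        exact congrArg _ (Finset.ext fun a => by rw [hmem, Set.mem_toFinset])
      have hn0 : n ≠ 0 := by
        rintro rfl
        rw [pow_zero] at hn
        refine hb (mem_fixedPoints.2 fun g => ?_)
        haveI := (Nat.card_eq_one_iff_unique.1 hn).1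
        exact congrArg Subtype.val (Subsingleton.elim (⟨g • b, mem_orbit b g⟩ : orbit P b)
          ⟨b, mem_orbit_self b⟩)
      rw [hcard, Nat.cast_pow]
      exact dvd_pow_self _ hn0

end CfsgLib.BlocksCharsC
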