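import Cfsg.Agent.BlocksCharsC.Restriction
import Cfsg.Agent.BlocksCharsC.OrbitSum
import Cfsg.Agent.Characters.Classes

/-!
# Characters of a normal subgroup under conjugation by a `p`-group
-/

set_option autoImplicit false

namespace CfsgLib.BlocksCharsC

open CfsgLib.Characters
open scoped ComplexConjugate

universe u

variable {G : Type u} [Group G] [Finite G]

theorem isIrrCharacter_comp_mulEquiv {K : Type u} [Group K] [Finite K] {θ : G → ℂ}
    (h : Cfsg.IsIrrCharacter G θ) (e : K ≃* G) : Cfsg.IsIrrCharacter K (fun x => θ (e x)) := by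
  haveI := Fintype.ofFinite G
  haveI := Fintype.ofFinite K
  refine isIrr_of_classInner_self (isCharacter_comp e.toMonoidHom (isCharacter_of_isIrr h)) ?_
  rw [← classInner_isIrr_self h]
  simp only [Cfsg.classInner]
  rw [Nat.card_congr e.toEquiv]
  congr 1
  exact Fintype.sum_equiv e.toEquiv _ _ fun x => rfl

/-- The conjugation action of `G` on the irreducible characters of a normal subgroup. -/
@[instance_reducible]
noncomputable def irrConjAction (N : Subgroup G) [hN : N.Normal] :
    MulAction G (Cfsg.IrrCharacter N) where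
  smul g θ := ⟨fun n => (θ : N → ℂ) ⟨g⁻¹ * n * g, by simpa using hN.conj_mem _ n.2 g⁻¹⟩,
    isIrrCharacter_comp_mulEquiv θ.2
      ({ toFun := fun n => ⟨g⁻¹ * n * g, by simpa using hN.conj_mem _ n.2 g⁻¹⟩
         invFun := fun n => ⟨g * n * g⁻¹, hN.conj_mem _ n.2 g⟩
         left_inv := fun n => Subtype.ext (by simp [mul_assoc])
         right_inv := fun n => Subtype.ext (by simp [mul_assoc])
         map_mul' := fun a b => Subtype.ext (by simp [mul_assoc]) } : N ≃* N)⟩
  one_smul θ := Subtype.ext (funext fun n => by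
    exact congrArg (θ : N → ℂ) (Subtype.ext
      (show (1 : G)⁻¹ * (n : G) * 1 = n by simp)))
  mul_smul a b θ := Subtype.ext (funext fun n => by
    exact congrArg (θ : N → ℂ) (Subtype.ext
      (show (a * b)⁻¹ * (n : G) * (a * b) = b⁻¹ * (a⁻¹ * n * a) * b by simp [mul_assoc])))

theorem natCast_eq_of_dvd_algInt {p : ℕ} (hp : p.Prime) {n : ℕ}
    (h : (p : Cfsg.AlgInt) ∣ (n : Cfsg.AlgInt)) : p ∣ n := by
  obtain ⟨M, hM⟩ := CfsgLib.Blocks.exists_isPModular p hp
  obtain ⟨a, ha⟩ := h
  rw [← CfsgLib.Blocks.IsPModular.natCast_mem_iff hM, ha]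
  exact M.mul_mem_right _ hM.2.2

/-- The trivial character as an irreducible character. -/
theorem isIrrCharacter_one : Cfsg.IsIrrCharacter G (fun _ => 1) := by
  haveI := Fintype.ofFinite G
  refine isIrr_of_classInner_self ⟨1, Representation.trivial ℂ G (Fin 1 → ℂ), funext fun g => ?_⟩ ?_
  · simp [Representation.character]
  · simp [Cfsg.classInner, Nat.card_eq_fintype_card]

/-- If a `p`-subgroup `P` centralises a non-identity element of the normal subgroup `N`, some
non-trivial irreducible character of `N` is fixed by `P`. -/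
theorem exists_invariant_irr_ne_one {p : ℕ} [hp : Fact p.Prime] {P : Subgroup G}
    (hP : IsPGroup p P) (N : Subgroup G) [hN : N.Normal] {c : G} (hcN : c ∈ N)
    (hc : c ∈ Subgroup.centralizer (P : Set G)) (hc1 : c ≠ 1) :
    ∃ θ : Cfsg.IrrCharacter N, (θ : N → ℂ) ≠ (fun _ => 1) ∧
      ∀ g ∈ P, ∀ n : N, (θ : N → ℂ) ⟨g * n * g⁻¹, hN.conj_mem _ n.2 g⟩ = (θ : N → ℂ) n := by
  classical
  haveI := Fintype.ofFinite G
  letI : MulAction G (Cfsg.IrrCharacter N) := irrConjAction N
  let cN : N := ⟨c, hcN⟩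
  let f : Cfsg.IrrCharacter N → Cfsg.AlgInt := fun θ =>
    ⟨(θ : N → ℂ) 1 * (θ : N → ℂ) cN,
      IsIntegral.mul (character_isIntegral (isCharacter_of_isIrr θ.2) 1)
        (character_isIntegral (isCharacter_of_isIrr θ.2) cN)⟩
  have hf : ∀ (g : P) θ, f (g • θ) = f θ := by
    intro g θ
    apply Subtype.ext
    show (θ : N → ℂ) _ * (θ : N → ℂ) _ = (θ : N → ℂ) 1 * (θ : N → ℂ) cN
    congr 1
    · refine congrArg (θ : N → ℂ) (Subtype.ext ?_)
      exact (show (g : G)⁻¹ * ((1 : N) : G) * g = ((1 : N) : G) by simp)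
    · refine congrArg (θ : N → ℂ) (Subtype.ext ?_)
      show (g : G)⁻¹ * c * g = c
      rw [mul_assoc, ← Subgroup.mem_centralizer_iff.1 hc g g.2, inv_mul_cancel_left]
  by_contra hcon
  push Not at hcon
  have h1 := dvd_sum_sub_sum_fixed hP f hf
  have hfix : Finset.univ.filter (fun θ => θ ∈ MulAction.fixedPoints P (Cfsg.IrrCharacter N)) =
      {(⟨fun _ => 1, isIrrCharacter_one⟩ : Cfsg.IrrCharacter N)} := by
    ext θ
    simp only [Finset.mem_filter, Finset.mem_univ, true_and, Finset.mem_singleton]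
    constructor
    · intro hθ
      by_contra hne
      obtain ⟨g, hg, n, hn⟩ := hcon θ fun h => hne (Subtype.ext h)
      have := congrFun (congrArg Subtype.val (hθ ⟨g⁻¹, inv_mem hg⟩)) n
      refine hn ?_
      rw [← this]
      show (θ : N → ℂ) _ = (θ : N → ℂ) _
      refine congrArg (θ : N → ℂ) (Subtype.ext ?_)
      exact (show g * (n : G) * g⁻¹ = g⁻¹⁻¹ * (n : G) * g⁻¹ by simp)
    · rintro rfl g
      rfl
  rw [hfix, Finset.sum_singleton] at h1
  have h0 : (∑ θ, f θ : Cfsg.AlgInt) = 0 := by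
    apply Subtype.ext
    push_cast
    rw [show ∑ θ : Cfsg.IrrCharacter N, ((f θ : Cfsg.AlgInt) : ℂ) =
      ∑ θ : Cfsg.IrrCharacter N, (θ : N → ℂ) 1 * (θ : N → ℂ) cN from rfl, sum_degree_mul cN,
      if_neg fun h => hc1 (congrArg Subtype.val h)]
  have hone : f (⟨fun _ => 1, isIrrCharacter_one⟩ : Cfsg.IrrCharacter N) = 1 :=
    Subtype.ext (by simp [f])
  rw [h0, hone, zero_sub, dvd_neg, ← Nat.cast_one] at h1
  exact hp.out.ne_one (Nat.dvd_one.1 (natCast_eq_of_dvd_algInt hp.out h1))

/-- If a `p`-subgroup `P` fixes only the identity of the normal subgroup `N`, every character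
of degree prime to `p` has a trivial constituent on `N`. -/
theorem classInner_one_ne_zero {p : ℕ} [hp : Fact p.Prime] {P : Subgroup G}
    (hP : IsPGroup p P) (N : Subgroup G) [hN : N.Normal] [Fintype N]
    (h : N ⊓ Subgroup.centralizer (P : Set G) = ⊥) {χ : G → ℂ} (hχ : Cfsg.IsCharacter G χ)
    (hd : ¬ p ∣ Cfsg.charDegree χ) :
    Cfsg.classInner (fun n : N => χ n) (fun _ => 1) ≠ 0 := by
  classical
  letI : MulAction P N :=
    { smul := fun g n => ⟨g * n * (g : G)⁻¹, hN.conj_mem _ n.2 g⟩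
      one_smul := fun n => Subtype.ext (show ((1 : P) : G) * n * ((1 : P) : G)⁻¹ = n by simp)
      mul_smul := fun a b n => Subtype.ext
        (show ((a * b : P) : G) * n * ((a * b : P) : G)⁻¹ =
          a * (b * n * (b : G)⁻¹) * (a : G)⁻¹ by simp [mul_assoc]) }
  let f : N → Cfsg.AlgInt := fun n => ⟨χ n, character_isIntegral hχ n⟩
  have h1 := dvd_sum_sub_sum_fixed hP f fun g n => Subtype.ext
    (isClassFunction_of_isCharacter hχ (n : G) g)
  have hfix : Finset.univ.filter (fun n => n ∈ MulAction.fixedPoints P N) = {(1 : N)} := by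
    ext n
    simp only [Finset.mem_filter, Finset.mem_univ, true_and, Finset.mem_singleton]
    constructor
    · intro hn
      have hmem : (n : G) ∈ N ⊓ Subgroup.centralizer (P : Set G) :=
        ⟨n.2, Subgroup.mem_centralizer_iff.2 fun g hg =>
          mul_inv_eq_iff_eq_mul.1 (congrArg Subtype.val (hn ⟨g, hg⟩))⟩
      rw [h, Subgroup.mem_bot] at hmem
      exact Subtype.ext hmem
    · rintro rfl g
      exact Subtype.ext (show (g : G) * ((1 : N) : G) * (g : G)⁻¹ = ((1 : N) : G) by simp)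
  rw [hfix, Finset.sum_singleton] at h1
  intro h0
  have hzero : (∑ n, f n : Cfsg.AlgInt) = 0 := by
    apply Subtype.ext
    push_cast
    show ∑ n : N, χ n = 0
    rw [Cfsg.classInner, mul_eq_zero, inv_eq_zero] at h0
    rcases h0 with h0 | h0
    · exact absurd h0 natCard_ne_zero
    · simpa using h0
  have hone : f 1 = (Cfsg.charDegree χ : Cfsg.AlgInt) :=
    Subtype.ext (by simpa [f] using charDegree_spec hχ)
  rw [hzero, hone, zero_sub, dvd_neg] at h1
  exact hd (natCast_eq_of_dvd_algInt hp.out h1)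

end CfsgLib.BlocksCharsC
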