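import Cfsg.Agent.ExtensionBlocks.Basic
import Cfsg.Agent.PRationalExtension.Existence
import Cfsg.Agent.BlockPairs.PrincipalNormal
import Cfsg.Agent.CharactersDeep.Gallagher
import Cfsg.Agent.Characters.Integrality

/-!
# The Alperin–Dade restriction bijection

For a normal subgroup `N` of index prime to `p` with `G = N C(P)`, every character of the principal
block of `N` has a unique extension in the principal block of `G`.
-/

set_option autoImplicit false
set_option linter.unusedSectionVars false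
set_option linter.style.haveILetI false

namespace CfsgLib.BlocksCharsC.AlperinDade

open Cfsg CfsgLib.Blocks CfsgLib.ExtensionBlocks

universe u

variable {G : Type u} [Group G] [Fintype G] {N : Subgroup G} [hN : N.Normal] [Fintype N]
  {p : ℕ} [Fact p.Prime] {M : Ideal AlgInt} [M.IsPrime]

/-- The sum of the values of a central element supported in `N` on a character of the principal
block of `N` is congruent to the augmentation times the degree. -/
theorem ev_mem_of_principal {θ : IrrCharacter N} (hθ : θ ∈ Cfsg.principalBlock M N) (c : centN N) :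
    Cfsg.MemLocalIdeal M ((∑ x : N, ((c : MonoidAlgebra ℤ G).coeff x : ℂ) * (θ : N → ℂ) x) /
      (θ : N → ℂ) 1 - ∑ x : N, ((c : MonoidAlgebra ℤ G).coeff x : ℂ)) := by
  classical
  set f : N → localRing M := fun x => ((c : MonoidAlgebra ℤ G).coeff x : localRing M) with hf
  let z : Ctr (localRing M) N := ⟨ofFun f, mem_ctr_iff.2 fun g h => by
    simp only [coeff_ofFun, hf, Subgroup.coe_mul, Subgroup.coe_inv]
    rw [mem_centN_iff.1 c.2 _ h.2]⟩
  have h := DFunLike.congr_fun (PrincipalBlock.mem_principalBlock_iff.1 hθ) (redCtr M z)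
  rw [omegaBar_redCtr, omegaBar_redCtr, red_eq_red_iff, coe_omegaO, coe_omegaO, omega_apply,
    PrincipalBlock.omega_trivChar] at h
  convert h using 3
  · refine Finset.sum_congr rfl fun x _ => ?_
    simp [z, toC, hf]
  · simp [z, toC, hf]

/-- Characters of the principal block are invariant. -/
theorem invariant (hM : Cfsg.IsPModular p M) (Q : Sylow p N)
    (hcov : N ⊔ Subgroup.centralizer (((Q : Subgroup N).map N.subtype : Subgroup G) : Set G) = ⊤)
    {θ : IrrCharacter N} (hθ : θ ∈ Cfsg.principalBlock M N) (g : G) (n : N) :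
    (θ : N → ℂ) ⟨g * n * g⁻¹, hN.conj_mem n n.2 g⟩ = (θ : N → ℂ) n := by
  classical
  obtain ⟨d, ρ, hρ, hc⟩ := θ.2
  let cn : N →* N := (MulAut.conjNormal (H := N) g).toMonoidHom
  haveI := Characters.nontrivial_of_isIrreducible ρ
  haveI : Representation.IsIrreducible (ρ.comp cn) := by
    refine Characters.isIrreducible_of_forall _ fun U hU => ?_
    have h := IsSimpleOrder.eq_bot_or_eq_top (⟨U, fun m x hx => by
      have := hU ((MulAut.conjNormal (H := N) g).symm m) x hx
      change ρ (MulAut.conjNormal g ((MulAut.conjNormal (H := N) g).symm m)) x ∈ U at this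
      rwa [MulEquiv.apply_symm_apply] at this⟩ : Subrepresentation ρ)
    exact h.imp (congrArg Subrepresentation.toSubmodule) (congrArg Subrepresentation.toSubmodule)
  have hval : ∀ m : N, Representation.character (ρ.comp cn) m =
      (θ : N → ℂ) ⟨g * m * g⁻¹, hN.conj_mem m m.2 g⟩ := fun m => by
    rw [← hc]
    show LinearMap.trace ℂ _ (ρ (cn m)) = LinearMap.trace ℂ _ (ρ _)
    congr 2
  by_contra hne
  obtain ⟨b, hb, hb0⟩ := exists_witness hM Q hcov g
  obtain ⟨b', hb', hb0'⟩ := exists_witness hM Q hcov g⁻¹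
  let A : Module.End ℂ (Fin d → ℂ) :=
    ∑ x : N, ((b : MonoidAlgebra ℤ G).coeff ((x : G) * g) : ℂ) • ρ x
  let B : Module.End ℂ (Fin d → ℂ) :=
    ∑ x : N, ((b' : MonoidAlgebra ℤ G).coeff (g⁻¹ * (x : G)) : ℂ) • ρ x
  have hint : ∀ m : N, A * ρ (cn m) = ρ m * A := by
    intro m
    simp only [A, Finset.sum_mul, Finset.mul_sum, smul_mul_assoc, mul_smul_comm, ← map_mul]
    let E : N ≃ N := (Equiv.mulRight (cn m)).trans (Equiv.mulLeft m⁻¹)
    refine Fintype.sum_equiv E _ _ fun x => ?_
    have he : m * E x = x * cn m := by simp [E]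
    rw [he]
    congr 2
    have h1 := mem_centN_iff.1 b.2 _ (inv_mem m.2) ((x : G) * g)
    rw [← h1]
    congr 1
    have h2 : ((cn m : N) : G) = g * m * g⁻¹ := MulAut.conjNormal_apply g m
    simp only [E, Equiv.trans_apply, Equiv.coe_mulRight, Equiv.coe_mulLeft, Subgroup.coe_mul,
      Subgroup.coe_inv, h2]
    group
  have hA : A = 0 := by
    by_contra hA0
    let φ : Representation.IntertwiningMap (ρ.comp cn) ρ :=
      ⟨A, fun m => LinearMap.ext fun x => LinearMap.congr_fun (hint m) x⟩
    rcases Representation.IsIrreducible.bijective_or_eq_zero φ with h | h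
    · apply hne
      rw [← hval n]
      have hbij : Function.Bijective A := h
      let e := LinearEquiv.ofBijective A hbij
      have he : ρ n = e.conj ((ρ.comp cn) n) := by
        refine LinearMap.ext fun x => ?_
        obtain ⟨y, rfl⟩ := e.surjective x
        rw [LinearEquiv.conj_apply_apply, LinearEquiv.symm_apply_apply]
        exact (LinearMap.congr_fun (hint n) y).symm
      rw [← hc]
      show LinearMap.trace ℂ _ _ = LinearMap.trace ℂ _ (ρ n)
      rw [he, LinearMap.trace_conj']
    · exact hA0 (congrArg Representation.IntertwiningMap.toLinearMap h)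
  have hprod : ∀ x : G, ((b * b' : centN N) : MonoidAlgebra ℤ G).coeff x =
      ∑ m : N, (b : MonoidAlgebra ℤ G).coeff ((m : G) * g) *
        (b' : MonoidAlgebra ℤ G).coeff (g⁻¹ * ((m : G)⁻¹ * x)) := by
    intro x
    rw [Subring.coe_mul, coeff_mul_eq_sum]
    rw [← Finset.sum_filter_add_sum_filter_not Finset.univ
        (fun y : G => y * g⁻¹ ∈ N), Finset.sum_eq_zero
        (s := Finset.univ.filter fun y : G => y * g⁻¹ ∉ N) (fun y hy => by
          rw [show (b : MonoidAlgebra ℤ G).coeff y = 0 by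
            by_contra h
            refine (Finset.mem_filter.1 hy).2 ?_
            have h1 := hN.mem_comm (QuotientGroup.eq.1 (hb y h).symm)
            exact h1, zero_mul]), add_zero]
    refine (Finset.sum_bij (fun (m : N) _ => (m : G) * g) (fun m _ => by simp)
      (fun m _ k _ h => Subtype.ext (mul_right_cancel h)) (fun y hy => ?_) fun m _ => ?_).symm
    · exact ⟨⟨y * g⁻¹, (Finset.mem_filter.1 hy).2⟩, Finset.mem_univ _, inv_mul_cancel_right y g⟩
    · rw [mul_inv_rev, mul_assoc]
  have htr : ∑ x : N, (((b * b' : centN N) : MonoidAlgebra ℤ G).coeff x : ℂ) * (θ : N → ℂ) x = 0 := by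
    have h0 : LinearMap.trace ℂ _ (A * B) = 0 := by rw [hA, zero_mul, map_zero]
    rw [← h0]
    simp only [A, B]
    rw [Finset.sum_mul]
    simp only [Finset.mul_sum, smul_mul_smul_comm, ← map_mul, map_sum, map_smul, smul_eq_mul]
    simp only [hprod, Int.cast_sum, Int.cast_mul, Finset.sum_mul]
    rw [Finset.sum_comm]
    refine Finset.sum_congr rfl fun m _ => ?_
    refine Fintype.sum_equiv (Equiv.mulLeft m⁻¹) _ _ fun x => ?_
    simp only [Equiv.coe_mulLeft, mul_inv_cancel_left, ← hc, Subgroup.coe_mul, Subgroup.coe_inv]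
    rfl
  have h := ev_mem_of_principal hθ (b * b')
  rw [htr, zero_div, zero_sub] at h
  have haug : ∑ x : N, (((b * b' : centN N) : MonoidAlgebra ℤ G).coeff x : ℂ) =
      (aug ((b * b' : centN N) : MonoidAlgebra ℤ G) : ℂ) := by
    rw [aug, Int.cast_sum, ← Finset.sum_filter_add_sum_filter_not Finset.univ (· ∈ N),
      Finset.sum_eq_zero (s := Finset.univ.filter fun x => x ∉ N) (fun x hx => by
        rw [show ((b * b' : centN N) : MonoidAlgebra ℤ G).coeff x = 0 by
          by_contra h1
          refine (Finset.mem_filter.1 hx).2 ((QuotientGroup.eq_one_iff x).1 ?_)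
          rw [(hb.mul hb') x h1, mul_inv_cancel, QuotientGroup.mk_one], Int.cast_zero]), add_zero,
      Finset.sum_subtype (Finset.univ.filter (· ∈ N)) (p := (· ∈ N)) (by simp)]
  rw [haug] at h
  have h2 := memLocalIdeal_neg h
  rw [neg_neg] at h2
  have h3 : ((aug ((b * b' : centN N) : MonoidAlgebra ℤ G) : ℤ) : Res M) = 0 := by
    rw [← map_intCast (red M), red_eq_zero_iff]
    exact h2
  rw [Subring.coe_mul, aug_mul, Int.cast_mul] at h3
  exact mul_ne_zero hb0 hb0' h3

/-- An extension in the principal block exists. -/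
theorem exists_extension (hM : Cfsg.IsPModular p M) (hidx : ¬ p ∣ N.index) (Q : Sylow p N)
    (hcov : N ⊔ Subgroup.centralizer (((Q : Subgroup N).map N.subtype : Subgroup G) : Set G) = ⊤)
    {θ : IrrCharacter N} (hθ : θ ∈ Cfsg.principalBlock M N) :
    ∃ χ : IrrCharacter G, χ ∈ Cfsg.principalBlock M G ∧
      ∀ n : N, (χ : G → ℂ) n = (θ : N → ℂ) n := by
  obtain ⟨d, ρ, hρ, hc⟩ := θ.2
  have hinv : ∀ (g : G) (n : N), ρ.character (MulAut.conjNormal g n) = ρ.character n := by
    rw [hc]
    exact CharactersDeep.ExtensionCriteria.hinv_rep N (invariant hM Q hcov hθ)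
  have hsurj := CharactersDeep.Extension.proj_surjective N ρ hinv
  haveI := CharactersDeep.Extension.finite_gam N ρ
  obtain ⟨k, hk⟩ := PRationalExtension.exponent_p_power hM ρ Q hcov hc hθ hinv
  obtain ⟨ν, hν⟩ := CharactersDeep.TransferExtend.exists_extend_of_coprime
    (CharactersDeep.Extension.base N ρ) (CharactersDeep.Extension.lam N ρ)
    (Nat.Coprime.pow_right k ((Nat.coprime_comm).1
      ((Fact.out : p.Prime).coprime_iff_not_dvd.2 hidx)))
    (CharactersDeep.Extension.exponent_index_self N ρ hsurj) hk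
  obtain ⟨S, hS⟩ := CharactersDeep.Extension.extends_of_hom N ρ hsurj ν hν
  obtain ⟨h1, h2⟩ := CharactersDeep.ExtensionCriteria.isIrr_of_rep N S hS
  obtain ⟨χ, hχ, hn⟩ := exists_normalized hM hθ Q hcov (ψ := ⟨_, h1⟩)
    (fun n => (h2 n).trans (congrFun hc n))
  obtain ⟨χ', hB, hχ'⟩ := exists_restrict_mem_principalBlock hn (MonoidHom.id G)
    Function.injective_id (fun x _ => ⟨x, rfl⟩)
  have : χ' = χ := Subtype.ext (funext hχ')
  exact ⟨χ, this ▸ hB, hχ⟩

/-- A twist by a character of the quotient keeping an extension in the principal block is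
trivial. -/
theorem twist_trivial (hM : Cfsg.IsPModular p M) (hidx : ¬ p ∣ N.index) (P : Sylow p G)
    (hsup : N ⊔ Subgroup.centralizer ((P : Subgroup G) : Set G) = ⊤)
    {ψ χ : IrrCharacter G} (hψ : ψ ∈ Cfsg.principalBlock M G) (hχ : χ ∈ Cfsg.principalBlock M G)
    {β : G ⧸ N → ℂ} (hβ : Cfsg.IsIrrCharacter (G ⧸ N) β)
    (h : ∀ x : G, (χ : G → ℂ) x = (ψ : G → ℂ) x * β x) : β = fun _ => 1 := by
  classical
  haveI := Fintype.ofFinite (G ⧸ N)
  obtain ⟨b, hb0, hb⟩ := Characters.exists_degree_pos hβ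
  have hbdvd : b ∣ N.index := by
    obtain ⟨m, σ, hσ, rfl⟩ := hβ
    rw [Representation.char_one, Nat.cast_inj] at hb
    rw [← hb, Subgroup.index_eq_card]
    exact Characters.finrank_dvd_card σ
  have hpb : ¬ p ∣ b := fun h1 => hidx (h1.trans hbdvd)
  have hloc : ∀ q : G ⧸ N, Cfsg.MemLocalRing M (β q / (b : ℂ)) := fun q => by
    rw [div_eq_mul_inv]
    exact Subring.mul_mem (localRing M)
      (memLocalRing_of_isIntegral (Characters.character_isIntegral (Characters.isCharacter_of_isIrr hβ) q))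
      (memLocalRing_natCast_inv hM hpb)
  have key : ∀ q : G ⧸ N, red M ⟨_, hloc q⟩ = 1 := by
    intro q
    obtain ⟨x, hxC, rfl⟩ : ∃ x ∈ Subgroup.centralizer ((P : Subgroup G) : Set G),
        (x : G ⧸ N) = q := by
      obtain ⟨g, rfl⟩ := QuotientGroup.mk_surjective q
      obtain ⟨n, hn, x, hx, rfl⟩ := Subgroup.mem_sup_of_normal_left.1 (hsup ▸ Subgroup.mem_top g)
      refine ⟨x, hx, ?_⟩
      rw [QuotientGroup.mk_mul, (QuotientGroup.eq_one_iff (N := N) n).2 hn, one_mul]
    set i := (Subgroup.centralizer ({x} : Set G)).index with hi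
    have hPi : ¬ p ∣ i := fun hd => P.not_dvd_index (hd.trans (Subgroup.index_dvd_of_le
      (show (P : Subgroup G) ≤ Subgroup.centralizer ({x} : Set G) from fun y hy =>
        Subgroup.mem_centralizer_singleton_iff.2 (Subgroup.mem_centralizer_iff.1 hxC y hy))))
    have htriv : Cfsg.centralChar (fun _ : G => (1 : ℂ)) x = (i : ℂ) := by
      simp [Cfsg.centralChar, hi]
    have h1 := hψ x
    have h2 := hχ x
    rw [htriv] at h1 h2
    set W : localRing M :=
      ⟨_, memLocalRing_of_isIntegral (M := M) (isIntegral_centralChar ψ x)⟩ with hW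
    have hprod : Cfsg.centralChar (χ : G → ℂ) x =
        Cfsg.centralChar (ψ : G → ℂ) x * (β x / (b : ℂ)) := by
      have hb1 : β ((1 : G) : G ⧸ N) = b := by rw [QuotientGroup.mk_one, hb]
      simp only [Cfsg.centralChar, h, hb1]
      have := Characters.irr_one_ne_zero ψ.2
      field_simp
    rw [hprod] at h2
    have e1 : red M (i : localRing M) = red M W := red_eq_red_iff.2 (by simpa [hW] using h1)
    have e2 : red M (i : localRing M) = red M (W * ⟨_, hloc x⟩) :=
      red_eq_red_iff.2 (by simpa [hW] using h2)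
    rw [map_mul, ← e1] at e2
    have hne : red M (i : localRing M) ≠ 0 := by
      rw [map_natCast, Ne, red_natCast_eq_zero_iff hM]
      exact hPi
    exact mul_left_cancel₀ hne (by rw [← e2, mul_one])
  by_contra hne
  have hsum : ∑ q : G ⧸ N, β q = 0 := by
    have h1 := Characters.classInner_isIrr_ne hβ (trivialIrr (G ⧸ N)).2 hne
    rw [Cfsg.classInner, mul_eq_zero] at h1
    have h2 := h1.resolve_left (inv_ne_zero Characters.natCard_ne_zero)
    simpa [trivialIrr] using h2
  have h0 : red M (∑ q : G ⧸ N, (⟨_, hloc q⟩ : localRing M)) = 0 := by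
    have : (∑ q : G ⧸ N, (⟨_, hloc q⟩ : localRing M)) = 0 := Subtype.ext (by
      simp [← Finset.sum_div, hsum])
    rw [this, map_zero]
  rw [map_sum, Finset.sum_congr rfl fun q _ => key q, Finset.sum_const, Finset.card_univ,
    nsmul_eq_mul, mul_one, red_natCast_eq_zero_iff hM, ← Nat.card_eq_fintype_card,
    ← Subgroup.index_eq_card] at h0
  exact hidx h0

/-- The restriction bijection of Alperin and Dade. -/
theorem main (hM : Cfsg.IsPModular p M) (hidx : ¬ p ∣ N.index) (P : Sylow p G)
    (hsup : N ⊔ Subgroup.centralizer ((P : Subgroup G) : Set G) = ⊤) :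
    (∀ χ ∈ Cfsg.principalBlock M G, ∃ θ ∈ Cfsg.principalBlock M N,
      ∀ n : N, (χ : G → ℂ) n = (θ : N → ℂ) n) ∧
    ∀ θ ∈ Cfsg.principalBlock M N, ∃! χ : IrrCharacter G, χ ∈ Cfsg.principalBlock M G ∧
      ∀ n : N, (χ : G → ℂ) n = (θ : N → ℂ) n := by
  classical
  have hPN : (P : Subgroup G) ≤ N := by
    intro x hx
    obtain ⟨k, hk⟩ := P.2 ⟨x, hx⟩
    have hx1 : x ^ p ^ k = 1 := congrArg Subtype.val hk
    have h1 : orderOf (x : G ⧸ N) ∣ p ^ k := orderOf_dvd_of_pow_eq_one (by
      rw [← QuotientGroup.mk_pow, hx1, QuotientGroup.mk_one])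
    have h2 : orderOf (x : G ⧸ N) ∣ N.index := by
      rw [Subgroup.index_eq_card]; exact orderOf_dvd_natCard _
    have h3 := Nat.dvd_gcd h1 h2
    rw [Nat.Coprime.gcd_eq_one (Nat.Coprime.pow_left k
      ((Fact.out : p.Prime).coprime_iff_not_dvd.2 hidx)), Nat.dvd_one, orderOf_eq_one_iff] at h3
    exact (QuotientGroup.eq_one_iff x).1 h3
  let Q : Sylow p N := P.subtype hPN
  have hQ : (Q : Subgroup N).map N.subtype = P := Subgroup.map_subgroupOf_eq_of_le hPN
  have hcov : N ⊔ Subgroup.centralizer (((Q : Subgroup N).map N.subtype : Subgroup G) : Set G) = ⊤ := by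
    rw [hQ]; exact hsup
  have heq : ∀ {θ : IrrCharacter N} {ψ χ : IrrCharacter G}, ψ ∈ Cfsg.principalBlock M G →
      χ ∈ Cfsg.principalBlock M G → (∀ n : N, (ψ : G → ℂ) n = (θ : N → ℂ) n) →
      Cfsg.classInner (fun n : N => (χ : G → ℂ) n) (θ : N → ℂ) ≠ 0 → χ = ψ := by
    intro θ ψ χ hψ hχ hres hne
    have he : (fun n : N => (ψ : G → ℂ) n) = (θ : N → ℂ) := funext hres
    obtain ⟨β, hβ, hχβ⟩ := CharactersDeep.Gallagher.exists_eq_prodInfl N ψ.2
      (by rw [he]; exact θ.2) χ.2 (by rw [he]; exact hne)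
    have := twist_trivial hM hidx P hsup hψ hχ hβ (congrFun hχβ)
    exact Subtype.ext (funext fun x => by
      rw [congrFun hχβ x]; simp [CharactersDeep.Gallagher.prodInfl, this])
  refine ⟨fun χ hχ => ?_, fun θ hθ => ?_⟩
  · obtain ⟨θ, hne⟩ := BlocksLocal.exists_constituent N χ
    have hθ := PrincipalNormal.constituent_mem_principal N hχ hne
    obtain ⟨ψ, hψ, hres⟩ := exists_extension hM hidx Q hcov hθ
    exact ⟨θ, hθ, by rw [heq hψ hχ hres hne]; exact hres⟩
  · obtain ⟨ψ, hψ, hres⟩ := exists_extension hM hidx Q hcov hθ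
    refine ⟨ψ, ⟨hψ, hres⟩, fun χ hχ => heq hψ hχ.1 hres ?_⟩
    rw [show (fun n : N => (χ : G → ℂ) n) = (θ : N → ℂ) from funext hχ.2,
      Characters.classInner_isIrr_self θ.2]
    exact one_ne_zero

end CfsgLib.BlocksCharsC.AlperinDade
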