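import Cfsg.Agent.BlocksCharsC.PiCharacters
import Cfsg.Agent.CharactersDeep.RelativeMGroup
import Cfsg.Agent.CharactersDeep.Gallagher
import Cfsg.Agent.CharactersDeep.GoingDown
import Cfsg.Agent.Characters.Monomial
import Cfsg.Agent.Characters.BrauerInduction
import Cfsg.Agent.Coprime.SchurZassenhaus
import Mathlib.GroupTheory.RegularWreathProduct

/-!
# Solvable groups embed in monomial groups
-/

set_option autoImplicit false
set_option linter.unusedSectionVars false
set_option linter.style.haveILetI false

namespace CfsgLib.BlocksCharsC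

open CfsgLib.Characters CfsgLib.CharactersDeep
open scoped ComplexConjugate Classical

universe u

/-- Every irreducible character is induced from a linear character. -/
def Monomial (M : Type u) [Group M] [Fintype M] : Prop :=
  ∀ χ : M → ℂ, Cfsg.IsIrrCharacter M χ →
    ∃ (H : Subgroup M) (lam : H →* ℂˣ), χ = Cfsg.indFun H (fun h => (lam h : ℂ))

theorem monomial_of_subsingleton (M : Type u) [Group M] [Fintype M] [Subsingleton M] :
    Monomial M := by
  intro χ hχ
  obtain ⟨f, hf⟩ := exists_hom_of_degree_one (isCharacter_of_isIrr hχ)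
    (GoingDown.linear_of_abelian (fun a b => Subsingleton.elim _ _) ⟨χ, hχ⟩)
  refine ⟨⊤, f.comp (Subgroup.subtype ⊤), ?_⟩
  conv_lhs => rw [← indFun_top_classFunction (isClassFunction_of_isIrr hχ)]
  simp [hf]

/-- Induction along an injective homomorphism. -/
theorem indFun_map {A : Type u} [Group A] [Fintype A] {G : Type u} [Group G] [Fintype G]
    (f : A →* G) (hf : Function.Injective f) (B : Subgroup G) [Fintype B] (hB : f.range = B)
    (ψ : B → ℂ) (K : Subgroup A) (lam : K →* ℂˣ)
    (hψ : ∀ a : A, ψ ⟨f a, hB ▸ ⟨a, rfl⟩⟩ = Cfsg.indFun K (fun k => (lam k : ℂ)) a) :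
    ∃ (H : Subgroup G) (mu : H →* ℂˣ),
      Cfsg.indFun B ψ = Cfsg.indFun H (fun h => (mu h : ℂ)) := by
  subst hB
  let e := K.equivMapOfInjective f hf
  refine ⟨K.map f, lam.comp e.symm.toMonoidHom, ?_⟩
  have hle : K.map f ≤ f.range := Subgroup.map_le_range f K
  rw [← indFun_trans (K.map f) f.range hle]
  congr 1
  funext b
  obtain ⟨_, a, rfl⟩ := b
  rw [hψ]
  simp only [Cfsg.indFun]
  rw [Nat.card_congr (Subgroup.subgroupOfEquivOfLe hle).toEquiv,
    ← Nat.card_congr e.toEquiv]
  congr 1
  refine Fintype.sum_equiv (MonoidHom.ofInjective hf).toEquiv _ _ fun y => ?_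
  have key : ((MonoidHom.ofInjective hf y : f.range) : G) = f y := rfl
  set z : f.range := (MonoidHom.ofInjective hf y)⁻¹ * ⟨f a, a, rfl⟩ * MonoidHom.ofInjective hf y
    with hz
  have hzv : (z : G) = f (y⁻¹ * a * y) := by simp [hz, key]
  change _ = Cfsg.extendByZero _ _ z
  by_cases h : y⁻¹ * a * y ∈ K
  · have h' : z ∈ (K.map f).subgroupOf f.range := by
      rw [Subgroup.mem_subgroupOf, hzv]
      exact Subgroup.mem_map_of_mem f h
    rw [extendByZero_of_mem _ _ h, extendByZero_of_mem _ _ h', MonoidHom.comp_apply]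
    refine congrArg (fun k => (lam k : ℂ)) ?_
    refine (e.symm_apply_eq.2 (Subtype.ext ?_)).symm
    exact hzv
  · have h' : z ∉ (K.map f).subgroupOf f.range := by
      rw [Subgroup.mem_subgroupOf, hzv]
      exact fun h' => h ((Subgroup.mem_map_iff_mem hf).1 h')
    rw [extendByZero_of_not_mem _ _ h, extendByZero_of_not_mem _ _ h']

variable (M : Type u) [Group M] (Q : Type u) [Group Q]

/-- The base group of a regular wreath product. -/
def baseEmb : (Q → M) →* M ≀ᵣ Q where
  toFun f := ⟨f, 1⟩
  map_one' := rfl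
  map_mul' f g := by ext <;> simp

/-- The monomial subgroup lying over a subgroup of `M`. -/
def overSub (H : Subgroup M) : Subgroup (M ≀ᵣ Q) where
  carrier := {w | ∀ x, w.left x ∈ H}
  one_mem' := fun _ => H.one_mem
  mul_mem' := fun {a b} ha hb x => H.mul_mem (ha x) (hb _)
  inv_mem' := fun {a} ha x => H.inv_mem (ha _)

theorem baseEmb_injective : Function.Injective (baseEmb M Q) := fun f g h =>
  congrArg RegularWreathProduct.left h

theorem baseEmb_range : (baseEmb M Q).range = (RegularWreathProduct.rightHom (D := M) (Q := Q)).ker := by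
  ext w
  constructor
  · rintro ⟨f, rfl⟩; rfl
  · intro h; exact ⟨w.left, by ext <;> first | rfl | exact (MonoidHom.mem_ker.1 h).symm⟩

variable {M Q}

theorem monomial_wreath [Fintype M] [Fintype Q] [Fintype (M ≀ᵣ Q)] (hM : Monomial M)
    (hQ : (Nat.card Q).Prime) : Monomial (M ≀ᵣ Q) := by
  intro χ hχ
  haveI : Fact (Nat.card Q).Prime := ⟨hQ⟩
  set π : M ≀ᵣ Q →* Q := RegularWreathProduct.rightHom
  have hsurj : Function.Surjective π := fun σ => ⟨RegularWreathProduct.inl σ, rfl⟩
  set B : Subgroup (M ≀ᵣ Q) := π.ker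
  haveI : B.Normal := MonoidHom.normal_ker π
  haveI := Fintype.ofFinite B
  let eQ : (M ≀ᵣ Q) ⧸ B ≃* Q := QuotientGroup.quotientKerEquivOfSurjective π hsurj
  have hidx : B.index = Nat.card Q := by
    rw [Subgroup.index_eq_card, Nat.card_congr eQ.toEquiv]
  have hQcomm : ∀ a b : Q, a * b = b * a := by
    haveI : IsCyclic Q := isCyclic_of_prime_card rfl
    exact fun a b => mul_comm' a b
  have hqcomm : ∀ a b : (M ≀ᵣ Q) ⧸ B, a * b = b * a := fun a b =>
    eQ.injective (by rw [map_mul, map_mul, hQcomm])
  haveI : Group.IsSolvable ((M ≀ᵣ Q) ⧸ B) := Group.isSolvable_of_comm hqcomm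
  let emb := baseEmb M Q
  have hemb : Function.Injective emb := baseEmb_injective M Q
  have hrange : emb.range = B := baseEmb_range M Q
  have hmem : ∀ f, emb f ∈ B := fun f => rfl
  let eB : (Q → M) →* B := emb.codRestrict B hmem
  have heB : Function.Surjective eB := fun b => by
    obtain ⟨f, hf⟩ : (b : M ≀ᵣ Q) ∈ emb.range := by rw [hrange]; exact b.2
    exact ⟨f, Subtype.ext hf⟩
  have hnsq : ∀ K L : Subgroup (M ≀ᵣ Q), B ≤ L → L < K → ¬ IsSquare (L.relIndex K) := by
    intro K L hBL hLK hsq
    have h0 : L.relIndex K ∣ Nat.card Q := by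
      rw [← hidx]
      exact (dvd_mul_right _ _).trans
        ((Subgroup.relIndex_mul_index hLK.le).symm ▸ Subgroup.index_dvd_of_le hBL)
    rcases (Nat.dvd_prime hQ).1 h0 with h | h
    · exact hLK.not_ge (Subgroup.relIndex_eq_one.1 h)
    · rw [h] at hsq
      exact hQ.prime.irreducible.not_isSquare hsq
  rcases RelativeMGroup.restrict_irr_or_exists B hχ
    (fun K L _ _ hBL hLK _ => hnsq K L hBL hLK) with
    hres | ⟨T, ψ, hT, hBT, hψ, hind⟩
  · -- the restriction is invariant, a product of copies of one character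
    have hθ : Cfsg.IsIrrCharacter (Q → M) (fun f => χ (emb f)) := isIrr_comp eB heB hres
    obtain ⟨φ, hφ, hprod⟩ := exists_eq_prodChar hθ
    have hconst : ∀ σ, φ σ = φ 1 := by
      intro σ
      have h : prodChar φ = prodChar (fun x => φ (σ * x)) := by
        funext f
        have h1 : χ (emb (fun x => f (σ⁻¹ * x))) = χ (emb f) := by
          have h2 : RegularWreathProduct.inl σ * emb f * (RegularWreathProduct.inl σ)⁻¹ =
              emb (fun x => f (σ⁻¹ * x)) := by
            ext <;> simp [emb, baseEmb]
          rw [← h2]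
          exact isClassFunction_of_isIrr hχ (emb f) _
        rw [← congrFun hprod f, ← h1]
        refine (congrFun hprod _).trans ?_
        simp only [prodChar]
        exact (Fintype.prod_equiv (Equiv.mulLeft σ) _ _ fun x => by simp).symm
      exact ((congrFun (prodChar_injective hφ (fun x => hφ (σ * x)) h) 1).trans
        (by rw [mul_one])).symm
    obtain ⟨H, lam, hlam⟩ := hM (φ 1) (hφ 1)
    let T := overSub M Q H
    haveI := Fintype.ofFinite T
    let Lam : T →* ℂˣ :=
      { toFun := fun w => ∏ x, lam ⟨(w : M ≀ᵣ Q).left x, w.2 x⟩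
        map_one' := Finset.prod_eq_one fun x _ => map_one lam
        map_mul' := fun a b => by
          rw [← Equiv.prod_comp (Equiv.mulLeft (a : M ≀ᵣ Q).right⁻¹)
            (fun x => lam ⟨(b : M ≀ᵣ Q).left x, b.2 x⟩), ← Finset.prod_mul_distrib]
          exact Finset.prod_congr rfl fun x _ => by rw [← map_mul]; rfl }
    have hcardT : Nat.card T = Nat.card H ^ Nat.card Q * Nat.card Q := by
      rw [← RegularWreathProduct.card (D := H) (Q := Q)]
      exact Nat.card_congr
        { toFun := fun w => ⟨fun x => ⟨(w : M ≀ᵣ Q).left x, w.2 x⟩, (w : M ≀ᵣ Q).right⟩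
          invFun := fun w => ⟨⟨fun x => w.left x, w.right⟩, fun x => (w.left x).2⟩
          left_inv := fun _ => rfl
          right_inv := fun _ => rfl }
    set μ := Cfsg.indFun T (fun t => (Lam t : ℂ)) with hμdef
    have hμ : ∀ f, μ (emb f) = χ (emb f) := by
      intro f
      rw [congrFun hprod f]
      have hext : ∀ g : Q → M, Cfsg.extendByZero T (fun t => (Lam t : ℂ)) (emb g) =
          ∏ x, Cfsg.extendByZero H (fun h => (lam h : ℂ)) (g x) := by
        intro g
        by_cases hg : ∀ x, g x ∈ H
        · rw [extendByZero_of_mem T _ (show emb g ∈ T from hg)]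
          simp only [Lam, MonoidHom.coe_mk, OneHom.coe_mk, Units.coe_prod]
          exact Finset.prod_congr rfl fun x _ =>
            (extendByZero_of_mem H (fun h => (lam h : ℂ)) (hg x)).symm
        · rw [extendByZero_of_not_mem T _ (show emb g ∉ T from hg)]
          push Not at hg
          obtain ⟨x, hx⟩ := hg
          rw [Finset.prod_eq_zero (Finset.mem_univ x) (extendByZero_of_not_mem H _ hx)]
      have hconj : ∀ w : M ≀ᵣ Q, w⁻¹ * emb f * w =
          emb (fun x => (w.left (w.right * x))⁻¹ * f (w.right * x) * w.left (w.right * x)) :=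
        fun w => by ext <;> simp [emb, baseEmb]
      simp only [hμdef, Cfsg.indFun, hconj, hext, prodChar, hconst, hlam, Finset.prod_mul_distrib,
        Finset.prod_const, Finset.card_univ]
      have hsum : ∀ F : M ≀ᵣ Q → ℂ, ∑ w, F w = ∑ a : Q → M, ∑ σ : Q, F ⟨a, σ⟩ := fun F => by
        rw [← Fintype.sum_prod_type']
        exact Fintype.sum_equiv (RegularWreathProduct.equivProd M Q) _ _ fun w => rfl
      rw [hsum, Finset.sum_congr rfl fun a _ => Finset.sum_congr rfl fun σ _ =>
          Fintype.prod_equiv (Equiv.mulLeft σ) _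
            (fun x => Cfsg.extendByZero H (fun h => (lam h : ℂ)) ((a x)⁻¹ * f x * a x))
            fun x => rfl]
      simp only [Finset.sum_const, Finset.card_univ, nsmul_eq_mul]
      rw [← Finset.mul_sum, Fintype.prod_sum, hcardT, ← Nat.card_eq_fintype_card, Nat.cast_mul,
        Nat.cast_pow, mul_inv, ← inv_pow]
      have hq : (Nat.card Q : ℂ) ≠ 0 := natCard_ne_zero
      field_simp
    have hμB : ∀ b : B, μ b = χ b := fun b => by
      obtain ⟨f, rfl⟩ := heB b
      exact hμ f
    have hμres : (fun b : B => μ b) = fun b : B => χ b := funext hμB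
    -- the monomial character is irreducible
    have hμc : Cfsg.IsCharacter (M ≀ᵣ Q) μ :=
      isCharacter_indFun T (isCharacter_of_isIrr (isIrr_linChar Lam))
    have hμirr : Cfsg.IsIrrCharacter (M ≀ᵣ Q) μ := by
      obtain ⟨m, hm⟩ := exists_nat_coeff hμc
      have h1 : (fun b : B => μ b) = ∑ η : Cfsg.IrrCharacter (M ≀ᵣ Q),
          (m η : ℂ) • fun b : B => (η : M ≀ᵣ Q → ℂ) b := by
        funext b
        rw [hm]
        simp [Finset.sum_apply]
      have h2 := classInner_isIrr_self hres
      nth_rw 1 [← hμres] at h2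
      rw [h1, classInner_sum_left] at h2
      obtain ⟨η, -, hη⟩ := Finset.exists_ne_zero_of_sum_ne_zero (h2.trans_ne one_ne_zero)
      rw [classInner_smul_left, mul_ne_zero_iff] at hη
      obtain ⟨a, ha⟩ := exists_degree hμc
      obtain ⟨b, hb⟩ := exists_degree (isCharacter_of_isIrr η.2)
      have hab : a ≤ b :=
        degree_constituent_le (isCharacter_restrict B (isCharacter_of_isIrr η.2)) hres hη.2
          (by simpa using hb) (by
            have := congrFun hμres 1
            simp only [OneMemClass.coe_one] at this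
            rw [← ha, this]; simp)
      rw [Clifford.eq_of_constituent_of_degree_le hμc η.2 ?_ ha hb hab]
      · exact η.2
      · rw [hm, classInner_irr_coeff (fun θ => (m θ : ℂ)) η]
        exact hη.1
    obtain ⟨β, hβ, hχμ⟩ := Gallagher.exists_eq_prodInfl B hμirr (by rw [hμres]; exact hres) hχ
      (by rw [hμres, classInner_isIrr_self hres]; exact one_ne_zero)
    obtain ⟨g, hg⟩ := exists_hom_of_degree_one (isCharacter_of_isIrr hβ)
      (GoingDown.linear_of_abelian hqcomm ⟨β, hβ⟩)
    refine ⟨T, Lam * (g.comp (QuotientGroup.mk' B)).comp T.subtype, ?_⟩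
    simp only [MonoidHom.mul_apply, MonoidHom.comp_apply, Units.val_mul]
    rw [hχμ]
    refine Eq.trans ?_ (indFun_mul T (fun t => (Lam t : ℂ))
      (χ := fun w => (g (QuotientGroup.mk' B w) : ℂ)) ?_).symm
    · funext w
      simp [Gallagher.prodInfl, hg, hμdef]
    · intro a b
      simp only [map_mul, map_inv, mul_inv_cancel_comm]
  · -- induced from the base group
    have hTB : T = B := by
      have hd : T.index ∣ B.index := Subgroup.index_dvd_of_le hBT
      rw [hidx] at hd
      rcases (Nat.dvd_prime hQ).1 hd with h | h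
      · exact absurd (Subgroup.index_eq_one.1 h) hT
      · refine (Subgroup.relIndex_eq_one.1 ?_).antisymm hBT
        have := Subgroup.relIndex_mul_index hBT
        rw [hidx, h] at this
        exact (Nat.mul_eq_right hQ.ne_zero).1 this
    subst hTB
    haveI := Fintype.ofFinite B
    have hθ : Cfsg.IsIrrCharacter (Q → M) (fun f => ψ (eB f)) := isIrr_comp eB heB hψ
    obtain ⟨φ, hφ, hprod⟩ := exists_eq_prodChar hθ
    choose H lam hlam using fun x => hM (φ x) (hφ x)
    obtain ⟨Lam, hLam⟩ := exists_prod_monomial H lam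
    obtain ⟨K, mu, hK⟩ := indFun_map emb hemb B hrange ψ _ Lam (fun f => by
      rw [hLam, ← funext hlam]
      exact congrFun hprod f)
    exact ⟨K, mu, hind.symm.trans hK⟩

/-- The embedding of Kaloujnine and Krasner, in a wreath product over a larger group. -/
theorem exists_embedding_wreath {G : Type u} [Group G] (N : Subgroup G) [N.Normal] {D : Type u}
    [Group D] (i : N →* D) (hi : Function.Injective i) :
    ∃ f : G →* D ≀ᵣ (G ⧸ N), Function.Injective f := by
  let s : G ⧸ N → G := Quotient.out
  have hs : ∀ x : G ⧸ N, (s x : G ⧸ N) = x := QuotientGroup.out_eq'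
  have hmem : ∀ (g : G) (x : G ⧸ N), (s x)⁻¹ * g * s ((g : G ⧸ N)⁻¹ * x) ∈ N := fun g x => by
    rw [← QuotientGroup.eq_one_iff]
    simp only [QuotientGroup.mk_mul, QuotientGroup.mk_inv, hs]
    group
  let f : G →* D ≀ᵣ (G ⧸ N) := MonoidHom.mk' (fun g => ⟨fun x => i ⟨_, hmem g x⟩, (g : G ⧸ N)⟩)
    fun g h => by
      ext x
      · simp only [RegularWreathProduct.mul_left, Pi.mul_apply, ← map_mul]
        congr 1
        ext
        simp only [Subgroup.coe_mul, QuotientGroup.mk_mul, mul_inv_rev, mul_assoc,
          mul_inv_cancel_left]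
      · rfl
  refine ⟨f, fun g g' h => ?_⟩
  have h1 : (g : G ⧸ N) = g' := congrArg RegularWreathProduct.right h
  have h2 := congrArg (fun n : N => (n : G))
    (hi (congrFun (congrArg RegularWreathProduct.left h) (1 : G ⧸ N)))
  simp only [h1] at h2
  exact mul_left_cancel (mul_right_cancel h2)

/-- Every finite solvable group embeds in a finite monomial group. -/
theorem exists_monomial_embedding : ∀ (n : ℕ) (G : Type u) [Group G] [Finite G],
    Nat.card G = n → Group.IsSolvable G →
    ∃ (M : Type u) (_ : Group M) (_ : Fintype M), Monomial M ∧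
      ∃ f : G →* M, Function.Injective f := by
  intro n
  induction n using Nat.strong_induction_on with
  | _ n ih =>
    intro G _ _ hn hsolv
    rcases subsingleton_or_nontrivial G with hG | hG
    · exact ⟨G, inferInstance, Fintype.ofFinite G, @monomial_of_subsingleton G _ (Fintype.ofFinite G) hG,
        MonoidHom.id G, Function.injective_id⟩
    · haveI := hsolv
      obtain ⟨N, hN, hp⟩ := Coprime.exists_normal_index_prime G
      haveI := hN
      have hlt : Nat.card N < n := by
        rw [← hn, ← Subgroup.card_mul_index N]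
        exact lt_mul_of_one_lt_right Nat.card_pos hp.one_lt
      obtain ⟨M, _, _, hM, i, hi⟩ := ih _ hlt N rfl inferInstance
      haveI := Fintype.ofFinite (G ⧸ N)
      haveI := Fintype.ofFinite (M ≀ᵣ (G ⧸ N))
      exact ⟨M ≀ᵣ (G ⧸ N), inferInstance, inferInstance,
        monomial_wreath hM (by rw [← Subgroup.index_eq_card]; exact hp),
        exists_embedding_wreath N i hi⟩

end CfsgLib.BlocksCharsC
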