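import Cfsg.Prelude.Def_Blocks
import Cfsg.Agent.BlocksCharsC.WreathMonomial
import Cfsg.Agent.BlocksCharsC.CliffordInvariant
import Cfsg.Agent.CharactersDeep.Ramification
import Mathlib.GroupTheory.SemidirectProduct
import Mathlib.Data.Nat.Squarefree
import Mathlib.RingTheory.RootsOfUnity.Complex

/-!
# Solvable groups embed in quotients of groups of central type
-/

set_option autoImplicit false
set_option linter.unusedSectionVars false
set_option linter.style.haveILetI false

namespace CfsgLib.BlocksCharsC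

open CfsgLib.Characters CfsgLib.CharactersDeep
open scoped ComplexConjugate Classical IsMulCommutative

universe u

/-- Cyclic squarefree centre, and every other element is moved by a nontrivial central factor. -/
structure CentralType (H : Type u) [Group H] : Prop where
  cyclic : IsCyclic (Subgroup.center H)
  sqfree : Squarefree (Nat.card (Subgroup.center H))
  moves : ∀ h : H, h ∉ Subgroup.center H →
    ∃ g : H, g * h * g⁻¹ * h⁻¹ ∈ Subgroup.center H ∧ g * h * g⁻¹ * h⁻¹ ≠ 1

/-- A group of central type has a faithful character fully ramified over the centre. -/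
theorem CentralType.exists_char {H : Type u} [Group H] [Fintype H] (hH : CentralType H) :
    ∃ χ : Cfsg.IrrCharacter H, (∀ h : H, (χ : H → ℂ) h = (χ : H → ℂ) 1 → h = 1) ∧
      Cfsg.charDegree (χ : H → ℂ) ^ 2 = (Subgroup.center H).index := by
  set Z := Subgroup.center H
  haveI := Fintype.ofFinite Z
  haveI := hH.cyclic
  obtain ⟨z₀, hz₀⟩ := IsCyclic.exists_generator (α := Z)
  have hord : orderOf z₀ = Nat.card Z := orderOf_eq_card_of_forall_mem_zpowers hz₀
  have hne : Nat.card Z ≠ 0 := Nat.card_pos.ne'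
  let ζ : ℂˣ := Units.mk0 (Complex.exp (2 * Real.pi * Complex.I / (Nat.card Z : ℂ)))
    (Complex.exp_ne_zero _)
  have hζ : orderOf ζ = Nat.card Z := by
    rw [← orderOf_units]
    exact (Complex.isPrimitiveRoot_exp _ hne).eq_orderOf.symm
  let lam : Z →* ℂˣ := monoidHomOfForallMemZpowers (g := z₀) (g' := ζ) hz₀
    (by rw [hζ, hord])
  have hlam : ∀ z : Z, lam z = 1 → z = 1 := by
    intro z hz
    obtain ⟨k, rfl⟩ := Subgroup.mem_zpowers_iff.1 (hz₀ z)
    rw [map_zpow, monoidHomOfForallMemZpowers_apply_gen] at hz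
    rw [← orderOf_dvd_iff_zpow_eq_one, hζ, ← hord, orderOf_dvd_iff_zpow_eq_one] at hz
    exact hz
  obtain ⟨χ, hχ, hover⟩ := Clifford.exists_over Z (isIrr_linChar lam)
  obtain ⟨d, hd, hd1⟩ := exists_degree_pos hχ
  have hinv : ∀ g : H, OddOrderChar.conjBy Z (fun z : Z => (lam z : ℂ)) g = fun z => (lam z : ℂ) := by
    intro g
    funext z
    refine congrArg (fun x => (lam x : ℂ)) (Subtype.ext ?_)
    show g * (z : H) * g⁻¹ = z
    rw [Subgroup.mem_center_iff.1 z.2 g, mul_inv_cancel_right]
  obtain ⟨e, -, heq, -⟩ := Clifford.restrict_eq_smul Z hχ (isIrr_linChar lam) hinv hover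
  have hed : (e : ℂ) = d := by
    have := congrFun heq 1
    simpa [hd1, eq_comm] using this
  have hres : ∀ z : Z, χ z = (d : ℂ) * (lam z : ℂ) := fun z => by
    have := congrFun heq z
    simpa [hed] using this
  have hd0 : (d : ℂ) ≠ 0 := Nat.cast_ne_zero.2 hd.ne'
  have hvan : ∀ h : H, h ∉ Z → χ h = 0 := by
    intro h hh
    obtain ⟨g, hgZ, hg1⟩ := hH.moves h hh
    have h1 := irr_central_mul hχ hgZ h
    rw [inv_mul_cancel_right, isClassFunction_of_isIrr hχ h g, hd1,
      show χ (g * h * g⁻¹ * h⁻¹) = _ from hres ⟨_, hgZ⟩] at h1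
    by_contra h0
    have h2 : (lam ⟨_, hgZ⟩ : ℂ) = 1 := by
      have h3 : ((lam ⟨_, hgZ⟩ : ℂ) - 1) * ((d : ℂ) * χ h) = 0 := by linear_combination -h1
      rcases mul_eq_zero.1 h3 with h4 | h4
      · exact sub_eq_zero.1 h4
      · exact absurd h4 (mul_ne_zero hd0 h0)
    exact hg1 (congrArg Subtype.val (hlam _ (Units.ext h2)))
  refine ⟨⟨χ, hχ⟩, fun h hh => ?_, ?_⟩
  · change χ h = χ 1 at hh
    by_cases hZ : h ∈ Z
    · rw [hd1, show χ h = _ from hres ⟨h, hZ⟩] at hh
      exact congrArg Subtype.val (hlam ⟨h, hZ⟩ (Units.ext (mul_left_cancel₀ hd0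
        (hh.trans (mul_one _).symm))))
    · rw [hvan h hZ, hd1] at hh
      exact absurd hh.symm hd0
  · have hnorm := (Ramification.vanish_iff Z hχ).1 hvan
    have hres' : (fun z : Z => χ z) = (d : ℂ) • fun z : Z => (lam z : ℂ) := funext hres
    rw [hres', classInner_smul_left, classInner_smul_right,
      classInner_isIrr_self (isIrr_linChar lam), Complex.conj_natCast, mul_one] at hnorm
    have hdeg : Cfsg.charDegree χ = d := by simp [Cfsg.charDegree, hd1]
    rw [hdeg, sq]
    exact_mod_cast hnorm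

/-- Adjoining a cyclic central factor of new prime order. -/
theorem CentralType.exists_dvd {H : Type u} [Group H] [Finite H] (hH : CentralType H)
    (Q : Type u) [Group Q] [Finite Q] (hQ : (Nat.card Q).Prime) :
    ∃ (H' : Type u) (_ : Group H') (_ : Finite H'), CentralType H' ∧
      Nat.card Q ∣ Nat.card (Subgroup.center H') ∧
      Nat.card (Subgroup.center H) ∣ Nat.card (Subgroup.center H') ∧
      Nat.card H' ∣ Nat.card H * Nat.card Q ∧
      ∃ f : H ⧸ Subgroup.center H →* H' ⧸ Subgroup.center H', Function.Injective f := by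
  by_cases hdvd : Nat.card Q ∣ Nat.card (Subgroup.center H)
  · exact ⟨H, inferInstance, inferInstance, hH, hdvd, dvd_rfl, dvd_mul_right _ _,
      MonoidHom.id _, Function.injective_id⟩
  have hcop : (Nat.card (Subgroup.center H)).Coprime (Nat.card Q) :=
    ((Nat.Prime.coprime_iff_not_dvd hQ).2 hdvd).symm
  haveI : Fact (Nat.card Q).Prime := ⟨hQ⟩
  haveI : IsCyclic Q := isCyclic_of_prime_card rfl
  haveI := hH.cyclic
  let e : Subgroup.center (H × Q) ≃* Subgroup.center H × Q :=
    { toFun := fun x => (⟨(x : H × Q).1, ((Subgroup.center_prod (G := H) (H := Q)).le x.2).1⟩,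
        (x : H × Q).2)
      invFun := fun x => ⟨((x.1 : H), x.2), by
        rw [Subgroup.center_prod]
        exact ⟨x.1.2, Subgroup.mem_center_iff.2 fun y => mul_comm' y x.2⟩⟩
      left_inv := fun _ => rfl
      right_inv := fun _ => rfl
      map_mul' := fun _ _ => rfl }
  have hcard : Nat.card (Subgroup.center (H × Q)) =
      Nat.card (Subgroup.center H) * Nat.card Q := by
    rw [Nat.card_congr e.toEquiv, Nat.card_prod]
  refine ⟨H × Q, inferInstance, inferInstance, ⟨?_, ?_, ?_⟩, hcard ▸ dvd_mul_left _ _,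
    hcard ▸ dvd_mul_right _ _, (Nat.card_prod H Q).dvd, ?_⟩
  · exact e.isCyclic.2 (Group.isCyclic_prod_iff.2 ⟨inferInstance, inferInstance, hcop⟩)
  · rw [hcard]
    exact (Nat.squarefree_mul hcop).2 ⟨hH.sqfree, hQ.prime.squarefree⟩
  · rintro ⟨h, a⟩ hh
    have hh' : h ∉ Subgroup.center H := fun hc => hh (by
      rw [Subgroup.center_prod]
      exact ⟨hc, Subgroup.mem_center_iff.2 fun y => mul_comm' y a⟩)
    obtain ⟨g, hg, hg1⟩ := hH.moves h hh'
    refine ⟨(g, 1), ?_, fun h1 => hg1 (by simpa using congrArg Prod.fst h1)⟩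
    rw [Subgroup.center_prod]
    exact ⟨hg, by simp⟩
  · have hle : Subgroup.center H ≤ (Subgroup.center (H × Q)).comap (MonoidHom.inl H Q) := fun h hh => by
      rw [Subgroup.mem_comap, Subgroup.center_prod]
      exact ⟨hh, by simp⟩
    refine ⟨QuotientGroup.map _ _ (MonoidHom.inl H Q) hle, (injective_iff_map_eq_one _).2 fun x => ?_⟩
    induction x using QuotientGroup.induction_on with
    | H h =>
      intro hx
      rw [QuotientGroup.map_mk, QuotientGroup.eq_one_iff, Subgroup.center_prod] at hx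
      exact (QuotientGroup.eq_one_iff h).2 hx.1

/-- A nondegenerate pairing of a group of prime order. -/
theorem exists_pairing {A : Type u} [CommGroup A] (Q : Type u) [Group Q] [Finite Q]
    (hQ : (Nat.card Q).Prime) {z : A} (hz : orderOf z = Nat.card Q) :
    ∃ P : Q →* (Q →* A), (∀ σ, σ ≠ 1 → ∃ a, P a σ ≠ 1) ∧ ∀ b, b ≠ 1 → ∃ σ, P b σ ≠ 1 := by
  haveI : Fact (Nat.card Q).Prime := ⟨hQ⟩
  haveI : IsCyclic Q := isCyclic_of_prime_card rfl
  obtain ⟨q, hq⟩ := IsCyclic.exists_generator (α := Q)
  have hord : orderOf q = Nat.card Q := orderOf_eq_card_of_forall_mem_zpowers hq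
  let e : Q →* A := monoidHomOfForallMemZpowers (g := q) (g' := z) hq (by rw [hz, hord])
  have hpow : e ^ Nat.card Q = 1 := MonoidHom.ext fun σ => by
    rw [MonoidHom.pow_apply, ← map_pow, pow_card_eq_one', map_one, MonoidHom.one_apply]
  let P : Q →* (Q →* A) := monoidHomOfForallMemZpowers (g := q) (g' := e) hq
    (by rw [hord]; exact orderOf_dvd_of_pow_eq_one hpow)
  have heq : e q = z := monoidHomOfForallMemZpowers_apply_gen hq _
  have hPq : P q = e := monoidHomOfForallMemZpowers_apply_gen hq _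
  have hz1 : z ≠ 1 := fun h => hQ.ne_one (by rw [← hz, h, orderOf_one])
  have hgen : ∀ (B : Type u) [Group B] (f : Q →* B), f q ≠ 1 → ∀ σ, σ ≠ 1 → f σ ≠ 1 := by
    intro B _ f hf σ hσ hfσ
    have hmem : q ∈ Subgroup.zpowers σ := mem_zpowers_of_prime_card rfl hσ
    obtain ⟨k, hk⟩ := Subgroup.mem_zpowers_iff.1 hmem
    exact hf (by rw [← hk, map_zpow, hfσ, one_zpow])
  refine ⟨P, fun σ hσ => ⟨q, ?_⟩, fun b hb => ⟨q, fun h => ?_⟩⟩
  · rw [hPq]; exact hgen A e (by rwa [heq]) σ hσ
  · have hflip : ((MonoidHom.eval q).comp P) q ≠ 1 := by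
      simpa [MonoidHom.eval, hPq, heq] using hz1
    exact hgen A _ hflip b hb h

section Step

variable (H : Type u) [Group H] (Q : Type u) [Group Q]

/-- Central functions in the wreath product. -/
def centralBase : (Q → Subgroup.center H) →* H ≀ᵣ Q :=
  (baseEmb H Q).comp (MonoidHom.piMap fun _ => (Subgroup.center H).subtype)

/-- The product of a central function. -/
def centralProd [Fintype Q] : (Q → Subgroup.center H) →* Subgroup.center H where
  toFun z := ∏ x, z x
  map_one' := Finset.prod_eq_one fun _ _ => rfl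
  map_mul' _ _ := Finset.prod_mul_distrib

theorem centralBase_conj (w : H ≀ᵣ Q) (z : Q → Subgroup.center H) :
    w * centralBase H Q z * w⁻¹ = centralBase H Q (fun x => z (w.right⁻¹ * x)) := by
  have h1 : ∀ x, (centralBase H Q z).left x = z x := fun x => rfl
  ext x
  · have hc := Subgroup.mem_center_iff.1 (z (w.right⁻¹ * x)).2 (w.left x)
    simp [centralBase, baseEmb, hc]
  · simp [centralBase, baseEmb]

/-- The kernel amalgamating the centres. -/
def amalgam [Fintype Q] : Subgroup (H ≀ᵣ Q) := (centralProd H Q).ker.map (centralBase H Q)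

instance [Fintype Q] : (amalgam H Q).Normal := by
  constructor
  rintro _ ⟨z, hz, rfl⟩ w
  rw [centralBase_conj]
  refine ⟨_, ?_, rfl⟩
  have hz' : ∏ x, z x = 1 := hz
  show ∏ x, z (w.right⁻¹ * x) = 1
  rw [← hz']
  exact Fintype.prod_equiv (Equiv.mulLeft w.right⁻¹) _ _ fun x => rfl

variable {H Q}

/-- The inductive step. -/
theorem CentralType.exists_wreath [Finite H] [Finite Q] (hH : CentralType H)
    (hQ : (Nat.card Q).Prime) (hdvd : Nat.card Q ∣ Nat.card (Subgroup.center H)) :
    ∃ (H' : Type u) (_ : Group H') (_ : Finite H'), CentralType H' ∧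
      Nat.card (Subgroup.center H') = Nat.card (Subgroup.center H) ∧
      Nat.card H' ∣ Nat.card H ^ Nat.card Q * Nat.card Q * Nat.card Q ∧
      ∃ F : (H ⧸ Subgroup.center H) ≀ᵣ Q →* H' ⧸ Subgroup.center H', Function.Injective F := by
  haveI := Fintype.ofFinite Q
  haveI : Fact (Nat.card Q).Prime := ⟨hQ⟩
  haveI : IsCyclic Q := isCyclic_of_prime_card rfl
  have hQc : ∀ a b : Q, a * b = b * a := fun a b => mul_comm' a b
  obtain ⟨z₀, hz₀⟩ := exists_prime_orderOf_dvd_card' (G := Subgroup.center H) (Nat.card Q) hdvd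
  obtain ⟨P, hP₁, hP₂⟩ := exists_pairing Q hQ hz₀
  set R := (H ≀ᵣ Q) ⧸ amalgam H Q
  let mk : H ≀ᵣ Q →* R := QuotientGroup.mk' (amalgam H Q)
  let π : R →* Q := QuotientGroup.lift (amalgam H Q) RegularWreathProduct.rightHom
    (by rintro _ ⟨z, -, rfl⟩; rfl)
  let cR : Subgroup.center H →* R :=
    (mk.comp (centralBase H Q)).comp (MonoidHom.mulSingle (fun _ : Q => Subgroup.center H) 1)
  have hprod : ∀ z : Q → Subgroup.center H, mk (centralBase H Q z) = cR (∏ x, z x) := by
    intro z
    refine QuotientGroup.eq.2 ?_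
    rw [← map_inv, ← map_mul]
    refine ⟨_, ?_, rfl⟩
    show ∏ y : Q, (z⁻¹ y * (Pi.mulSingle (1 : Q) (∏ x, z x) : Q → Subgroup.center H) y) = 1
    simp [Finset.prod_mul_distrib]
  have hcentral : ∀ (r : R) z, r * cR z = cR z * r := by
    intro r z
    obtain ⟨w, rfl⟩ := QuotientGroup.mk'_surjective (amalgam H Q) r
    refine mul_inv_eq_iff_eq_mul.1 ?_
    show mk w * mk (centralBase H Q (Pi.mulSingle 1 z)) * (mk w)⁻¹ = _
    rw [← map_inv, ← map_mul, ← map_mul, centralBase_conj, hprod]
    congr 1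
    exact (Fintype.prod_equiv (Equiv.mulLeft w.right⁻¹) _
      (Pi.mulSingle (M := fun _ : Q => Subgroup.center H) 1 z) fun x => rfl).trans (by simp)
  have hcR : Function.Injective cR := by
    refine (injective_iff_map_eq_one _).2 fun z hz => ?_
    obtain ⟨v, hv, hvz⟩ := (QuotientGroup.eq_one_iff _).1 hz
    have : v = Pi.mulSingle 1 z := funext fun x =>
      Subtype.ext (congrFun (congrArg RegularWreathProduct.left hvz) x)
    subst this
    simpa [centralProd] using (MonoidHom.mem_ker.1 hv)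
  have hπc : ∀ z, π (cR z) = 1 := fun z => rfl
  -- twisting automorphisms
  let tw : Q → R ≃* R := fun b =>
    { toFun := fun r => r * cR (P b (π r))
      invFun := fun r => r * cR (P b⁻¹ (π r))
      left_inv := fun r => by
        show r * cR (P b (π r)) * cR (P b⁻¹ (π (r * cR (P b (π r))))) = r
        rw [map_mul, hπc, mul_one, mul_assoc, ← map_mul, map_inv, MonoidHom.inv_apply,
          mul_inv_cancel, map_one, mul_one]
      right_inv := fun r => by
        show r * cR (P b⁻¹ (π r)) * cR (P b (π (r * cR (P b⁻¹ (π r))))) = r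
        rw [map_mul, hπc, mul_one, mul_assoc, ← map_mul, map_inv, MonoidHom.inv_apply,
          inv_mul_cancel, map_one, mul_one]
      map_mul' := fun r s => by
        rw [map_mul, map_mul, map_mul]
        rw [mul_assoc r s, mul_assoc r (cR _), ← mul_assoc (cR (P b (π r))) s,
          ← hcentral s, mul_assoc s] }
  let ψ : Q →* MulAut R := MonoidHom.mk' tw fun a b => MulEquiv.ext fun r => by
    show r * cR (P (a * b) (π r)) = r * cR (P b (π r)) * cR (P a (π (r * cR (P b (π r)))))
    rw [map_mul π, hπc, mul_one, mul_assoc, ← map_mul, map_mul P, MonoidHom.mul_apply, mul_comm]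
  haveI : Finite R := inferInstance
  haveI : Finite (R ⋊[ψ] Q) := Finite.of_equiv _ SemidirectProduct.equivProd.symm
  let ι : R →* (R ⋊[ψ] Q) := SemidirectProduct.inl
  let cH : Subgroup.center H →* (R ⋊[ψ] Q) := ι.comp cR
  have hcH : Function.Injective cH := SemidirectProduct.inl_injective.comp hcR
  have hψu : ∀ b (r : R), π r = 1 → ψ b r = r := fun b r hr => by
    show r * cR (P b (π r)) = r
    rw [hr, map_one, map_one, mul_one]
  have hψP : ∀ b (r : R), ψ b r = r * cR (P b (π r)) := fun b r => rfl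
  have hcH_comm : ∀ (h : (R ⋊[ψ] Q)) z, h * cH z = cH z * h := by
    intro h z
    refine SemidirectProduct.ext ?_ ?_
    · simp only [SemidirectProduct.mul_left, cH, ι, MonoidHom.comp_apply,
        SemidirectProduct.left_inl, SemidirectProduct.right_inl, map_one, MulAut.one_apply]
      rw [hψu _ _ (hπc z), hcentral]
    · simp [cH, ι]
  have hmem : ∀ z, cH z ∈ Subgroup.center (R ⋊[ψ] Q) := fun z =>
    Subgroup.mem_center_iff.2 fun g => hcH_comm g z
  -- every element outside the image of the centre is moved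
  have hmoves : ∀ h : (R ⋊[ψ] Q), h ∉ cH.range → ∃ g z, z ≠ 1 ∧ g * h * g⁻¹ = cH z * h := by
    intro h hh
    have hconj_inl : ∀ (u : R), ι u * h * (ι u)⁻¹ =
        ⟨u * h.left * ψ h.right u⁻¹, h.right⟩ := fun u => by
      refine SemidirectProduct.ext ?_ ?_ <;> simp [ι, mul_assoc]
    have hcH_mul : ∀ z, cH z * h = ⟨cR z * h.left, h.right⟩ := fun z => by
      refine SemidirectProduct.ext ?_ ?_ <;> simp [cH, ι]
    by_cases hσ : π h.left = 1
    swap
    · obtain ⟨a, ha⟩ := hP₁ _ hσ
      refine ⟨SemidirectProduct.inr a, P a (π h.left), ha, ?_⟩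
      rw [hcH_mul, ← hcentral, ← hψP]
      refine SemidirectProduct.ext ?_ ?_
      · simp
      · simp [hQc a]
    obtain ⟨w, hw⟩ := QuotientGroup.mk'_surjective (amalgam H Q) h.left
    change mk w = h.left at hw
    have hwr : w.right = 1 := by rw [← hw] at hσ; exact hσ
    have hw' : w = baseEmb H Q w.left := by ext <;> [rfl; exact hwr]
    by_cases hf : ∃ x, w.left x ∉ Subgroup.center H
    · obtain ⟨x, hx⟩ := hf
      obtain ⟨g₀, hg₀, hg₀1⟩ := hH.moves _ hx
      set u : H ≀ᵣ Q := baseEmb H Q (Pi.mulSingle x g₀)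
      refine ⟨ι (mk u), ⟨_, hg₀⟩, fun h1 => hg₀1 (congrArg Subtype.val h1), ?_⟩
      rw [hconj_inl, hcH_mul]
      refine SemidirectProduct.ext ?_ rfl
      show mk u * h.left * ψ h.right (mk u)⁻¹ = cR _ * h.left
      rw [hψu _ _ (by rw [map_inv]; exact inv_one), ← hw, ← map_inv, ← map_mul, ← map_mul,
        show cR (⟨_, hg₀⟩ : Subgroup.center H) = mk (centralBase H Q (Pi.mulSingle x ⟨_, hg₀⟩)) by
          rw [hprod]; simp, ← map_mul]
      congr 1
      refine RegularWreathProduct.ext (funext fun y => ?_) ?_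
      · by_cases hy : y = x
        · subst hy; simp [u, centralBase, baseEmb, hwr]
        · simp [u, centralBase, baseEmb, hwr, Pi.mulSingle_eq_of_ne hy]
      · simp [u, centralBase, baseEmb, hwr]
    · push Not at hf
      have hl : h.left = cR (∏ x, ⟨w.left x, hf x⟩) := by
        rw [← hprod, ← hw]
        exact congrArg mk hw'
      have hb : h.right ≠ 1 := fun hb => hh ⟨∏ x, ⟨w.left x, hf x⟩, SemidirectProduct.ext
        (by simp [cH, ι, hl]) (by simp [cH, ι, hb])⟩
      obtain ⟨σ, hσ'⟩ := hP₂ _ hb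
      set u : R := mk (RegularWreathProduct.inl σ)⁻¹
      refine ⟨ι u, P h.right σ, hσ', ?_⟩
      rw [hconj_inl, hcH_mul]
      refine SemidirectProduct.ext ?_ rfl
      show u * h.left * ψ h.right u⁻¹ = cR (P h.right σ) * h.left
      have hπu : π u⁻¹ = σ := by simp [u, π, mk]; rfl
      rw [hψP, hπu, hl, hcentral u, mul_assoc, ← mul_assoc u, mul_inv_cancel, one_mul, hcentral]
  have hcenter : Subgroup.center (R ⋊[ψ] Q) = cH.range := by
    refine le_antisymm (fun h hh => ?_) (by rintro _ ⟨z, rfl⟩; exact hmem z)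
    by_contra hn
    obtain ⟨g, z, hz, hg⟩ := hmoves h hn
    rw [Subgroup.mem_center_iff.1 hh g, mul_inv_cancel_right, right_eq_mul] at hg
    exact hz (hcH (hg.trans (map_one cH).symm))
  let eZ : Subgroup.center H ≃* Subgroup.center (R ⋊[ψ] Q) :=
    (MonoidHom.ofInjective hcH).trans (MulEquiv.subgroupCongr hcenter.symm)
  have hcardZ : Nat.card (Subgroup.center (R ⋊[ψ] Q)) = Nat.card (Subgroup.center H) :=
    (Nat.card_congr eZ.toEquiv).symm
  refine ⟨(R ⋊[ψ] Q), inferInstance, inferInstance, ⟨eZ.isCyclic.1 hH.cyclic, hcardZ ▸ hH.sqfree,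
    fun h hh => ?_⟩, hcardZ, ?_, ?_⟩
  · obtain ⟨g, z, hz, hg⟩ := hmoves h (hcenter ▸ hh)
    refine ⟨g, ?_⟩
    rw [hg, mul_inv_cancel_right]
    exact ⟨hmem z, fun h1 => hz (hcH (h1.trans (map_one cH).symm))⟩
  · rw [Nat.card_congr SemidirectProduct.equivProd, Nat.card_prod,
      ← RegularWreathProduct.card]
    exact mul_dvd_mul_right (Subgroup.card_quotient_dvd_card _) _
  · let qH := QuotientGroup.mk' (Subgroup.center H)
    let ω : H ≀ᵣ Q →* (H ⧸ Subgroup.center H) ≀ᵣ Q :=
      MonoidHom.mk' (fun w => ⟨fun x => qH (w.left x), w.right⟩) fun a b => by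
        ext x
        · simp
        · simp
    have hω : Function.Surjective ω := fun w =>
      ⟨⟨fun x => (w.left x).out, w.right⟩, by ext x <;> simp [ω, qH]⟩
    let Φ : H ≀ᵣ Q →* (R ⋊[ψ] Q) ⧸ Subgroup.center (R ⋊[ψ] Q) :=
      (QuotientGroup.mk' (Subgroup.center (R ⋊[ψ] Q))).comp (ι.comp mk)
    have hker : ∀ w, Φ w = 1 ↔ ω w = 1 := by
      intro w
      rw [MonoidHom.comp_apply, QuotientGroup.mk'_apply, QuotientGroup.eq_one_iff, hcenter]
      constructor
      · rintro ⟨z, hz⟩
        have h1 : mk (centralBase H Q (Pi.mulSingle 1 z)) = mk w :=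
          SemidirectProduct.inl_injective hz
        obtain ⟨v, -, hv⟩ := QuotientGroup.eq.1 h1
        have h2 : w = centralBase H Q ((Pi.mulSingle 1 z : Q → Subgroup.center H) * v) := by
          rw [map_mul, hv, mul_inv_cancel_left]
        rw [h2]
        ext x
        · exact (QuotientGroup.eq_one_iff _).2 (((Pi.mulSingle 1 z : Q → Subgroup.center H) * v) x).2
        · rfl
      · intro h1
        have hr : w.right = 1 := congrArg RegularWreathProduct.right h1
        have hl : ∀ x, w.left x ∈ Subgroup.center H := fun x => (QuotientGroup.eq_one_iff _).1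
          (congrFun (congrArg RegularWreathProduct.left h1) x)
        refine ⟨∏ x, ⟨w.left x, hl x⟩, congrArg ι ?_⟩
        rw [← hprod]
        congr 1
        ext <;> [rfl; exact hr.symm]
    refine ⟨ω.liftOfSurjective hω ⟨Φ, fun w hw => (hker w).2 hw⟩,
      (injective_iff_map_eq_one _).2 fun y hy => ?_⟩
    obtain ⟨w, rfl⟩ := hω y
    rw [MonoidHom.liftOfRightInverse_comp_apply] at hy
    exact (hker w).1 hy

end Step

theorem dvd_or_of_dvd_mul_pow {p a b k : ℕ} (hp : p.Prime) (hb : b.Prime)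
    (h : p ∣ a ^ k * b * b) : p ∣ a ∨ p = b := by
  rcases hp.dvd_mul.1 h with h | h
  · rcases hp.dvd_mul.1 h with h | h
    · exact Or.inl (hp.dvd_of_dvd_pow h)
    · exact Or.inr ((Nat.prime_dvd_prime_iff_eq hp hb).1 h)
  · exact Or.inr ((Nat.prime_dvd_prime_iff_eq hp hb).1 h)

/-- Every finite solvable group embeds in the quotient of a group of central type. -/
theorem exists_centralType_embedding : ∀ (n : ℕ) (G : Type u) [Group G] [Finite G],
    Nat.card G = n → Group.IsSolvable G →
    ∃ (H : Type u) (_ : Group H) (_ : Finite H), CentralType H ∧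
      (∃ f : G →* H ⧸ Subgroup.center H, Function.Injective f) ∧
      (∀ p : ℕ, p.Prime → (p ∣ Nat.card H → p ∣ Nat.card G) ∧
        (p ∣ Nat.card G → p ∣ Nat.card (Subgroup.center H))) := by
  intro n
  induction n using Nat.strong_induction_on with
  | _ n ih =>
    intro G _ _ hn hsolv
    rcases subsingleton_or_nontrivial G with hG | hG
    · refine ⟨G, inferInstance, inferInstance, ⟨inferInstance, ?_, ?_⟩,
        ⟨QuotientGroup.mk' _, Function.injective_of_subsingleton _⟩, fun p hp => ⟨id, ?_⟩⟩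
      · rw [Nat.card_unique]; exact squarefree_one
      · exact fun h hh => absurd (by rw [Subsingleton.elim h 1]; exact one_mem _) hh
      · intro h; rw [Nat.card_unique] at h; exact absurd h hp.not_dvd_one
    · haveI := hsolv
      obtain ⟨N, hN, hq⟩ := Coprime.exists_normal_index_prime G
      haveI := hN
      have hcardG : Nat.card N * N.index = Nat.card G := Subgroup.card_mul_index N
      have hlt : Nat.card N < n := by
        rw [← hn, ← hcardG]
        exact lt_mul_of_one_lt_right Nat.card_pos hq.one_lt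
      obtain ⟨H, _, _, hH, ⟨f, hf⟩, hp⟩ := ih _ hlt N rfl inferInstance
      have hQ : (Nat.card (G ⧸ N)).Prime := by rwa [← Subgroup.index_eq_card]
      obtain ⟨H₁, _, _, hH₁, hqZ, hZZ, hd₁, f₁, hf₁⟩ := hH.exists_dvd (G ⧸ N) hQ
      obtain ⟨H₂, _, _, hH₂, hZ₂, hd₂, F, hF⟩ := hH₁.exists_wreath hQ hqZ
      obtain ⟨g, hg⟩ := exists_embedding_wreath N (f₁.comp f) (hf₁.comp hf)
      refine ⟨H₂, inferInstance, inferInstance, hH₂, ⟨F.comp g, hF.comp hg⟩, fun p hpp => ⟨?_, ?_⟩⟩
      · intro h
        have hidx : N.index = Nat.card (G ⧸ N) := Subgroup.index_eq_card N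
        rw [← hcardG]
        rcases dvd_or_of_dvd_mul_pow hpp hQ (h.trans hd₂) with h | h
        · rcases hpp.dvd_mul.1 (h.trans hd₁) with h | h
          · exact dvd_mul_of_dvd_left ((hp p hpp).1 h) _
          · rw [hidx]; exact dvd_mul_of_dvd_right h _
        · rw [hidx, h]; exact dvd_mul_left _ _
      · intro h
        rw [hZ₂]
        rw [← hcardG, Subgroup.index_eq_card] at h
        rcases hpp.dvd_mul.1 h with h | h
        · exact ((hp p hpp).2 h).trans hZZ
        · exact h.trans hqZ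

end CfsgLib.BlocksCharsC
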