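import Cfsg.Agent.Characters.RepBasic
import Cfsg.Agent.Blocks.LocalRing

/-!
# Congruences of character values at `p`-elements
-/

set_option autoImplicit false

namespace CfsgLib.BlocksCharsC

open Cfsg

variable {G : Type*} [Group G] [Finite G]

theorem charDegree_eq {χ : G → ℂ} {n : ℕ} (h : χ 1 = (n : ℂ)) : Cfsg.charDegree χ = n := by
  simp [Cfsg.charDegree, h]

/-- A character value at a `p`-element is congruent to the degree modulo `M`. -/
theorem sub_degree_mem {p : ℕ} {M : Ideal AlgInt} (hM : Cfsg.IsPModular p M) {χ : G → ℂ}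
    (hχ : Cfsg.IsCharacter G χ) {g : G} {j : ℕ} (hg : orderOf g = p ^ j) :
    ∃ a ∈ M, ((a : AlgInt) : ℂ) = χ g - χ 1 := by
  haveI := CfsgLib.Blocks.IsPModular.isPrime hM
  obtain ⟨n, ρ, rfl⟩ := hχ
  obtain ⟨μ, hμ, hj, -⟩ := CfsgLib.Characters.exists_eigenvalues ρ g
  have hint : ∀ i, IsIntegral ℤ (μ i) := fun i =>
    IsIntegral.of_pow (orderOf_pos g) (by rw [hμ i]; exact isIntegral_one)
  let ν : Fin (Module.finrank ℂ (Fin n → ℂ)) → AlgInt := fun i => ⟨μ i, hint i⟩
  have hν : ∀ i, ν i - 1 ∈ M := fun i => by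
    rw [← CfsgLib.Blocks.red_ofAlgInt_eq_zero_iff, map_sub, map_sub, sub_eq_zero, map_one, map_one]
    refine CfsgLib.Blocks.red_eq_one_of_pow_eq_one hM (k := j) ?_
    rw [← map_pow, ← map_one (CfsgLib.Blocks.ofAlgInt M)]
    congr 1
    exact Subtype.ext (by simpa [ν, hg] using hμ i)
  refine ⟨∑ i, (ν i - 1), M.sum_mem fun i _ => hν i, ?_⟩
  have h1 := hj 1
  have h0 := hj 0
  simp only [pow_one, pow_zero] at h1 h0
  rw [h1, h0, ← Finset.sum_sub_distrib]
  push_cast
  rfl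

end CfsgLib.BlocksCharsC
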