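import Cfsg.Agent.BlocksCharsC.FullyRamified
import Cfsg.Agent.CharactersDeep.ExtensionCriteria
import Cfsg.Agent.OddOrderChar.AbelianInertia

/-!
# Fully ramified quotients have no self-centralising cyclic subgroup
-/

set_option autoImplicit false
set_option linter.style.haveILetI false
set_option linter.unusedSectionVars false

namespace CfsgLib.BlocksCharsC

open CfsgLib.Characters CfsgLib.OddOrderChar CfsgLib.CharactersDeep
open scoped ComplexConjugate

universe u

variable {H : Type u} [Group H] [Fintype H] {Z : Subgroup H} [Z.Normal] [Fintype Z] {χ : H → ℂ}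
  {θ : Z → ℂ} {e : ℕ}

/-- A fully ramified character vanishes outside the normal subgroup. -/
theorem FullyRamified.eq_zero_of_notMem (h : FullyRamified Z χ θ e) {g : H} (hg : g ∉ Z) :
    χ g = 0 := by
  classical
  have hZ0 : (Nat.card Z : ℂ) ≠ 0 := Nat.cast_ne_zero.2 Nat.card_pos.ne'
  have h1 : ∑ z : Z, (χ z * conj (χ z)) = (Nat.card H : ℂ) := by
    have h2 : ∑ z : Z, (θ z * conj (θ z)) = (Nat.card Z : ℂ) := by
      have h3 := classInner_isIrr_self h.irrZ
      rw [Cfsg.classInner] at h3
      field_simp at h3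
      exact h3
    rw [← Subgroup.index_mul_card Z, ← h.sq]
    push_cast
    rw [← h2, Finset.mul_sum]
    refine Finset.sum_congr rfl fun z _ => ?_
    rw [h.res, map_mul, Complex.conj_natCast]
    ring
  have hH : ∑ x : H, (χ x * conj (χ x)) = (Nat.card H : ℂ) := by
    have h3 := classInner_isIrr_self h.irr
    rw [Cfsg.classInner] at h3
    have hH0 : (Nat.card H : ℂ) ≠ 0 := Nat.cast_ne_zero.2 Nat.card_pos.ne'
    field_simp at h3
    exact h3
  rw [← Finset.sum_filter_add_sum_filter_not Finset.univ (fun x : H => x ∈ Z),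
    Finset.sum_subtype (p := fun x : H => x ∈ Z) (Finset.univ.filter fun x : H => x ∈ Z) (by simp),
    h1, add_eq_left] at hH
  have h2 : ∑ x ∈ Finset.univ.filter (fun x : H => ¬ x ∈ Z), Complex.normSq (χ x) = 0 := by
    apply Complex.ofReal_injective
    push_cast
    rw [← hH]
    exact Finset.sum_congr rfl fun x _ => (Complex.mul_conj _).symm
  exact Complex.normSq_eq_zero.1
    ((Finset.sum_eq_zero_iff_of_nonneg fun x _ => Complex.normSq_nonneg _).1 h2 g (by simp [hg]))

/-- The quotient of a fully ramified character has no self-centralising cyclic subgroup. -/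
theorem FullyRamified.centralizer_ne (h : FullyRamified Z χ θ e) (hZ : Z ≠ ⊤)
    (C : Subgroup (H ⧸ Z)) (hC : IsCyclic C) : Subgroup.centralizer (C : Set (H ⧸ Z)) ≠ C := by
  classical
  intro hcent
  set π := QuotientGroup.mk' Z with hπ
  obtain ⟨c, hc⟩ := (Subgroup.isCyclic_iff_exists_zpowers_eq_top C).1 hC
  have hc1 : c ≠ 1 := by
    rintro rfl
    rw [Subgroup.zpowers_one_eq_bot] at hc
    apply hZ
    refine eq_top_iff.2 fun x _ => (QuotientGroup.eq_one_iff x).1 ?_
    have : π x ∈ Subgroup.centralizer (C : Set (H ⧸ Z)) := by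
      rw [← hc, Subgroup.mem_centralizer_iff]
      intro a ha
      rw [Subgroup.mem_bot.1 ha, one_mul, mul_one]
    rw [hcent, ← hc] at this
    exact Subgroup.mem_bot.1 this
  let D : Subgroup H := C.comap π
  have hZD : Z ≤ D := fun z hz => by
    show π z ∈ C
    rw [show π z = 1 from (QuotientGroup.eq_one_iff z).2 hz]
    exact one_mem _
  haveI := Fintype.ofFinite D
  set Z' := Z.subgroupOf D with hZ'
  haveI : Z'.Normal := Subgroup.normal_subgroupOf
  haveI := Fintype.ofFinite Z'
  haveI := Fintype.ofFinite (D ⧸ Z')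
  let E : Z' ≃* Z := Subgroup.subgroupOfEquivOfLe hZD
  let θ' : Z' → ℂ := fun x => θ (E x)
  have hθ' : Cfsg.IsIrrCharacter Z' θ' := isIrr_comp E.toMonoidHom E.surjective h.irrZ
  have hinv : ∀ (g : D) (n : Z'), θ' ⟨g * n * g⁻¹, Subgroup.Normal.conj_mem inferInstance (n : D) n.2 g⟩ = θ' n :=
    fun g n => congrFun (h.invariant (g : H)) (E n)
  let i : D ⧸ Z' →* C := QuotientGroup.lift Z' ((π.comp D.subtype).codRestrict C fun x => x.2)
    fun x hx => Subtype.ext ((QuotientGroup.eq_one_iff (x : H)).2 hx)
  have hi : Function.Injective i := by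
    refine (injective_iff_map_eq_one i).2 fun x hx => ?_
    obtain ⟨x, rfl⟩ := QuotientGroup.mk_surjective x
    exact (QuotientGroup.eq_one_iff x).2 ((QuotientGroup.eq_one_iff (x : H)).1 (congrArg Subtype.val hx))
  have hcyc : IsCyclic (D ⧸ Z') := isCyclic_of_injective i hi
  have hcomm : ∀ x y : D ⧸ Z', x * y = y * x := by
    intro x y
    obtain ⟨g, hg⟩ := IsCyclic.exists_generator (α := D ⧸ Z')
    obtain ⟨a, rfl⟩ := hg x
    obtain ⟨b, rfl⟩ := hg y
    exact (Commute.zpow_zpow_self g a b).eq
  obtain ⟨η, hη, hres⟩ := ExtensionCriteria.extends_of_cyclic Z' hθ' hinv hcyc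
  have hresf : (fun x : Z' => η x) = θ' := funext hres
  have hηZ : Cfsg.IsIrrCharacter Z' (fun x : Z' => η x) := hresf ▸ hθ'
  -- the coset over the generator
  obtain ⟨x₀, hx₀⟩ : ∃ x : D, π x = c := by
    obtain ⟨x, hx⟩ := QuotientGroup.mk'_surjective Z c
    exact ⟨⟨x, show π x ∈ C by rw [hx, ← hc]; exact Subgroup.mem_zpowers c⟩, hx⟩
  obtain ⟨w, hw, hw0⟩ : ∃ w : D, π w = c ∧ η w ≠ 0 := by
    by_contra hno
    push Not at hno
    obtain ⟨f, hf, hfx, hfin⟩ := Gallagher.exists_coset_sum Z' hη (isClassFunction_of_isIrr hη)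
    have hconst : f = fun _ => (Nat.card Z' : ℂ) := by
      refine classFunction_ext hf (fun _ _ => rfl) fun β => ?_
      have hone : Cfsg.IsIrrCharacter (D ⧸ Z') fun _ => (1 : ℂ) := by
        simpa using isIrr_linChar (1 : D ⧸ Z' →* ℂˣ)
      have hp1 : Gallagher.prodInfl Z' η (fun _ => (1 : ℂ)) = η := funext fun x => mul_one _
      have h2 := Gallagher.classInner_prodInfl Z' hη hηZ ⟨_, hone⟩ β
      rw [hp1] at h2
      rw [hfin, h2, show (fun _ : D ⧸ Z' => (Nat.card Z' : ℂ)) = (Nat.card Z' : ℂ) • fun _ => (1 : ℂ) by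
        funext; simp, classInner_smul_left]
      congr 1
      split_ifs with he
      · subst he
        exact (classInner_isIrr_self hone).symm
      · exact (classInner_isIrr_ne hone β.2 fun h' => he (Subtype.ext h')).symm
    have h3 := hfx x₀
    rw [congrFun hconst, Finset.sum_eq_zero fun n _ => ?_, Nat.cast_eq_zero] at h3
    · exact Nat.card_pos.ne' h3
    rw [hno _ ?_, zero_mul]
    rw [Subgroup.coe_mul, map_mul, hx₀,
      show π ((n : D) : H) = 1 from (QuotientGroup.eq_one_iff ((n : D) : H)).2 n.2, one_mul]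
  let f : D → ℂ := fun x => if π x = c then η x else 0
  -- the induced function vanishes
  have hzero : Cfsg.indFun D f = 0 := by
    refine classFunction_eq_zero (isClassFunction_indFun D f) fun κ => ?_
    rw [CfsgLib.Characters.classInner_indFun D f (isClassFunction_of_isIrr κ.2)]
    by_cases hov : Cfsg.classInner (fun z : Z => (κ : H → ℂ) z) θ ≠ 0
    · rw [Cfsg.classInner, Finset.sum_eq_zero, mul_zero]
      intro x _
      by_cases hx : π x = c
      · rw [h.eq_of_over κ.2 hov, h.eq_zero_of_notMem fun hZx => hc1 (hx ▸ (QuotientGroup.eq_one_iff (x : H)).2 hZx),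
          map_zero, mul_zero]
      · simp [f, hx]
    · push Not at hov
      obtain ⟨g, hgc, hgx, hgin⟩ := Gallagher.exists_coset_sum Z' hη
        (show Cfsg.IsClassFunction D (fun x : D => (κ : H → ℂ) x) from
          fun a b => isClassFunction_of_isIrr κ.2 (a : H) (b : H))
      have hg0 : g = 0 := classFunction_eq_zero hgc fun β => by
        rw [hgin, mul_eq_zero]
        refine Or.inr ?_
        by_contra hne
        have hover : OverZ θ D hZD (Gallagher.prodInfl Z' η (β : D ⧸ Z' → ℂ)) := by
          have h4 := Gallagher.classInner_restrict_prodInfl Z' hη hηZ (β := (β : D ⧸ Z' → ℂ))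
          rw [irr_degree_one_of_comm hcomm β, hresf, ← classInner_comp_equiv E.symm] at h4
          have h5 : (fun z : Z => θ' (E.symm z)) = θ := funext fun z => congrArg θ (E.apply_symm_apply z)
          rw [h5] at h4
          exact ne_of_eq_of_ne h4 one_ne_zero
        have h6 := (overZ_iff_of_constituent h hZD (L' := ⊤) le_top
          (Gallagher.isIrr_prodInfl Z' hη hηZ β.2)
          (isIrr_comp (⊤ : Subgroup H).subtype (fun x => ⟨⟨x, Subgroup.mem_top x⟩, rfl⟩) κ.2) hne).1 hover
        exact h6 hov
      -- the sum over the coset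
      have h7 := hgx x₀
      rw [hg0, Pi.zero_apply] at h7
      rw [classInner_conj_symm, Cfsg.classInner, map_mul, map_sum]
      refine mul_eq_zero_of_right _ ?_
      rw [← map_sum, map_eq_zero]
      rw [← Finset.sum_filter_of_ne (p := fun x : D => π x = c) fun x _ hx => by
        by_contra hxc
        exact hx (by simp [f, hxc])]
      refine Eq.trans ?_ h7.symm
      symm
      refine Finset.sum_bij (fun (n : Z') _ => (n : D) * x₀) (fun n _ => ?_) (fun n _ m _ hnm =>
        Subtype.ext (mul_right_cancel hnm)) (fun y hy => ?_) (fun n _ => ?_)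
      · rw [Finset.mem_filter, Subgroup.coe_mul, map_mul, hx₀,
          show π ((n : D) : H) = 1 from (QuotientGroup.eq_one_iff ((n : D) : H)).2 n.2, one_mul]
        exact ⟨Finset.mem_univ _, rfl⟩
      · refine ⟨⟨y * x₀⁻¹, ?_⟩, Finset.mem_univ _, by simp⟩
        show ((y * x₀⁻¹ : D) : H) ∈ Z
        rw [← QuotientGroup.eq_one_iff]
        show π _ = 1
        rw [Subgroup.coe_mul, map_mul, (Finset.mem_filter.1 hy).2, Subgroup.coe_inv, map_inv, hx₀,
          mul_inv_cancel]
      · have : π (((n : D) * x₀ : D) : H) = c := by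
          rw [Subgroup.coe_mul, map_mul, hx₀,
            show π ((n : D) : H) = 1 from (QuotientGroup.eq_one_iff ((n : D) : H)).2 n.2, one_mul]
        simp only [f, if_pos this]
  -- its value
  have hval := congrFun hzero (w : H)
  rw [Pi.zero_apply, Cfsg.indFun, mul_eq_zero] at hval
  rcases hval with hval | hval
  · exact inv_ne_zero (Nat.cast_ne_zero.2 Nat.card_pos.ne') hval
  have hterm : ∀ x : H, Cfsg.extendByZero D f (x⁻¹ * w * x) = if x ∈ D then η w else 0 := by
    intro x
    rw [Cfsg.extendByZero]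
    by_cases hx : x ∈ D
    · let xd : D := ⟨x, hx⟩
      rw [if_pos hx, show x⁻¹ * (w : H) * x = ((xd⁻¹ * w * xd : D) : H) from rfl,
        Subtype.val_injective.extend_apply]
      have h1 : π ((xd⁻¹ * w * xd : D) : H) = c := by
        show π (x⁻¹ * w * x) = c
        rw [map_mul, map_mul, map_inv, hw]
        have hxC : π x ∈ Subgroup.centralizer (C : Set (H ⧸ Z)) := hcent.symm ▸ hx
        have := Subgroup.mem_centralizer_iff.1 hxC c (hc ▸ Subgroup.mem_zpowers c)
        rw [mul_assoc, this, inv_mul_cancel_left]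
      simp only [f, h1, if_true]
      have := isClassFunction_of_isIrr hη w xd⁻¹
      rwa [inv_inv] at this
    · rw [if_neg hx]
      by_cases hex : ∃ a : D, (a : H) = x⁻¹ * w * x
      · obtain ⟨a, ha⟩ := hex
        rw [← ha, Subtype.val_injective.extend_apply]
        refine if_neg fun hac => hx ?_
        rw [ha, map_mul, map_mul, map_inv, hw, mul_assoc, inv_mul_eq_iff_eq_mul] at hac
        show π x ∈ C
        rw [← hcent, Subgroup.mem_centralizer_iff]
        intro a ha
        rw [← hc] at ha
        obtain ⟨k, rfl⟩ := ha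
        exact (Commute.zpow_left hac k).eq
      · rw [Function.extend_apply' _ _ _ hex]
        rfl
  rw [Finset.sum_congr rfl fun x _ => hterm x, ← Finset.sum_filter, Finset.sum_const,
    nsmul_eq_mul, mul_eq_zero, Nat.cast_eq_zero, Finset.card_eq_zero] at hval
  rcases hval with hval | hval
  · exact Finset.notMem_empty (1 : H) (hval ▸ Finset.mem_filter.2 ⟨Finset.mem_univ _, D.one_mem⟩)
  · exact hw0 hval

end CfsgLib.BlocksCharsC
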