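import Cfsg.Agent.BlocksCharsC.FullyRamified
import Mathlib.GroupTheory.GroupAction.Quotient
import Mathlib.GroupTheory.Subgroup.Centralizer

/-!
# The orbit of characters over a fully ramified character on an intersection with a normal subgroup
-/

set_option autoImplicit false
set_option linter.style.haveILetI false
set_option linter.unusedSectionVars false

namespace CfsgLib.BlocksCharsC

open CfsgLib.Characters CfsgLib.OddOrderChar
open scoped Pointwise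

universe u

variable {H : Type u} [Group H] [Fintype H] {Z : Subgroup H} [Z.Normal] [Fintype Z] {χ : H → ℂ}
  {θ : Z → ℂ} {e : ℕ} {p : ℕ} [hp : Fact p.Prime]

/-- The characters of a subgroup over `θ`. -/
def OverSetZ (θ : Z → ℂ) (Q : Subgroup H) (hZQ : Z ≤ Q) : Type u :=
  {ζ : Cfsg.IrrCharacter Q // OverZ θ Q hZQ (ζ : Q → ℂ)}

instance (θ : Z → ℂ) (Q : Subgroup H) (hZQ : Z ≤ Q) : Finite (OverSetZ θ Q hZQ) :=
  Finite.of_injective Subtype.val Subtype.val_injective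

/-- Conjugation by the normalizer on the characters over an invariant `θ`. -/
noncomputable def normalizerAction (h : FullyRamified Z χ θ e) (Q : Subgroup H) (hZQ : Z ≤ Q) :
    MulAction (Subgroup.normalizer (Q : Set H)) (OverSetZ θ Q hZQ) where
  smul g ζ := ⟨⟨fun q => (ζ.1 : Q → ℂ) ((Q.normalizerMonoidHom g⁻¹) q),
    isIrrCharacter_comp_mulEquiv ζ.1.2 (Q.normalizerMonoidHom g⁻¹)⟩, by
      obtain ⟨ζ, hζ⟩ := ζ
      obtain ⟨a, ha, hres, -, -⟩ := h.exists_mult Q hZQ ζ.2 hζ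
      show Cfsg.classInner (fun z : Z => (ζ : Q → ℂ) ((Q.normalizerMonoidHom g⁻¹) ⟨z, hZQ z.2⟩)) θ ≠ 0
      have e1 : ∀ z : Z, (ζ : Q → ℂ) ((Q.normalizerMonoidHom g⁻¹) ⟨z, hZQ z.2⟩) = (a : ℂ) * θ z := by
        intro z
        have h2 := hres ⟨((g⁻¹ : Subgroup.normalizer (Q : Set H)) : H) * z *
          ((g⁻¹ : Subgroup.normalizer (Q : Set H)) : H)⁻¹, Subgroup.Normal.conj_mem ‹Z.Normal› _ z.2 _⟩
        refine Eq.trans (Eq.trans (congrArg (ζ : Q → ℂ) (Subtype.ext rfl)) h2) ?_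
        congr 1
        exact congrFun (h.invariant _) z
      rw [show (fun z : Z => (ζ : Q → ℂ) ((Q.normalizerMonoidHom g⁻¹) ⟨z, hZQ z.2⟩)) = (a : ℂ) • θ from
        funext e1, classInner_smul_left, classInner_isIrr_self h.irrZ, mul_one, Nat.cast_ne_zero]
      exact ha.ne'⟩
  one_smul ζ := Subtype.ext (Subtype.ext (funext fun q => by
    show (ζ.1 : Q → ℂ) ((Q.normalizerMonoidHom (1 : Subgroup.normalizer (Q : Set H))⁻¹) q) = (ζ.1 : Q → ℂ) q
    rw [inv_one, map_one]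
    rfl))
  mul_smul a b ζ := Subtype.ext (Subtype.ext (funext fun q => by
    show (ζ.1 : Q → ℂ) ((Q.normalizerMonoidHom (a * b)⁻¹) q) =
      (ζ.1 : Q → ℂ) ((Q.normalizerMonoidHom b⁻¹) ((Q.normalizerMonoidHom a⁻¹) q))
    rw [mul_inv_rev, map_mul]
    rfl))

theorem le_normalizer_inf (R K : Subgroup H) [K.Normal] :
    R ≤ Subgroup.normalizer ((R ⊓ K : Subgroup H) : Set H) := by
  intro r hr
  rw [Subgroup.mem_normalizer_iff]
  intro x
  refine ⟨fun hx => ⟨R.mul_mem (R.mul_mem hr hx.1) (R.inv_mem hr),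
    ‹K.Normal›.conj_mem x hx.2 r⟩, fun hx => ⟨?_, ?_⟩⟩
  · simpa [mul_assoc] using R.mul_mem (R.mul_mem (R.inv_mem hr) hx.1) hr
  · simpa [mul_assoc] using ‹K.Normal›.conj_mem _ hx.2 r⁻¹

variable (R K : Subgroup H) [K.Normal]

/-- The orbit data of the characters of `R ⊓ K` over `θ`. -/
theorem FullyRamified.orbit_data (h : FullyRamified Z χ θ e) (hZR : Z ≤ R) (hZK : Z ≤ K) {k : ℕ}
    (hk : Z.relIndex R = p ^ k) (hR : ¬ p ∣ R.index) :
    Nonempty (OverSetZ θ (R ⊓ K) (le_inf hZR hZK)) ∧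
    Nat.card (OverSetZ θ (R ⊓ K) (le_inf hZR hZK)) ∣ (R ⊓ K).relIndex R ∧
    (∀ ζ ζ' : OverSetZ θ (R ⊓ K) (le_inf hZR hZK),
      (ζ.1 : (R ⊓ K : Subgroup H) → ℂ) 1 = (ζ'.1 : (R ⊓ K : Subgroup H) → ℂ) 1) ∧
    ((∀ ζ : OverSetZ θ (R ⊓ K) (le_inf hZR hZK), ∀ r ∈ R,
        (∀ q q' : (R ⊓ K : Subgroup H), (q' : H) = r * q * r⁻¹ →
          (ζ.1 : (R ⊓ K : Subgroup H) → ℂ) q' = (ζ.1 : (R ⊓ K : Subgroup H) → ℂ) q) → r ∈ K) →
      Nat.card (OverSetZ θ (R ⊓ K) (le_inf hZR hZK)) = (R ⊓ K).relIndex R) := by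
  classical
  set Q : Subgroup H := R ⊓ K with hQ
  haveI := Fintype.ofFinite R
  haveI := Fintype.ofFinite Q
  set N := Subgroup.normalizer (Q : Set H) with hN
  have hRN : R ≤ N := le_normalizer_inf R K
  haveI : (Q.subgroupOf R).Normal := by
    refine ⟨fun x hx g => ⟨(g * x * g⁻¹).2, ‹K.Normal›.conj_mem _ hx.2 (g : H)⟩⟩
  letI : MulAction N (OverSetZ θ Q (le_inf hZR hZK)) := normalizerAction h Q (le_inf hZR hZK)
  letI : MulAction R (OverSetZ θ Q (le_inf hZR hZK)) := MulAction.compHom _ (Subgroup.inclusion hRN)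
  have hsmul : ∀ (r : R) (ζ : OverSetZ θ Q (le_inf hZR hZK)) (q : Q) (q' : Q),
      (q' : H) = (r : H)⁻¹ * q * r → ((r • ζ).1 : Q → ℂ) q = (ζ.1 : Q → ℂ) q' := by
    intro r ζ q q' hq
    show (ζ.1 : Q → ℂ) ((Q.normalizerMonoidHom (Subgroup.inclusion hRN r)⁻¹) q) = _
    refine congrArg (ζ.1 : Q → ℂ) (Subtype.ext ?_)
    rw [hq]
    show ((r : H))⁻¹ * (q : H) * ((r : H)⁻¹)⁻¹ = _
    rw [inv_inv]
  obtain ⟨a, hiff, -, hsum⟩ := h.sum_sq Q (le_inf hZR hZK)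
  have hne : ∑ ψ, a ψ ^ 2 ≠ 0 := hsum.symm ▸ (Subgroup.index_ne_zero_of_finite (H := Z.subgroupOf Q))
  obtain ⟨ζ₀, -, hζ₀⟩ := Finset.exists_ne_zero_of_sum_ne_zero hne
  let ζs : OverSetZ θ Q (le_inf hZR hZK) :=
    ⟨ζ₀, (hiff ζ₀).2 (Nat.pos_of_ne_zero fun h0 => hζ₀ (by rw [h0]; rfl))⟩
  haveI : MulAction.IsPretransitive R (OverSetZ θ Q (le_inf hZR hZK)) := by
    refine ⟨fun ζ ζ' => ?_⟩
    obtain ⟨r, hr, hrq⟩ := h.transitive R hk hR Q (le_inf hZR hZK) inf_le_left ζ.2 ζ'.2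
    refine ⟨⟨r⁻¹, R.inv_mem hr⟩, Subtype.ext (Subtype.ext (funext fun q => ?_))⟩
    let q' : Q := ⟨r * q * r⁻¹, (Subgroup.mem_normalizer_iff.1 (hRN hr) _).1 q.2⟩
    rw [hrq q q' rfl, hsmul ⟨r⁻¹, R.inv_mem hr⟩ ζ q q' (by simp [q'])]
  have hcard : (MulAction.stabilizer R ζs).index = Nat.card (OverSetZ θ Q (le_inf hZR hZK)) :=
    MulAction.index_stabilizer_of_transitive R ζs
  have hle : Q.subgroupOf R ≤ MulAction.stabilizer R ζs := by
    intro x hx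
    refine Subtype.ext (Subtype.ext (funext fun q => ?_))
    let qx : Q := ⟨(x : H), hx⟩
    rw [hsmul x ζs q (qx⁻¹ * q * qx) rfl]
    have := isClassFunction_of_isIrr ζs.1.2 q qx⁻¹
    rwa [inv_inv] at this
  refine ⟨⟨ζs⟩, hcard ▸ Subgroup.index_dvd_of_le hle, fun ζ ζ' => ?_, fun hstab => ?_⟩
  · obtain ⟨r, hr⟩ := MulAction.exists_smul_eq R ζ ζ'
    rw [← hr, hsmul r ζ 1 1 (by simp)]
  · rw [← hcard]
    refine congrArg Subgroup.index (le_antisymm ?_ hle)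
    intro x hx
    refine ⟨x.2, hstab ζs x x.2 fun q q' hq => ?_⟩
    have h1 := congrArg (fun z : OverSetZ θ Q (le_inf hZR hZK) => (z.1 : Q → ℂ) q')
      (MulAction.mem_stabilizer_iff.1 hx)
    change ((x • ζs).1 : Q → ℂ) q' = (ζs.1 : Q → ℂ) q' at h1
    rw [hsmul x ζs q' q (by rw [hq]; group)] at h1
    exact h1.symm

/-- A complement in the quotient when the orbit is as large as possible. -/
theorem FullyRamified.exists_complement (h : FullyRamified Z χ θ e) (hZR : Z ≤ R) (hZK : Z ≤ K)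
    {k : ℕ} (hk : Z.relIndex R = p ^ k) (hR : ¬ p ∣ R.index)
    (hgen : Subgroup.normalizer ((R ⊓ K : Subgroup H) : Set H) ⊔ K = ⊤)
    (hn : Nat.card (OverSetZ θ (R ⊓ K) (le_inf hZR hZK)) = (R ⊓ K).relIndex R) :
    ∃ M : Subgroup (H ⧸ K), M.index = p ^ (Nat.card (H ⧸ K)).factorization p ∧
      ∀ P : Sylow p (H ⧸ K), M.IsComplement' (P : Subgroup (H ⧸ K)) := by
  classical
  set Q : Subgroup H := R ⊓ K with hQ
  haveI := Fintype.ofFinite Q
  set N := Subgroup.normalizer (Q : Set H) with hN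
  have hRN : R ≤ N := le_normalizer_inf R K
  obtain ⟨j, -, hj⟩ := (Nat.dvd_prime_pow hp.out).1 (show Q.relIndex R ∣ p ^ k by
    rw [← hk, ← Subgroup.relIndex_mul_relIndex Z Q R (le_inf hZR hZK) inf_le_left]
    exact dvd_mul_left _ _)
  obtain ⟨⟨ζs⟩, -, -, -⟩ := h.orbit_data R K hZR hZK hk hR
  letI : MulAction N (OverSetZ θ Q (le_inf hZR hZK)) := normalizerAction h Q (le_inf hZR hZK)
  haveI := Fintype.ofFinite R
  haveI : (Q.subgroupOf R).Normal := by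
    refine ⟨fun x hx g => ⟨(g * x * g⁻¹).2, ‹K.Normal›.conj_mem _ hx.2 (g : H)⟩⟩
  haveI : MulAction.IsPretransitive N (OverSetZ θ Q (le_inf hZR hZK)) := by
    refine ⟨fun ζ ζ' => ?_⟩
    obtain ⟨r, hr, hrq⟩ := h.transitive R hk hR Q (le_inf hZR hZK) inf_le_left ζ.2 ζ'.2
    refine ⟨⟨r⁻¹, N.inv_mem (hRN hr)⟩, Subtype.ext (Subtype.ext (funext fun q => ?_))⟩
    let q' : Q := ⟨r * q * r⁻¹, (Subgroup.mem_normalizer_iff.1 (hRN hr) _).1 q.2⟩
    rw [hrq q q' rfl]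
    show (ζ.1 : Q → ℂ) _ = _
    refine congrArg (ζ.1 : Q → ℂ) (Subtype.ext ?_)
    show r⁻¹⁻¹ * (q : H) * r⁻¹⁻¹⁻¹ = _
    rw [inv_inv]
  let S : Subgroup H := (MulAction.stabilizer N ζs).map N.subtype
  have hSN : S ≤ N := Subgroup.map_subtype_le _
  have hQS : Q ≤ S := by
    intro x hx
    refine ⟨⟨x, hRN hx.1⟩, Subtype.ext (Subtype.ext (funext fun q => ?_)), rfl⟩
    let qx : Q := ⟨x, hx⟩
    show (ζs.1 : Q → ℂ) _ = _
    have := isClassFunction_of_isIrr ζs.1.2 q qx⁻¹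
    refine Eq.trans ?_ this
    rfl
  refine exists_complement_of_index_eq K R hR hj S hQS hSN hgen ?_
  rw [Subgroup.relIndex, show S.subgroupOf N = MulAction.stabilizer N ζs from
    Subgroup.comap_map_eq_self_of_injective N.subtype_injective _,
    MulAction.index_stabilizer_of_transitive, hn, hj]

end CfsgLib.BlocksCharsC
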