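import Cfsg.Agent.BlocksCharsC.RealOddFiber
import Cfsg.Agent.BlocksCharsC.FullyRamifiedOrbit
import Cfsg.Agent.CharactersDeep.ExtensionCriteria
import Cfsg.Agent.OddOrderChar.AbelianInertia

/-!
# A unique character over a character of a normal subgroup with cyclic quotient
-/

set_option autoImplicit false
set_option linter.style.haveILetI false
set_option linter.unusedSectionVars false

namespace CfsgLib.BlocksCharsC

open CfsgLib.Characters CfsgLib.OddOrderChar CfsgLib.CharactersDeep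

universe u

variable {G : Type u} [Group G] [Fintype G]

/-- With cyclic quotient and one character over `ζ`, the stabiliser of `ζ` is the subgroup. -/
theorem conjStab_le_of_unique (N : Subgroup G) [N.Normal] [Fintype N] (hcyc : IsCyclic (G ⧸ N))
    {ζ : N → ℂ} (hζ : Cfsg.IsIrrCharacter N ζ) {η : G → ℂ} (hη : Cfsg.IsIrrCharacter G η)
    (huniq : ∀ κ : G → ℂ, Cfsg.IsIrrCharacter G κ →
      Cfsg.classInner (fun n : N => κ n) ζ ≠ 0 → κ = η)
    (hne : Cfsg.classInner (fun n : N => η n) ζ ≠ 0) : conjStab N ζ ≤ N := by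
  classical
  set T := conjStab N ζ with hT
  haveI := Fintype.ofFinite T
  have hNT : N ≤ T := le_conjStab N (isClassFunction_of_isIrr hζ)
  obtain ⟨ψ, e, he, hψ, hind, hψN, hee⟩ :=
    Clifford.exists_induced_from_inertia N hζ T (fun g => Iff.rfl) hNT hη hne
  set N' := N.subgroupOf T with hN'
  haveI : N'.Normal := Subgroup.normal_subgroupOf
  haveI := Fintype.ofFinite N'
  let E : N' ≃* N := Subgroup.subgroupOfEquivOfLe hNT
  let ζ' : N' → ℂ := fun x => ζ (E x)
  have hζ' : Cfsg.IsIrrCharacter N' ζ' := isIrr_comp E.toMonoidHom E.surjective hζ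
  have hinv : ∀ (g : T) (n : N'), ζ' ⟨g * n * g⁻¹, Subgroup.Normal.conj_mem inferInstance (n : T) n.2 g⟩ = ζ' n :=
    fun g n => congrFun (g.2 : conjBy N ζ g = ζ) (E n)
  let i : T ⧸ N' →* G ⧸ N := QuotientGroup.map N' N T.subtype fun x hx => hx
  have hi : Function.Injective i := by
    refine (injective_iff_map_eq_one i).2 fun x hx => ?_
    obtain ⟨x, rfl⟩ := QuotientGroup.mk_surjective x
    have hxN : (x : G) ∈ N := (QuotientGroup.eq_one_iff _).1 hx
    exact (QuotientGroup.eq_one_iff x).2 hxN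
  have hcT : IsCyclic (T ⧸ N') := isCyclic_of_injective i hi
  obtain ⟨φ, hφ, hres⟩ := ExtensionCriteria.extends_of_cyclic N' hζ' hinv hcT
  have hresf : (fun x : N' => φ x) = ζ' := funext hres
  have hφN : Cfsg.IsIrrCharacter N' (fun x : N' => φ x) := hresf ▸ hζ'
  have hψN' : (fun x : N' => ψ x) = (e : ℂ) • ζ' := funext fun x => congrFun hψN (E x)
  obtain ⟨β, hβ, hψβ⟩ := Gallagher.exists_eq_prodInfl N' hφ hφN hψ (by
    rw [hresf, hψN', classInner_smul_left, classInner_isIrr_self hζ', mul_one]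
    exact Nat.cast_ne_zero.2 he.ne')
  have hcomm : ∀ x y : T ⧸ N', x * y = y * x := by
    intro x y
    obtain ⟨g, hg⟩ := IsCyclic.exists_generator (α := T ⧸ N')
    obtain ⟨a, rfl⟩ := hg x
    obtain ⟨b, rfl⟩ := hg y
    exact (Commute.zpow_zpow_self g a b).eq
  haveI := Fintype.ofFinite (T ⧸ N')
  have hβ1 : β 1 = 1 := irr_degree_one_of_comm hcomm ⟨β, hβ⟩
  have he1 : (e : ℂ) = 1 := by
    have h1 := Gallagher.classInner_restrict_prodInfl N' hφ hφN (β := β)
    rwa [← hψβ, hψN', hresf, classInner_smul_left, classInner_isIrr_self hζ', mul_one, hβ1] at h1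
  -- degrees
  obtain ⟨m, hm⟩ := exists_nat_coeff (CfsgLib.Characters.isCharacter_indFun N (isCharacter_of_isIrr hζ))
  have hm1 : ∀ κ : Cfsg.IrrCharacter G, (m κ : ℂ) =
      (starRingEnd ℂ) (Cfsg.classInner (fun n : N => (κ : G → ℂ) n) ζ) := fun κ => by
    rw [← classInner_conj_symm, ← CfsgLib.Characters.classInner_indFun N _ (isClassFunction_of_isIrr κ.2), hm,
      classInner_irr_coeff]
  have h1 := congrFun hm 1
  rw [CfsgLib.Characters.indFun_one, Finset.sum_apply,
    Finset.sum_eq_single (⟨η, hη⟩ : Cfsg.IrrCharacter G) ?_ (by simp)] at h1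
  · simp only [Pi.smul_apply, smul_eq_mul] at h1
    rw [hm1, hee, he1, map_one, one_mul, ← hind, CfsgLib.Characters.indFun_one] at h1
    have hψ1 : ψ 1 = ζ 1 := by
      have := congrFun hψN 1
      rw [he1, one_smul] at this
      exact this
    rw [hψ1] at h1
    have hidx : N.index = T.index :=
      Nat.cast_injective (R := ℂ) (mul_right_cancel₀ (irr_one_ne_zero hζ) h1)
    rw [← Subgroup.relIndex_mul_index hNT] at hidx
    have h2 : N.relIndex T = 1 := by
      have h0 : 0 < T.index := Nat.pos_of_ne_zero Subgroup.index_ne_zero_of_finite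
      exact Nat.eq_of_mul_eq_mul_right h0 (hidx.trans (one_mul _).symm)
    exact Subgroup.relIndex_eq_one.1 h2
  · intro κ _ hκ
    have : m κ = 0 := by
      by_contra h0
      refine hκ (Subtype.ext (huniq κ κ.2 fun hz => h0 ?_))
      have := hm1 κ
      rw [hz, map_zero, Nat.cast_eq_zero] at this
      exact this
    simp [this]

variable {Z : Subgroup G} [Z.Normal] [Fintype Z] {χ : G → ℂ} {θ : Z → ℂ} {e : ℕ} {p : ℕ}
  [hp : Fact p.Prime]

/-- A cyclic Sylow subgroup of the quotient makes the orbit as large as possible. -/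
theorem FullyRamified.card_over_eq_of_cyclic (h : FullyRamified Z χ θ e) (R K : Subgroup G)
    [K.Normal] (hZR : Z ≤ R) (hZK : Z ≤ K) {k : ℕ} (hk : Z.relIndex R = p ^ k)
    (hR : ¬ p ∣ R.index) (P : Sylow p (G ⧸ K)) (hP : IsCyclic P) :
    Nat.card (OverSetZ θ (R ⊓ K) (le_inf hZR hZK)) = (R ⊓ K).relIndex R := by
  classical
  obtain ⟨-, -, -, horb⟩ := h.orbit_data R K hZR hZK hk hR
  refine horb fun ζ r hr hfix => ?_
  set Q := R ⊓ K with hQ
  have hQR : Q ≤ R := inf_le_left
  haveI := Fintype.ofFinite R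
  haveI : (Q.subgroupOf R).Normal := by
    refine ⟨fun x hx g => ⟨(g * x * g⁻¹).2, ‹K.Normal›.conj_mem _ hx.2 (g : G)⟩⟩
  haveI := Fintype.ofFinite (Q.subgroupOf R)
  haveI := Fintype.ofFinite Q
  let f : R →* G ⧸ K := (QuotientGroup.mk' K).comp R.subtype
  let i : R ⧸ Q.subgroupOf R →* G ⧸ K := QuotientGroup.lift _ f fun x hx =>
    (QuotientGroup.eq_one_iff (x : G)).2 hx.2
  have hi : Function.Injective i := by
    refine (injective_iff_map_eq_one i).2 fun x hx => ?_
    obtain ⟨x, rfl⟩ := QuotientGroup.mk_surjective x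
    exact (QuotientGroup.eq_one_iff x).2 ⟨x.2, (QuotientGroup.eq_one_iff (x : G)).1 hx⟩
  have hcyc : IsCyclic (R ⧸ Q.subgroupOf R) := by
    have hpg : IsPGroup p (R ⧸ Q.subgroupOf R) := by
      obtain ⟨j, -, hj⟩ := (Nat.dvd_prime_pow hp.out).1 (show Q.relIndex R ∣ p ^ k by
        rw [← hk, ← Subgroup.relIndex_mul_relIndex Z Q R (le_inf hZR hZK) inf_le_left]
        exact dvd_mul_left _ _)
      exact IsPGroup.iff_card.2 ⟨j, hj⟩
    obtain ⟨P', hP'⟩ := (hpg.of_surjective i.rangeRestrict i.rangeRestrict_surjective).exists_le_sylow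
    obtain ⟨g, hg⟩ := MulAction.exists_smul_eq (G ⧸ K) P P'
    haveI : IsCyclic (P' : Subgroup (G ⧸ K)) := by
      rw [← hg]
      exact (Sylow.equivSMul P g).isCyclic.1 hP
    haveI : IsCyclic i.range := isCyclic_of_injective _ (Subgroup.inclusion_injective hP')
    exact isCyclic_of_injective i.rangeRestrict fun a b hab => hi (congrArg Subtype.val hab)
  obtain ⟨η, -, huniq⟩ := h.existsUnique_sylow R hZR hk hR
  let E : Q.subgroupOf R ≃* Q := Subgroup.subgroupOfEquivOfLe hQR
  let ζ' : Q.subgroupOf R → ℂ := fun x => (ζ.1 : Q → ℂ) (E x)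
  have hζ' : Cfsg.IsIrrCharacter (Q.subgroupOf R) ζ' := isIrrCharacter_comp_mulEquiv ζ.1.2 E
  have hu : ∀ κ : R → ℂ, Cfsg.IsIrrCharacter R κ →
      Cfsg.classInner (fun x : Q.subgroupOf R => κ x) ζ' ≠ 0 → κ = (η : R → ℂ) := by
    intro κ hκ hne
    have hne2 : Cfsg.classInner (fun x : Q => κ ⟨x, hQR x.2⟩) (ζ.1 : Q → ℂ) ≠ 0 := by
      rw [← classInner_comp_equiv (Subgroup.subgroupOfEquivOfLe hQR)]
      exact hne
    exact congrArg Subtype.val
      (huniq ⟨κ, hκ⟩ ((overZ_iff_of_constituent h (le_inf hZR hZK) hQR ζ.1.2 hκ hne2).1 ζ.2))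
  obtain ⟨κ, hκ, hκne⟩ := Clifford.exists_over (Q.subgroupOf R) hζ'
  have hle := conjStab_le_of_unique (Q.subgroupOf R) hcyc hζ' η.2 hu (hu κ hκ hκne ▸ hκne)
  have hmem : (⟨r, hr⟩ : R) ∈ conjStab (Q.subgroupOf R) ζ' := funext fun x => by
    exact hfix (E x) _ rfl
  exact (hle hmem).2

end CfsgLib.BlocksCharsC
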