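import Cfsg.Agent.BlocksCyclic.Main

/-!
# The columns of the principal block of a group with a Sylow subgroup of order `p`

The proofs of `CfsgLib.BlocksCyclic.gram_structure` and
`CfsgLib.BlocksCyclic.principalBlock_structure`, keeping more of what they show: the block has `e`
characters whose integer columns are constant `± 1` and, for each of the `t` columns, one more
character whose row is a signed unit vector there.
-/

set_option autoImplicit false
set_option linter.style.haveILetI false
set_option linter.unusedSectionVars false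

namespace CfsgLib.BlocksCharsC.DefectOne

open Cfsg CfsgLib.Blocks CfsgLib.PrincipalBlock CfsgLib.BlocksCyclic
open scoped ComplexConjugate Pointwise

universe u

section Rows

variable {ι Q : Type*} [Fintype Q]

open Classical in
/-- The rows of integer vectors with Gram matrix `e J + 1`: constant `± 1`, or signed unit
vectors. -/
theorem gram_rows (e : ℕ) (s : Finset ι) (c : ι → Q → ℤ) [DecidableEq Q]
    (hgram : ∀ i j, ∑ x ∈ s, c x i * c x j = (e : ℤ) + if i = j then 1 else 0)
    (hne : ∀ x ∈ s, ∃ i, c x i ≠ 0) (hcard : e + Fintype.card Q ≤ s.card) :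
    s.card = e + Fintype.card Q ∧ ∀ x ∈ s,
      (∀ i, c x i = 1) ∨ (∀ i, c x i = -1) ∨
        ∃ i, (c x i = 1 ∨ c x i = -1) ∧ ∀ j, j ≠ i → c x j = 0 := by
  rcases s.eq_empty_or_nonempty with rfl | ⟨x₀, hx₀⟩
  · exact ⟨le_antisymm (Nat.zero_le _) hcard, by simp⟩
  obtain ⟨i₀, -⟩ := hne x₀ hx₀
  set t : ℤ := ((Fintype.card Q : ℕ) : ℤ) with ht
  have ht1 : 1 ≤ t := by rw [ht]; exact_mod_cast Fintype.card_pos_iff.2 ⟨i₀⟩
  let P : ι → Prop := fun x => ∃ i j, c x i ≠ c x j
  have hD : ∀ x ∈ s.filter P, 2 * (t - 1) ≤ ∑ i, ∑ j, (c x i - c x j) ^ 2 := fun x hx => by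
    obtain ⟨a, b, hab⟩ := (Finset.mem_filter.1 hx).2
    exact two_mul_le_sum_sq_sub (c x) hab
  have hDsum : ∑ x ∈ s, ∑ i, ∑ j, (c x i - c x j) ^ 2 = 2 * (t * (t - 1)) := by
    rw [Finset.sum_comm]
    have : ∀ i, ∑ x ∈ s, ∑ j, (c x i - c x j) ^ 2 = 2 * (t - 1) := by
      intro i
      rw [Finset.sum_comm]
      have : ∀ j, ∑ x ∈ s, (c x i - c x j) ^ 2 = 2 - 2 * if i = j then 1 else 0 := by
        intro j
        have hexp : ∀ x, (c x i - c x j) ^ 2 =
            c x i * c x i + c x j * c x j - 2 * (c x i * c x j) := fun x => by ring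
        simp only [hexp, Finset.sum_sub_distrib, Finset.sum_add_distrib, ← Finset.mul_sum, hgram]
        split_ifs <;> ring
      rw [Finset.sum_congr rfl fun j _ => this j, Finset.sum_sub_distrib, ← Finset.mul_sum,
        Finset.sum_ite_eq, Finset.sum_const, Finset.card_univ, nsmul_eq_mul, if_pos (Finset.mem_univ i)]
      rw [ht]; ring
    rw [Finset.sum_congr rfl fun i _ => this i, Finset.sum_const, Finset.card_univ, nsmul_eq_mul]
    rw [ht]; ring
  have hn1 : 2 * (t - 1) * ((s.filter P).card : ℤ) ≤ 2 * (t * (t - 1)) := by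
    rw [← hDsum]
    calc 2 * (t - 1) * ((s.filter P).card : ℤ)
        = ∑ x ∈ s.filter P, 2 * (t - 1) := by
          rw [Finset.sum_const, nsmul_eq_mul]; ring
      _ ≤ ∑ x ∈ s.filter P, ∑ i, ∑ j, (c x i - c x j) ^ 2 := Finset.sum_le_sum hD
      _ ≤ _ := Finset.sum_le_sum_of_subset_of_nonneg (Finset.filter_subset _ _)
          fun x _ _ => Finset.sum_nonneg fun i _ => Finset.sum_nonneg fun j _ => sq_nonneg _
  -- squared norms
  have hN : ∀ x ∈ s, (if P x then 1 else t) ≤ ∑ i, c x i ^ 2 := by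
    intro x hx
    obtain ⟨i, hi⟩ := hne x hx
    split_ifs with h
    · calc (1 : ℤ) ≤ c x i ^ 2 := by have := sq_pos_iff.2 hi; omega
        _ ≤ _ := Finset.single_le_sum (fun j _ => sq_nonneg (c x j)) (Finset.mem_univ i)
    · calc t = ∑ _j : Q, (1 : ℤ) := by simp [ht]
        _ ≤ _ := Finset.sum_le_sum fun j _ => by
          have hj : c x j = c x i := by
            by_contra hh; exact h ⟨j, i, hh⟩
          rw [hj]; have := sq_pos_iff.2 hi; omega
  have hNsum : ∑ x ∈ s, ∑ i, c x i ^ 2 = t * ((e : ℤ) + 1) := by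
    rw [Finset.sum_comm, Finset.sum_congr rfl fun i _ => by
      rw [Finset.sum_congr rfl fun x _ => sq (c x i), hgram i i, if_pos rfl],
      Finset.sum_const, Finset.card_univ, nsmul_eq_mul]
  set n1 : ℤ := ((s.filter P).card : ℤ)
  set n0 : ℤ := ((s.filter fun x => ¬ P x).card : ℤ)
  have hk : n1 + n0 = (s.card : ℤ) := by
    simp only [n1, n0]
    exact_mod_cast Finset.card_filter_add_card_filter_not (s := s) P
  have hlow : n1 + t * n0 ≤ t * ((e : ℤ) + 1) := by
    rw [← hNsum]
    refine le_trans (le_of_eq ?_) (Finset.sum_le_sum hN)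
    rw [Finset.sum_ite, Finset.sum_const, Finset.sum_const, nsmul_eq_mul, nsmul_eq_mul]
    ring
  have hc : (e : ℤ) + t ≤ n1 + n0 := by rw [hk, ht]; exact_mod_cast hcard
  have h0 : (0 : ℤ) ≤ n1 := Nat.cast_nonneg _
  -- all inequalities are equalities
  have heq : n1 + n0 = (e : ℤ) + t ∧ n1 + t * n0 = t * ((e : ℤ) + 1) := by
    rcases eq_or_lt_of_le ht1 with h | h
    · rw [← h] at hlow hc ⊢
      constructor <;> linarith
    · have h1 : n1 ≤ t := by nlinarith
      have h2 : n0 ≤ (e : ℤ) := by nlinarith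
      constructor <;> nlinarith
  have hcard' : s.card = e + Fintype.card Q := by
    have : (s.card : ℤ) = (e : ℤ) + t := by rw [← hk]; exact heq.1
    rw [ht] at this
    exact_mod_cast this
  refine ⟨hcard', ?_⟩
  have hall : ∀ x ∈ s, (if P x then 1 else t) = ∑ i, c x i ^ 2 := by
    refine (Finset.sum_eq_sum_iff_of_le hN).1 ?_
    rw [hNsum, ← heq.2, Finset.sum_ite, Finset.sum_const, Finset.sum_const, nsmul_eq_mul,
      nsmul_eq_mul]
    ring
  intro x hx
  obtain ⟨i, hi⟩ := hne x hx
  have hsq := hall x hx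
  by_cases h : P x
  · refine Or.inr (Or.inr ⟨i, ?_⟩)
    rw [if_pos h, Fintype.sum_eq_add_sum_compl i] at hsq
    have h1 : 1 ≤ c x i ^ 2 := by have := sq_pos_iff.2 hi; omega
    have h2 : 0 ≤ ∑ j ∈ ({i} : Finset Q)ᶜ, c x j ^ 2 := Finset.sum_nonneg fun j _ => sq_nonneg _
    have h3 : ∑ j ∈ ({i} : Finset Q)ᶜ, c x j ^ 2 = 0 := by linarith
    exact ⟨sq_eq_one_iff.1 (by linarith), fun j hj => sq_eq_zero_iff.1
      ((Finset.sum_eq_zero_iff_of_nonneg fun j _ => sq_nonneg (c x j)).1 h3 j (by simpa using hj))⟩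
  · rw [if_neg h] at hsq
    have hj : ∀ j, c x j = c x i := fun j => by
      by_contra hh; exact h ⟨j, i, hh⟩
    simp only [hj, Finset.sum_const, Finset.card_univ, nsmul_eq_mul] at hsq ⊢
    rw [← ht] at hsq
    have : c x i ^ 2 = 1 := by
      have h' : t * c x i ^ 2 = t * 1 := by rw [mul_one]; exact hsq.symm
      exact mul_left_cancel₀ (by linarith) h'
    rcases sq_eq_one_iff.1 this with h' | h'
    · exact Or.inl fun _ => h'
    · exact Or.inr (Or.inl fun _ => h')

end Rows

variable {G : Type u} [Group G] [Fintype G] {p : ℕ} [Fact p.Prime] {M : Ideal AlgInt} [M.IsPrime]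

open Classical in
/-- The columns of the principal block: a set `A` of `e` characters with degrees `± 1` modulo
`p`, one further character for each of the `t` columns, and the relations they give. -/
theorem principal_columns (hM : Cfsg.IsPModular p M) (P : Sylow p G)
    (hP : Nat.card (P : Subgroup G) = p) {x : G} (hxP : x ∈ (P : Subgroup G)) (hx : x ≠ 1)
    {θ : Subgroup.normalizer ((P : Subgroup G) : Set G) →* (ZMod p)ˣ}
    (hθ : ∀ n : Subgroup.normalizer ((P : Subgroup G) : Set G),
      (n : G) * x * (n : G)⁻¹ = x ^ ((θ n : (ZMod p)ˣ) : ZMod p).val)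
    (hθC : ∀ n, θ n = 1 ↔ (n : G) ∈ Subgroup.centralizer ((P : Subgroup G) : Set G)) :
    ∃ (t : ℕ) (A : Finset (IrrCharacter G)) (u : Fin t → IrrCharacter G)
      (ε : IrrCharacter G → ℤ) (δ : Fin t → ℤ),
      A.card * t + 1 = p ∧ Function.Injective u ∧ (∀ q, u q ∉ A) ∧
      (∀ χ, χ ∈ Cfsg.principalBlock M G ↔ χ ∈ A ∨ ∃ q, u q = χ) ∧
      (∀ a ∈ A, (ε a = 1 ∨ ε a = -1) ∧ (Cfsg.charDegree (a : G → ℂ) : ℤ) ≡ ε a [ZMOD p]) ∧
      (∀ q, δ q = 1 ∨ δ q = -1) ∧
      ∀ F : IrrCharacter G → ℂ,
        (∀ g : G, p ∣ orderOf g → ∑ χ : IrrCharacter G,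
          (if χ ∈ Cfsg.principalBlock M G then F χ * (χ : G → ℂ) g else 0) = 0) →
        ∀ q, ∑ a ∈ A, (ε a : ℂ) * F a + (δ q : ℂ) * F (u q) = 0 := by
  haveI := charP_res hM
  set B := Cfsg.principalBlock M G with hBdef
  set E := θ.range with hE
  haveI := Fintype.ofFinite ((ZMod p)ˣ ⧸ E)
  haveI := Fintype.ofFinite E
  set ψ : AddChar (ZMod p) ℂ := ZMod.stdAddChar with hψdef
  have hψprim : ψ.IsPrimitive := ZMod.isPrimitive_stdAddChar p
  have hBu : IsBlockUnion M B := isBlockUnion_of_isPBlock isPBlock_principalBlock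
  choose n hn using fun χ : IrrCharacter G => exists_multiplicity hP hxP hx χ
  set f : IrrCharacter G → ZMod p → ℂ := fun χ m => (χ : G → ℂ) (x ^ m.val) with hf
  have hsumψ : ∀ a : ZMod p, ∑ m : ZMod p, ψ (m * a) = if a = 0 then (p : ℂ) else 0 := fun a => by
    rw [AddChar.sum_mulShift a hψprim, ZMod.card]
    split_ifs <;> simp
  have hfour : ∀ χ j, ∑ m : ZMod p, f χ m * ψ (-(j * m)) = (p : ℂ) * (n χ j : ℂ) := by
    intro χ j
    simp only [hf, hn, Finset.sum_mul]
    rw [Finset.sum_comm, Finset.sum_eq_single j]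
    · rw [Finset.sum_congr rfl (g := fun _ => (n χ j : ℂ)) fun m _ => by
        rw [mul_assoc, ← hψdef, ← AddChar.map_add_eq_mul, add_neg_cancel, AddChar.map_zero_eq_one,
          mul_one], Finset.sum_const, Finset.card_univ, ZMod.card, nsmul_eq_mul]
    · intro i _ hij
      rw [Finset.sum_congr rfl (g := fun m => (n χ i : ℂ) * ψ (m * (i - j))) fun m _ => by
        rw [mul_assoc, ← hψdef, ← AddChar.map_add_eq_mul]; ring_nf, ← Finset.mul_sum, hsumψ,
        if_neg (sub_ne_zero.2 hij), mul_zero]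
    · simp
  -- the integer vectors
  set c : IrrCharacter G → ZMod p → ℤ := fun χ i => (n χ 0 : ℤ) - (n χ i : ℤ) with hc
  have hc' : ∀ χ i, (p : ℂ) * (c χ i : ℂ) = ∑ m : ZMod p, f χ m * (1 - ψ (-(i * m))) := by
    intro χ i
    simp only [mul_sub, Finset.sum_sub_distrib, mul_one, hfour]
    rw [show ∑ m, f χ m = ∑ m, f χ m * ψ (-(0 * m)) by
      simp only [zero_mul, neg_zero, AddChar.map_zero_eq_one, mul_one], hfour, hc]
    push_cast; ring
  have hinv : ∀ χ, ∀ h ∈ E, ∀ i : ZMod p, n χ ((h : ZMod p) * i) = n χ i := by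
    intro χ h hh i
    have hfi : ∀ m, f χ ((h : ZMod p) * m) = f χ m := fun m => by
      by_cases hm : m = 0
      · rw [hm, mul_zero]
      · obtain ⟨g, hg⟩ := isConj_iff.1 ((isConj_pow_iff hP hxP hx hθ hm).2 ⟨h, hh, rfl⟩)
        simp only [hf]
        rw [← hg, Characters.isClassFunction_of_isIrr χ.2]
    have h1 : (p : ℂ) * (n χ ((h : ZMod p) * i) : ℂ) = (p : ℂ) * (n χ i : ℂ) := by
      rw [← hfour, ← hfour]
      refine Fintype.sum_equiv (Equiv.mulLeft₀ (h : ZMod p) h.ne_zero) _ _ fun m => ?_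
      show _ = f χ ((h : ZMod p) * m) * ψ (-(i * ((h : ZMod p) * m)))
      rw [hfi]
      congr 2
      ring
    exact_mod_cast mul_left_cancel₀ (Nat.cast_ne_zero.2 (Fact.out : p.Prime).ne_zero) h1
  have hcinv : ∀ χ, ∀ h ∈ E, ∀ i : ZMod p, c χ ((h : ZMod p) * i) = c χ i := fun χ h hh i => by
    simp only [hc, hinv χ h hh i]
  have hcol : ∀ m m' : ZMod p, m ≠ 0 →
      ∑ χ : IrrCharacter G, (if χ ∈ B then f χ m * conj (f χ m') else 0) =
        if ∃ h ∈ E, m' = (h : ZMod p) * m then (p : ℂ) else 0 := by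
    intro m m' hm
    have hm1 : x ^ m.val ≠ 1 := fun h1 => hm (by
      rw [← pow_zero x, pow_val_eq_iff hP hxP hx, ZMod.natCast_zmod_val, Nat.cast_zero] at h1
      exact h1)
    have := sum_principal_mul_conj hP ((P : Subgroup G).pow_mem hxP m.val) hm1 hM
      ((P : Subgroup G).pow_mem hxP m'.val)
    rw [hBdef, hf]
    rw [this]
    exact if_congr (isConj_pow_iff hP hxP hx hθ hm) rfl rfl
  -- the Gram matrix
  have hgram0 : ∀ i j : ZMod p, i ≠ 0 → j ≠ 0 →
      ∑ χ : IrrCharacter G, (if χ ∈ B then (c χ i : ℂ) * (c χ j : ℂ) else 0) =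
        (Nat.card E : ℂ) + ∑ h : E, (if j * ((h : (ZMod p)ˣ) : ZMod p) = i then (1 : ℂ) else 0) := by
    intro i j hi hj
    have hp0 : (p : ℂ) ≠ 0 := Nat.cast_ne_zero.2 (Fact.out : p.Prime).ne_zero
    refine mul_left_cancel₀ (mul_ne_zero hp0 hp0) ?_
    rw [Finset.mul_sum]
    calc ∑ χ : IrrCharacter G, (p : ℂ) * p * (if χ ∈ B then (c χ i : ℂ) * (c χ j : ℂ) else 0)
        = ∑ χ : IrrCharacter G, ∑ m : ZMod p, ∑ m' : ZMod p,
            (1 - ψ (-(i * m))) * conj (1 - ψ (-(j * m'))) *
              (if χ ∈ B then f χ m * conj (f χ m') else 0) := by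
          refine Finset.sum_congr rfl fun χ _ => ?_
          split_ifs with hχ
          · rw [show (p : ℂ) * p * ((c χ i : ℂ) * (c χ j : ℂ)) =
              ((p : ℂ) * (c χ i : ℂ)) * conj ((p : ℂ) * (c χ j : ℂ)) by
                rw [map_mul, map_natCast, map_intCast]; ring, hc', hc', map_sum, Finset.sum_mul_sum]
            refine Finset.sum_congr rfl fun m _ => Finset.sum_congr rfl fun m' _ => ?_
            rw [map_mul]; ring
          · simp
      _ = ∑ m : ZMod p, ∑ m' : ZMod p, (1 - ψ (-(i * m))) * conj (1 - ψ (-(j * m'))) *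
            ∑ χ : IrrCharacter G, (if χ ∈ B then f χ m * conj (f χ m') else 0) := by
          rw [Finset.sum_comm]
          refine Finset.sum_congr rfl fun m _ => ?_
          rw [Finset.sum_comm]
          exact Finset.sum_congr rfl fun m' _ => (Finset.mul_sum _ _ _).symm
      _ = ∑ m : ZMod p, ∑ h : E, (p : ℂ) * ((1 - ψ (-(i * m))) *
            conj (1 - ψ (-(j * (((h : (ZMod p)ˣ) : ZMod p) * m))))) := by
          refine Finset.sum_congr rfl fun m _ => ?_
          by_cases hm : m = 0
          · subst hm; simp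
          simp only [hcol m _ hm]
          rw [← Finset.sum_subset (Finset.subset_univ
            (Finset.univ.image fun h : E => ((h : (ZMod p)ˣ) : ZMod p) * m)) ?_,
            Finset.sum_image ?_]
          · refine Finset.sum_congr rfl fun h _ => ?_
            rw [if_pos ⟨_, h.2, rfl⟩]
            ring
          · intro h _ h' _ e
            exact Subtype.ext (Units.ext (mul_right_cancel₀ hm e))
          · intro m' _ hm'
            rw [if_neg, mul_zero]
            rintro ⟨h, hh, rfl⟩
            exact hm' (Finset.mem_image.2 ⟨⟨h, hh⟩, Finset.mem_univ _, rfl⟩)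
      _ = (p : ℂ) * p * ((Nat.card E : ℂ) +
            ∑ h : E, (if j * ((h : (ZMod p)ˣ) : ZMod p) = i then (1 : ℂ) else 0)) := by
          rw [Finset.sum_comm, Nat.card_eq_fintype_card, ← Finset.card_univ, Finset.cast_card,
            ← Finset.sum_add_distrib, Finset.mul_sum]
          refine Finset.sum_congr rfl fun h _ => ?_
          rw [← Finset.mul_sum, mul_assoc]
          congr 1
          set a : ZMod p := j * ((h : (ZMod p)ˣ) : ZMod p)
          have ha : a ≠ 0 := mul_ne_zero hj (Units.ne_zero _)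
          rw [Finset.sum_congr rfl (g := fun m => 1 - ψ (m * (-i)) - ψ (m * a) + ψ (m * (a - i)))
            fun m _ => by
              rw [map_sub, map_one, AddChar.map_neg_eq_conj ψ (j * _), Complex.conj_conj,
                mul_sub, sub_mul, sub_mul, one_mul, one_mul, mul_one,
                ← AddChar.map_add_eq_mul]
              simp only [a]; ring_nf]
          rw [Finset.sum_add_distrib, Finset.sum_sub_distrib, Finset.sum_sub_distrib, hsumψ, hsumψ,
            hsumψ, if_neg (neg_ne_zero.2 hi), if_neg ha, Finset.sum_const, Finset.card_univ,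
            ZMod.card, nsmul_one]
          simp only [sub_eq_zero]
          split_ifs <;> ring
  set cq : IrrCharacter G → ((ZMod p)ˣ ⧸ E) → ℤ := fun χ q => c χ ((q.out : (ZMod p)ˣ) : ZMod p)
    with hcq
  have hcmk : ∀ χ (u : (ZMod p)ˣ), c χ ((u : (ZMod p)ˣ) : ZMod p) = cq χ (QuotientGroup.mk u) := by
    intro χ u
    obtain ⟨h, hh⟩ := QuotientGroup.mk_out_eq_mul E u
    rw [hcq]
    dsimp only
    rw [hh, Units.val_mul, mul_comm, hcinv χ _ h.2]
  have hgram : ∀ q q', ∑ χ ∈ B.toFinset, cq χ q * cq χ q' =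
      (Nat.card E : ℤ) + if q = q' then 1 else 0 := by
    intro q q'
    have h := hgram0 _ _ (Units.ne_zero q.out) (Units.ne_zero q'.out)
    have h1 : (∑ h : E, if ((q'.out : (ZMod p)ˣ) : ZMod p) * ((h : (ZMod p)ˣ) : ZMod p) =
        ((q.out : (ZMod p)ˣ) : ZMod p) then (1 : ℂ) else 0) = if q = q' then 1 else 0 := by
      by_cases hq : q = q'
      · subst hq
        rw [if_pos rfl, Finset.sum_eq_single (1 : E) (fun h _ hh => if_neg fun e => hh ?_) (by simp)]
        · simp
        · rw [mul_eq_left₀ (Units.ne_zero _), Units.val_eq_one] at e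
          exact Subtype.ext e
      · rw [if_neg hq, Finset.sum_eq_zero fun h _ => if_neg fun e => hq ?_]
        rw [← Units.val_mul, Units.val_inj] at e
        rw [← QuotientGroup.out_eq' q, ← QuotientGroup.out_eq' q', ← e,
          QuotientGroup.mk_mul_of_mem _ h.2]
    rw [h1, ← Finset.sum_filter] at h
    apply Int.cast_injective (α := ℂ)
    push_cast
    refine Eq.trans (Finset.sum_congr ?_ fun χ _ => rfl) h
    ext χ; simp
  -- no vanishing vector
  have hne : ∀ χ ∈ B.toFinset, ∃ q, cq χ q ≠ 0 := by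
    intro χ hχ
    rw [Set.mem_toFinset] at hχ
    by_contra! h0
    have hall : ∀ i : ZMod p, n χ i = n χ 0 := fun i => by
      by_cases hi : i = 0
      · rw [hi]
      · have := h0 (QuotientGroup.mk (Units.mk0 i hi))
        rw [← hcmk, Units.val_mk0, hc] at this
        have : (n χ 0 : ℤ) = n χ i := sub_eq_zero.1 this
        exact_mod_cast this.symm
    have hvan : ∀ m : ZMod p, m ≠ 0 → f χ m = 0 := fun m hm => by
      simp only [hf, hn, hall]
      rw [← Finset.mul_sum, ← hψdef, Finset.sum_congr rfl fun i _ => congrArg ψ (rfl : i * m = i * m),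
        hsumψ, if_neg hm, mul_zero]
    have hdef := defect_zero_of_vanishing hM χ fun g hg => by
      obtain ⟨S, hS⟩ := (IsPGroup.of_card (p := p) (n := 1)
        (show Nat.card (Subgroup.zpowers g) = p ^ 1 by rw [Nat.card_zpowers, hg, pow_one])).exists_le_sylow
      obtain ⟨a, ha⟩ := MulAction.exists_smul_eq G S P
      have hgP : a * g * a⁻¹ ∈ (P : Subgroup G) := by
        have h1 : MulAut.conj a • (S : Subgroup G) = (P : Subgroup G) := by
          rw [← ha, Sylow.coe_subgroup_smul]
        rw [← h1]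
        exact Subgroup.smul_mem_pointwise_smul _ _ _ (hS (Subgroup.mem_zpowers g))
      rw [← zpowers_generator hP hxP hx,
        ← (isOfFinOrder_of_finite x).mem_powers_iff_mem_zpowers] at hgP
      obtain ⟨i, hi⟩ := hgP
      have hi' : x ^ i = a * g * a⁻¹ := hi
      rw [← Characters.isClassFunction_of_isIrr χ.2 g a, ← hi', ← pow_val_natCast hP hxP hx]
      refine hvan _ fun h0' => ?_
      rw [← Nat.cast_zero (R := ZMod p), ← pow_val_eq_iff hP hxP hx, pow_zero, hi', mul_inv_eq_one,
        mul_eq_left] at h0'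
      rw [h0', orderOf_one] at hg
      exact (Fact.out : p.Prime).ne_one hg.symm
    have hone : Cfsg.blockOf M (χ : G → ℂ) = {χ} := by
      refine (defect_zero_iff hM χ).1 fun hd => ?_
      have h1 := ((Fact.out : p.Prime).dvd_iff_one_le_factorization ?_).1 hd
      · rw [Nat.factorization_div (charDegree_dvd_card χ), Finsupp.tsub_apply, hdef] at h1
        omega
      · exact (Nat.div_pos (Nat.le_of_dvd Nat.card_pos (charDegree_dvd_card χ))
          (Nat.pos_of_ne_zero (charDegree_ne_zero χ))).ne'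
    have h1 : trivChar G ∈ Cfsg.blockOf M (χ : G → ℂ) := by
      rw [principalBlock_eq] at hBdef
      rw [hBdef] at hχ
      exact mem_blockOf.2 (sameBlock_symm (mem_blockOf.1 hχ))
    rw [hone, Set.mem_singleton_iff] at h1
    have h2 := hvan 1 one_ne_zero
    rw [← h1] at h2
    exact one_ne_zero h2
  -- the lower bound
  have hcard : Nat.card E + Fintype.card ((ZMod p)ˣ ⧸ E) ≤ B.toFinset.card := by
    obtain ⟨g₀, hg₀⟩ := IsCyclic.exists_ofOrder_eq_natCard (α := E)
    let τ : (ZMod p)ˣ →* (Res M)ˣ := Units.map (ZMod.castHom dvd_rfl (Res M) : ZMod p →* Res M)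
    have hτ : Function.Injective τ := Units.map_injective (RingHom.injective _)
    let ω : Fin (Nat.card E) → (Subgroup.normalizer ((P : Subgroup G) : Set G) →* (Res M)ˣ) :=
      fun j => ((powMonoidHom (j : ℕ)).comp τ).comp θ
    have hω : Function.Injective ω := by
      intro i j hij
      obtain ⟨n₀, hn₀⟩ := g₀.2
      have h1 := DFunLike.congr_fun hij n₀
      simp only [ω, MonoidHom.comp_apply, powMonoidHom_apply, hn₀, ← map_pow] at h1
      have h2 : g₀ ^ (i : ℕ) = g₀ ^ (j : ℕ) := Subtype.ext (by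
        simpa using hτ h1)
      exact Fin.ext (pow_injOn_Iio_orderOf (Set.mem_Iio.2 (lt_of_lt_of_eq i.2 hg₀.symm))
        (Set.mem_Iio.2 (lt_of_lt_of_eq j.2 hg₀.symm)) h2)
    obtain ⟨b, hb⟩ := exists_regular_functions hM P hP ω hω fun j n' hn' => by
      simp only [ω, MonoidHom.comp_apply, (hθC n').2 hn', map_one]
    let V : Fin (Nat.card E) ⊕ ((ZMod p)ˣ ⧸ E) → ({χ // χ ∈ B.toFinset} → ℂ) :=
      Sum.elim (fun j χ => b j χ.1) (fun q χ => conj (f χ.1 ((q.out : (ZMod p)ˣ) : ZMod p)))
    have hV : LinearIndependent ℂ V := by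
      rw [Fintype.linearIndependent_iff]
      intro l hl
      have hpt : ∀ χ : IrrCharacter G, χ ∈ B → ∑ j, l (Sum.inl j) * b j χ +
          ∑ q, l (Sum.inr q) * conj (f χ ((q.out : (ZMod p)ˣ) : ZMod p)) = 0 := by
        intro χ hχ
        have := congrFun hl ⟨χ, Set.mem_toFinset.2 hχ⟩
        rw [Fintype.sum_sum_type, Pi.add_apply, Finset.sum_apply, Finset.sum_apply] at this
        simpa [V] using this
      have hsum : ∀ g : G,
          (∑ j, l (Sum.inl j) * ∑ χ : IrrCharacter G, (if χ ∈ B then b j χ * (χ : G → ℂ) g else 0)) +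
            ∑ q, l (Sum.inr q) * ∑ χ : IrrCharacter G,
              (if χ ∈ B then (χ : G → ℂ) g * conj (f χ ((q.out : (ZMod p)ˣ) : ZMod p)) else 0) = 0 := by
        intro g
        simp only [Finset.mul_sum]
        rw [Finset.sum_comm]
        conv_lhs => arg 2; rw [Finset.sum_comm]
        rw [← Finset.sum_add_distrib]
        refine Finset.sum_eq_zero fun χ _ => ?_
        by_cases hχ : χ ∈ B
        · simp only [if_pos hχ]
          calc _ = (χ : G → ℂ) g * (∑ j, l (Sum.inl j) * b j χ +
              ∑ q, l (Sum.inr q) * conj (f χ ((q.out : (ZMod p)ˣ) : ZMod p))) := by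
                rw [mul_add, Finset.mul_sum, Finset.mul_sum]
                congr 1 <;> exact Finset.sum_congr rfl fun _ _ => by ring
            _ = 0 := by rw [hpt χ hχ, mul_zero]
        · simp [hχ]
      have hu : ∀ q : (ZMod p)ˣ ⧸ E, p ∣ orderOf (x ^ ((q.out : (ZMod p)ˣ) : ZMod p).val) := by
        intro q
        rw [orderOf_eq_prime (p := p) ?_ fun h1 => Units.ne_zero q.out ?_]
        · have hxp : x ^ p = 1 := by
            have := pow_orderOf_eq_one x
            rwa [orderOf_generator hP hxP hx] at this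
          rw [← pow_mul, mul_comm, pow_mul, hxp, one_pow]
        · rw [← pow_zero x, pow_val_eq_iff hP hxP hx, ZMod.natCast_zmod_val, Nat.cast_zero] at h1
          exact h1
      have h1 : (fun j => l (Sum.inl j)) = 0 := hb _ fun g hg => by
        have := hsum g
        rw [Finset.sum_eq_zero (s := (Finset.univ : Finset ((ZMod p)ˣ ⧸ E))) fun q _ => by
          rw [sum_union_mul_conj_eq_zero hM hBu hg (hu q), mul_zero], add_zero] at this
        exact this
      rintro (j | q)
      · exact congrFun h1 j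
      have h3 := hsum (x ^ ((q.out : (ZMod p)ˣ) : ZMod p).val)
      rw [Finset.sum_eq_zero fun j _ => by rw [show l (Sum.inl j) = 0 from congrFun h1 j, zero_mul],
        zero_add, Finset.sum_eq_single q] at h3
      · rw [hcol _ _ (Units.ne_zero _), if_pos ⟨1, E.one_mem, by simp⟩] at h3
        exact (mul_eq_zero.1 h3).resolve_right (Nat.cast_ne_zero.2 (Fact.out : p.Prime).ne_zero)
      · intro q' _ hne'
        rw [hcol _ _ (Units.ne_zero _), if_neg, mul_zero]
        rintro ⟨h, hh, he⟩
        rw [← Units.val_mul, Units.val_inj] at he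
        refine hne' ?_
        rw [← QuotientGroup.out_eq' q', he, mul_comm, QuotientGroup.mk_mul_of_mem _ hh,
          QuotientGroup.out_eq']
      · simp
    have := hV.fintype_card_le_finrank
    rwa [Fintype.card_sum, Fintype.card_fin, Module.finrank_fintype_fun_eq_card,
      Fintype.card_coe] at this
  obtain ⟨hk, hrows⟩ := gram_rows (Nat.card E) B.toFinset cq hgram hne hcard
  have hEt : Nat.card E * Fintype.card ((ZMod p)ˣ ⧸ E) + 1 = p := by
    have h := Subgroup.card_eq_card_quotient_mul_card_subgroup E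
    rw [Nat.card_eq_fintype_card (α := (ZMod p)ˣ), ZMod.card_units,
      Nat.card_eq_fintype_card (α := (ZMod p)ˣ ⧸ E)] at h
    have h1 := (Fact.out : p.Prime).one_le
    rw [mul_comm, ← h]
    omega
  have hE0 : 0 < Nat.card E := Nat.card_pos
  -- the unit rows
  obtain ⟨A, uu, hAB, hA1, huB, huA, huinj, hcover, hu1, hu2⟩ :
      ∃ (A : Finset (IrrCharacter G)) (uu : (ZMod p)ˣ ⧸ E → IrrCharacter G),
        A ⊆ B.toFinset ∧ (∀ a ∈ A, ∃ e' : ℤ, (e' = 1 ∨ e' = -1) ∧ ∀ q, cq a q = e') ∧
        (∀ q, uu q ∈ B.toFinset) ∧ (∀ q, uu q ∉ A) ∧ Function.Injective uu ∧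
        A.card = Nat.card E ∧ (∀ q, cq (uu q) q = 1 ∨ cq (uu q) q = -1) ∧
        ∀ χ ∈ B.toFinset, χ ∉ A → ∀ q, χ ≠ uu q → cq χ q = 0 := by
    by_cases ht : Fintype.card ((ZMod p)ˣ ⧸ E) = 1
    · haveI : Subsingleton ((ZMod p)ˣ ⧸ E) := Fintype.card_le_one_iff_subsingleton.1 ht.le
      have hconst : ∀ χ ∈ B.toFinset, ∃ e' : ℤ, (e' = 1 ∨ e' = -1) ∧ ∀ q, cq χ q = e' := by
        intro χ hχ
        rcases hrows χ hχ with h | h | ⟨i, hi, -⟩
        · exact ⟨1, Or.inl rfl, h⟩
        · exact ⟨-1, Or.inr rfl, h⟩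
        · exact ⟨cq χ i, hi, fun q => by rw [Subsingleton.elim q i]⟩
      obtain ⟨χ₀, hχ₀⟩ : B.toFinset.Nonempty := Finset.card_pos.1 (by omega)
      refine ⟨B.toFinset.erase χ₀, fun _ => χ₀, Finset.erase_subset _ _,
        fun a ha => hconst a (Finset.mem_of_mem_erase ha), fun _ => hχ₀,
        fun _ => Finset.notMem_erase _ _, fun a b _ => Subsingleton.elim a b, ?_, fun q => ?_,
        fun χ hχ hχA q hne => absurd (Finset.mem_erase.2 ⟨hne, hχ⟩) hχA⟩
      · rw [Finset.card_erase_of_mem hχ₀, hk, ht]; omega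
      · obtain ⟨e', he', h⟩ := hconst χ₀ hχ₀
        rw [h q]; exact he'
    · set A := B.toFinset.filter fun χ => ∀ i j, cq χ i = cq χ j with hA
      obtain ⟨q₀, q₁, hq01⟩ := Fintype.one_lt_card_iff.1
        (show 1 < Fintype.card ((ZMod p)ˣ ⧸ E) from
          lt_of_le_of_ne (Fintype.card_pos) (Ne.symm ht))
      have hA1 : ∀ a ∈ A, ∃ e' : ℤ, (e' = 1 ∨ e' = -1) ∧ ∀ q, cq a q = e' := by
        intro a ha
        obtain ⟨haB, hac⟩ := Finset.mem_filter.1 ha
        rcases hrows a haB with h | h | ⟨i, hi, hj⟩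
        · exact ⟨1, Or.inl rfl, h⟩
        · exact ⟨-1, Or.inr rfl, h⟩
        · exfalso
          obtain ⟨j, hji⟩ : ∃ j, j ≠ i := by
            by_contra! h; exact hq01 ((h q₀).trans (h q₁).symm)
          have h1 := hac i j
          rw [hj j hji] at h1
          omega
      have hU : ∀ χ ∈ B.toFinset, χ ∉ A →
          ∃ i, (cq χ i = 1 ∨ cq χ i = -1) ∧ ∀ j, j ≠ i → cq χ j = 0 := by
        intro χ hχ hχA
        rcases hrows χ hχ with h | h | h
        · exact absurd (Finset.mem_filter.2 ⟨hχ, fun i j => (h i).trans (h j).symm⟩) hχA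
        · exact absurd (Finset.mem_filter.2 ⟨hχ, fun i j => (h i).trans (h j).symm⟩) hχA
        · exact h
      have hsq : ∀ a ∈ A, ∀ i j, cq a i * cq a j = 1 := fun a ha i j => by
        obtain ⟨e', he', h⟩ := hA1 a ha
        rw [h, h]; rcases he' with rfl | rfl <;> norm_num
      have hsum : ∀ i j, ∑ χ ∈ B.toFinset \ A, cq χ i * cq χ j =
          (Nat.card E : ℤ) + (if i = j then 1 else 0) - A.card := by
        intro i j
        rw [← hgram i j, ← Finset.sum_sdiff (Finset.filter_subset _ _ : A ⊆ B.toFinset),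
          Finset.sum_congr rfl fun a ha => hsq a ha i j, Finset.sum_const, nsmul_one]
        ring
      have hAcard : A.card = Nat.card E := by
        have h := hsum q₀ q₁
        rw [Finset.sum_eq_zero, if_neg hq01] at h
        · omega
        intro χ hχ
        obtain ⟨i, -, hi⟩ := hU χ (Finset.mem_sdiff.1 hχ).1 (Finset.mem_sdiff.1 hχ).2
        by_cases h0 : q₀ = i
        · rw [hi q₁ (fun h1 => hq01 (h0.trans h1.symm)), mul_zero]
        · rw [hi q₀ h0, zero_mul]
      have hone : ∀ q, ((B.toFinset \ A).filter fun χ => cq χ q ≠ 0).card = 1 := by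
        intro q
        have h := hsum q q
        rw [if_pos rfl, hAcard] at h
        have h2 : ∀ χ ∈ B.toFinset \ A, cq χ q * cq χ q = if cq χ q ≠ 0 then 1 else 0 := by
          intro χ hχ
          obtain ⟨i, hi1, hi⟩ := hU χ (Finset.mem_sdiff.1 hχ).1 (Finset.mem_sdiff.1 hχ).2
          by_cases hq : q = i
          · subst hq
            rcases hi1 with h' | h' <;> simp [h']
          · simp [hi q hq]
        rw [Finset.sum_congr rfl h2, Finset.sum_boole] at h
        push_cast at h
        omega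
      choose uu huu using fun q => Finset.card_eq_one.1 (hone q)
      have hmem : ∀ q, uu q ∈ B.toFinset ∧ uu q ∉ A ∧ cq (uu q) q ≠ 0 := fun q => by
        have := (Finset.ext_iff.1 (huu q) (uu q)).2 (Finset.mem_singleton_self _)
        simpa only [Finset.mem_filter, Finset.mem_sdiff, and_assoc] using this
      refine ⟨A, uu, Finset.filter_subset _ _, hA1, fun q => (hmem q).1, fun q => (hmem q).2.1,
        fun a b hab => ?_, hAcard, fun q => ?_, fun χ hχ hχA q hne => ?_⟩
      · obtain ⟨i, -, hi⟩ := hU _ (hmem a).1 (hmem a).2.1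
        by_contra hne
        by_cases ha : a = i
        · exact (hmem b).2.2 (by rw [← hab]; exact hi b fun hb => hne (ha.trans hb.symm))
        · exact (hmem a).2.2 (hi a ha)
      · obtain ⟨i, hi1, hi⟩ := hU _ (hmem q).1 (hmem q).2.1
        by_cases hq : q = i
        · rw [hq] at hi1 ⊢; exact hi1
        · exact absurd (hi q hq) (hmem q).2.2
      · by_contra h0
        have := (Finset.ext_iff.1 (huu q) χ).1
          (Finset.mem_filter.2 ⟨Finset.mem_sdiff.2 ⟨hχ, hχA⟩, h0⟩)
        exact hne (Finset.mem_singleton.1 this)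
  have hBeq : B.toFinset = A ∪ Finset.univ.image uu := by
    refine (Finset.eq_of_subset_of_card_le (Finset.union_subset hAB fun χ hχ => ?_) ?_).symm
    · obtain ⟨q, -, rfl⟩ := Finset.mem_image.1 hχ
      exact huB q
    · rw [Finset.card_union_of_disjoint, Finset.card_image_of_injective _ huinj, hcover, hk,
        Finset.card_univ]
      rw [Finset.disjoint_right]
      intro χ hχ
      obtain ⟨q, -, rfl⟩ := Finset.mem_image.1 hχ
      exact huA q
  let eF := (Fintype.equivFin ((ZMod p)ˣ ⧸ E)).symm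
  choose ε hε1 hε using hA1
  refine ⟨Fintype.card ((ZMod p)ˣ ⧸ E), A, uu ∘ eF,
    fun χ => if h : χ ∈ A then ε χ h else 1, fun q => cq (uu (eF q)) (eF q),
    by rw [hcover]; exact hEt, huinj.comp eF.injective, fun q => huA _, fun χ => ?_,
    fun a ha => ?_, fun q => hu1 _, fun F hF q => ?_⟩
  · rw [← Set.mem_toFinset, hBeq, Finset.mem_union, Finset.mem_image]
    refine or_congr_right ⟨fun ⟨q, _, h⟩ => ⟨eF.symm q, by simpa using h⟩,
      fun ⟨q, h⟩ => ⟨eF q, Finset.mem_univ _, h⟩⟩
  · dsimp only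
    rw [dif_pos ha]
    refine ⟨hε1 a ha, ?_⟩
    have hsumq : ∑ q, cq a q = (Fintype.card ((ZMod p)ˣ ⧸ E) : ℤ) * ε a ha := by
      rw [Finset.sum_congr rfl fun q _ => hε a ha q, Finset.sum_const, Finset.card_univ,
        nsmul_eq_mul]
    set χ := a with hχa
    have hsumc : ∑ i : ZMod p, c χ i = (Nat.card E : ℤ) * ∑ q, cq χ q := by
      have hc0 : c χ 0 = 0 := by simp [hc]
      rw [Fintype.sum_eq_add_sum_subtype_ne _ (0 : ZMod p), hc0, zero_add,
        ← Fintype.sum_equiv unitsEquivNeZero (fun u => c χ ((u : (ZMod p)ˣ) : ZMod p)) _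
          (fun u => rfl),
        Finset.sum_congr rfl fun u _ => hcmk χ u, Finset.mul_sum,
        ← Finset.sum_fiberwise Finset.univ (QuotientGroup.mk : (ZMod p)ˣ → (ZMod p)ˣ ⧸ E)]
      refine Finset.sum_congr rfl fun q _ => ?_
      rw [Finset.sum_congr rfl (g := fun _ => cq χ q) fun u hu => by
        rw [(Finset.mem_filter.1 hu).2], Finset.sum_const, nsmul_eq_mul]
      congr 1
      rw [← Fintype.card_subtype, ← Nat.card_eq_fintype_card]
      obtain ⟨u, rfl⟩ := QuotientGroup.mk_surjective q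
      exact_mod_cast Nat.card_congr
        { toFun := fun v : {v : (ZMod p)ˣ // (QuotientGroup.mk v : (ZMod p)ˣ ⧸ E) = QuotientGroup.mk u} =>
            (⟨u⁻¹ * v.1, QuotientGroup.eq.1 v.2.symm⟩ : E)
          invFun := fun h => ⟨u * h.1, (QuotientGroup.mk_mul_of_mem u h.2)⟩
          left_inv := fun v => Subtype.ext (mul_inv_cancel_left u v.1)
          right_inv := fun h => Subtype.ext (inv_mul_cancel_left u h.1) }
    have hdeg : (Cfsg.charDegree (χ : G → ℂ) : ℤ) =
        (p : ℤ) * (n χ 0 : ℤ) - (Nat.card E : ℤ) * ∑ q, cq χ q := by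
      rw [← hsumc]
      simp only [hc, Finset.sum_sub_distrib, Finset.sum_const, Finset.card_univ, ZMod.card,
        nsmul_eq_mul, sub_sub_cancel]
      apply Int.cast_injective (α := ℂ)
      push_cast
      rw [charDegree_cast]
      have := hn χ 0
      simp only [ZMod.val_zero, pow_zero, mul_zero, AddChar.map_zero_eq_one, mul_one] at this
      exact this
    rw [hdeg, hsumq]
    refine Int.modEq_iff_dvd.2 ⟨ε a ha - (n χ 0 : ℤ), ?_⟩
    have h : ((Nat.card E : ℤ) * (Fintype.card ((ZMod p)ˣ ⧸ E) : ℤ)) + 1 = p := by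
      exact_mod_cast hEt
    linear_combination (ε a ha) * h
  · have hzero : ∀ m : ZMod p, m ≠ 0 →
        ∑ χ : IrrCharacter G, (if χ ∈ B then F χ * f χ m else 0) = 0 := by
      intro m hm
      refine hF _ ?_
      have h1 : orderOf (x ^ m.val) ∣ p :=
        (orderOf_pow_dvd m.val).trans (orderOf_generator hP hxP hx).dvd
      rcases (Fact.out : p.Prime).eq_one_or_self_of_dvd _ h1 with h | h
      · rw [orderOf_eq_one_iff, ← pow_zero x, pow_val_eq_iff hP hxP hx, ZMod.natCast_zmod_val,
          Nat.cast_zero] at h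
        exact absurd h hm
      · rw [h]
    set q' := eF q with hq'
    have hp0 : (p : ℂ) ≠ 0 := Nat.cast_ne_zero.2 (Fact.out : p.Prime).ne_zero
    have h0 : ∑ χ : IrrCharacter G, (if χ ∈ B then F χ * (cq χ q' : ℂ) else 0) = 0 := by
      refine mul_left_cancel₀ hp0 ?_
      rw [mul_zero, Finset.mul_sum]
      calc ∑ χ : IrrCharacter G, (p : ℂ) * (if χ ∈ B then F χ * (cq χ q' : ℂ) else 0)
          = ∑ χ : IrrCharacter G, ∑ m : ZMod p,
              (1 - ψ (-(((q'.out : (ZMod p)ˣ) : ZMod p) * m))) *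
                (if χ ∈ B then F χ * f χ m else 0) := by
            refine Finset.sum_congr rfl fun χ _ => ?_
            split_ifs with hχ
            · rw [mul_left_comm, hcq]
              dsimp only
              rw [hc', Finset.mul_sum]
              exact Finset.sum_congr rfl fun m _ => by ring
            · simp
        _ = 0 := by
            rw [Finset.sum_comm]
            refine Finset.sum_eq_zero fun m _ => ?_
            rw [← Finset.mul_sum]
            by_cases hm : m = 0
            · subst hm; simp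
            · rw [hzero m hm, mul_zero]
    rw [← Finset.sum_filter,
      show (Finset.univ.filter fun χ => χ ∈ B) = B.toFinset by ext; simp, hBeq,
      Finset.sum_union (Finset.disjoint_right.2 fun χ hχ => by
        obtain ⟨r, -, rfl⟩ := Finset.mem_image.1 hχ
        exact huA r), Finset.sum_image fun _ _ _ _ h => huinj h,
      Finset.sum_eq_single q' (fun r _ hr => by
        rw [hu2 _ (huB r) (huA r) q' fun h => hr (huinj h), Int.cast_zero, mul_zero])
        (by simp)] at h0
    refine Eq.trans ?_ h0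
    simp only [Function.comp_apply, ← hq']
    rw [mul_comm (F (uu q'))]
    congr 1
    exact Finset.sum_congr rfl fun a ha => by rw [dif_pos ha, hε a ha q']; ring

end CfsgLib.BlocksCharsC.DefectOne
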