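import Cfsg.Agent.BlocksCharsC.CliffordInvariant
import Cfsg.Agent.BlocksCharsC.Congruence
import Cfsg.Agent.OddOrderChar.KernelFacts
import Cfsg.Agent.Characters.Integrality

/-!
# Kernels, restrictions and multiplicity counts

`charKer`, the translation invariance by kernel elements, weighted sums of multiplicities of a
restriction, and constituents of kernels.
-/

set_option autoImplicit false

namespace CfsgLib.BlocksCharsC

open CfsgLib.Characters
open scoped ComplexConjugate

universe u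

variable {G : Type u} [Group G]

theorem charDegree_spec {χ : G → ℂ} (h : Cfsg.IsCharacter G χ) :
    χ 1 = (Cfsg.charDegree χ : ℂ) := by
  obtain ⟨n, hn⟩ := exists_degree h
  rw [hn, charDegree_eq_floor hn]
where
  charDegree_eq_floor {χ : G → ℂ} {n : ℕ} (h : χ 1 = (n : ℂ)) : Cfsg.charDegree χ = n := by
    simp [Cfsg.charDegree, h]

variable [Finite G]

theorem char_mul_of_eq_degree {χ : G → ℂ} (h : Cfsg.IsCharacter G χ) {n : G} (hn : χ n = χ 1)
    (g : G) : χ (n * g) = χ g := by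
  obtain ⟨k, ρ, rfl⟩ := h
  simp only [Representation.character, map_mul, OddOrderChar.rep_eq_one_of_char_eq ρ hn, one_mul]

/-- The kernel of a character, as a subgroup. -/
def charKer (χ : G → ℂ) (h : Cfsg.IsCharacter G χ) : Subgroup G where
  carrier := {g | χ g = χ 1}
  one_mem' := rfl
  mul_mem' {a b} ha hb := by
    show χ (a * b) = χ 1
    rw [char_mul_of_eq_degree h ha, hb]
  inv_mem' {a} ha := by
    show χ a⁻¹ = χ 1
    rw [← char_mul_of_eq_degree h ha a⁻¹, mul_inv_cancel]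

theorem mem_charKer {χ : G → ℂ} (h : Cfsg.IsCharacter G χ) {g : G} :
    g ∈ charKer χ h ↔ χ g = χ 1 := Iff.rfl

/-- If a character is trivial on an element, so are its constituents. -/
theorem constituent_eq_degree [Fintype G] {θ φ : G → ℂ} (hθ : Cfsg.IsCharacter G θ)
    (hφ : Cfsg.IsIrrCharacter G φ) (hne : Cfsg.classInner θ φ ≠ 0) {g : G} (hg : θ g = θ 1) :
    φ g = φ 1 := by
  classical
  obtain ⟨m, hm⟩ := exists_nat_coeff hθ
  have hmφ : m ⟨φ, hφ⟩ ≠ 0 := by
    intro h0
    refine hne ?_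
    have := classInner_irr_coeff (fun χ => (m χ : ℂ)) (⟨φ, hφ⟩ : Cfsg.IrrCharacter G)
    rw [← hm] at this
    rw [show φ = ((⟨φ, hφ⟩ : Cfsg.IrrCharacter G) : G → ℂ) from rfl, this, h0, Nat.cast_zero]
  have hre : ∀ χ : Cfsg.IrrCharacter G, ((χ : G → ℂ) g).re ≤ ((χ : G → ℂ) 1).re := fun χ =>
    (Complex.re_le_norm _).trans (OddOrderChar.character_norm_le (isCharacter_of_isIrr χ.2) g)
  have hsum : ∑ χ : Cfsg.IrrCharacter G, (m χ : ℝ) * ((χ : G → ℂ) g).re =
      ∑ χ : Cfsg.IrrCharacter G, (m χ : ℝ) * ((χ : G → ℂ) 1).re := by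
    have := congrArg Complex.re hg
    rw [hm] at this
    simpa [Finset.sum_apply, Complex.re_sum] using this
  have := (Finset.sum_eq_sum_iff_of_le fun χ _ =>
    mul_le_mul_of_nonneg_left (hre χ) (Nat.cast_nonneg _)).1 hsum ⟨φ, hφ⟩ (Finset.mem_univ _)
  have hre1 : (φ g).re = (φ 1).re := mul_left_cancel₀ (Nat.cast_ne_zero.2 hmφ) this
  have hnorm := OddOrderChar.character_norm_le (isCharacter_of_isIrr hφ) g
  obtain ⟨k, hk⟩ := exists_degree (isCharacter_of_isIrr hφ)
  rw [hk] at hre1 hnorm ⊢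
  have := OddOrderChar.eq_of_sum_re_eq {()} (fun _ => φ g) (k : ℝ)
    (fun _ _ => by simpa using hnorm) (by simpa using hre1) () (Finset.mem_singleton_self _)
  simpa using this

variable [Fintype G]

/-- `∑ χ(1) ⟨χ_H, φ⟩ = |G : H| φ(1)`. -/
theorem sum_degree_mul_restrict (H : Subgroup G) [Fintype H] (φ : H → ℂ) :
    ∑ χ : Cfsg.IrrCharacter G, (χ : G → ℂ) 1 * Cfsg.classInner (fun h : H => (χ : G → ℂ) h) φ =
      (H.index : ℂ) * conj (φ 1) := by
  classical
  simp only [Cfsg.classInner, Finset.mul_sum]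
  rw [Finset.sum_comm]
  have h1 : ∀ h : H, ∑ χ : Cfsg.IrrCharacter G,
      (χ : G → ℂ) 1 * ((Nat.card H : ℂ)⁻¹ * ((χ : G → ℂ) h * conj (φ h))) =
      (Nat.card H : ℂ)⁻¹ * conj (φ h) * if (h : G) = 1 then (Nat.card G : ℂ) else 0 := by
    intro h
    rw [← sum_degree_mul (h : G), Finset.mul_sum]
    exact Finset.sum_congr rfl fun χ _ => by ring
  rw [Finset.sum_congr rfl fun h _ => h1 h, Finset.sum_eq_single (1 : H)]
  · rw [OneMemClass.coe_one, if_pos rfl, ← H.card_mul_index, Nat.cast_mul]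
    have : (Nat.card H : ℂ) ≠ 0 := natCard_ne_zero
    field_simp
  · intro h _ hh
    rw [if_neg (fun e : (h : G) = 1 => hh (Subtype.ext e)), mul_zero]
  · exact fun h => absurd (Finset.mem_univ _) h

theorem isCharacter_restrict' (H : Subgroup G) {χ : G → ℂ} (h : Cfsg.IsCharacter G χ) :
    Cfsg.IsCharacter H (fun x : H => χ x) := isCharacter_restrict H h

/-- A `p'`-degree irreducible character over an irreducible character of `p'`-degree of a
subgroup of `p'`-index. -/
theorem exists_constituent_not_dvd {p : ℕ} [hp : Fact p.Prime] (H : Subgroup G) [Fintype H]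
    (hH : ¬ p ∣ H.index) {φ : H → ℂ} (hφ : Cfsg.IsCharacter H φ)
    (hd : ¬ p ∣ Cfsg.charDegree φ) :
    ∃ χ : Cfsg.IrrCharacter G, ¬ p ∣ Cfsg.charDegree (χ : G → ℂ) ∧
      Cfsg.classInner (fun h : H => (χ : G → ℂ) h) φ ≠ 0 := by
  classical
  choose m hm using fun χ : Cfsg.IrrCharacter G =>
    classInner_characters (isCharacter_restrict' H (isCharacter_of_isIrr χ.2)) hφ
  have key := sum_degree_mul_restrict H φ
  simp only [hm, charDegree_spec (isCharacter_of_isIrr (Subtype.prop _)), charDegree_spec hφ,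
    Complex.conj_natCast] at key
  have key' : ∑ χ : Cfsg.IrrCharacter G, Cfsg.charDegree (χ : G → ℂ) * m χ =
      H.index * Cfsg.charDegree φ := by exact_mod_cast key
  obtain ⟨χ, -, hχ⟩ : ∃ χ ∈ Finset.univ, ¬ p ∣ Cfsg.charDegree ((χ : Cfsg.IrrCharacter G) : G → ℂ) * m χ := by
    by_contra hcon
    push Not at hcon
    have h2 := Finset.dvd_sum hcon
    rw [key'] at h2
    exact (hp.out.dvd_mul.1 h2).elim hH hd
  refine ⟨χ, fun h => hχ (h.mul_right _), ?_⟩
  rw [hm, Nat.cast_ne_zero]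
  intro h0
  exact hχ (by rw [h0, mul_zero]; exact dvd_zero _)

end CfsgLib.BlocksCharsC
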