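import Cfsg.Agent.BlocksCharsC.RegularSupport
import Cfsg.Agent.BlocksCharsC.Restriction
import Mathlib.Algebra.BigOperators.Ring.Nat

/-!
# The sum of the squares of the degrees in a block
-/

set_option autoImplicit false

namespace CfsgLib.BlocksCharsC

open Cfsg CfsgLib.Blocks
open scoped ComplexConjugate

universe u

variable {G : Type u} [Group G] [Fintype G] {p : ℕ} {M : Ideal AlgInt} [M.IsPrime]

open Classical in
theorem dvd_sum_sq (hM : Cfsg.IsPModular p M) (hp : p ∣ Nat.card G) {A : Set (IrrCharacter G)}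
    (hA : IsBlockUnion M A) :
    p ∣ ∑ χ : IrrCharacter G, if χ ∈ A then Cfsg.charDegree (χ : G → ℂ) ^ 2 else 0 := by
  haveI := Fact.mk hM.1
  obtain ⟨g, hg⟩ := exists_prime_orderOf_dvd_card' p hp
  let H : Subgroup G := Subgroup.zpowers g
  haveI := Fintype.ofFinite H
  have hcard : Nat.card H = p := by rw [Nat.card_zpowers, hg]
  let θ : G → ℂ := ∑ χ : IrrCharacter G,
    if χ ∈ A then (Cfsg.charDegree (χ : G → ℂ) : ℂ) • (χ : G → ℂ) else 0
  have hθ : Cfsg.IsCharacter G θ := by
    refine Characters.isCharacter_sum _ _ fun χ _ => ?_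
    split_ifs
    · exact Characters.isCharacter_natCast_smul (Characters.isCharacter_of_isIrr χ.2) _
    · exact Characters.isCharacter_zero
  obtain ⟨m, hm⟩ := Characters.classInner_characters
    (Characters.isCharacter_restrict H hθ) (Characters.isCharacter_one (G := H))
  have hval : ∀ x : G, θ x = ∑ χ : IrrCharacter G,
      if χ ∈ A then (χ : G → ℂ) 1 * (χ : G → ℂ) x else 0 := by
    intro x
    simp only [θ, Finset.sum_apply]
    refine Finset.sum_congr rfl fun χ _ => ?_
    split_ifs
    · rw [Pi.smul_apply, smul_eq_mul, charDegree_spec (Characters.isCharacter_of_isIrr χ.2)]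
    · rfl
  have hzero : ∀ x : H, x ≠ 1 → θ x = 0 := by
    intro x hx
    rw [hval]
    refine sum_degree_mul_eq_zero hM hA ?_
    have h1 : orderOf (x : G) ∣ p := by
      have := orderOf_dvd_natCard x
      rwa [hcard, ← Subgroup.orderOf_coe] at this
    rcases (Nat.dvd_prime hM.1).1 h1 with h | h
    · exact absurd (Subtype.ext (orderOf_eq_one_iff.1 h)) hx
    · rw [h]
  simp only [Cfsg.classInner, map_one, mul_one] at hm
  rw [Finset.sum_eq_single (1 : H) (fun x _ hx => hzero x hx)
    (fun h => absurd (Finset.mem_univ _) h), hcard, OneMemClass.coe_one, hval,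
    inv_mul_eq_iff_eq_mul₀ (Nat.cast_ne_zero.2 hM.1.ne_zero)] at hm
  refine ⟨m, ?_⟩
  apply Nat.cast_injective (R := ℂ)
  push_cast
  rw [← hm]
  refine Finset.sum_congr rfl fun χ _ => ?_
  split_ifs
  · rw [charDegree_spec (Characters.isCharacter_of_isIrr χ.2), sq]
  · rfl

/-- The principal 2-block of a group of even order has evenly many characters of odd degree. -/
theorem even_card_odd_degree (hM : Cfsg.IsPModular 2 M) (hev : 2 ∣ Nat.card G) :
    2 ∣ Nat.card {χ : IrrCharacter G //
      χ ∈ Cfsg.principalBlock M G ∧ Odd (Cfsg.charDegree (χ : G → ℂ))} := by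
  classical
  have h := dvd_sum_sq hM hev (isBlockUnion_of_isPBlock (isPBlock_principalBlock (M := M)))
  rw [← Finset.sum_filter, ← even_iff_two_dvd,
    Finset.even_sum_iff_even_card_odd] at h
  rw [← even_iff_two_dvd, Nat.card_eq_fintype_card, Fintype.card_subtype]
  rw [Finset.filter_filter] at h
  refine (congrArg (fun s : Finset (IrrCharacter G) => Even s.card) ?_).mpr h
  ext χ
  simp [Nat.odd_pow_iff]

end CfsgLib.BlocksCharsC
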