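import Cfsg.Agent.OddOrderChar.CoprimeExtension
import Cfsg.Agent.GaloisConj.Basic
import Cfsg.Agent.Characters.Classes
import Cfsg.Prelude.Def_Blocks
import Mathlib.GroupTheory.IndexNormal
import Mathlib.FieldTheory.IsAlgClosed.Basic

/-!
# The canonical extension across a `p`-group quotient

An invariant irreducible character of degree prime to `p` whose determinant has exponent `o` prime
to `p` has exactly one extension with determinant of exponent `o` across a `p`-group quotient.
-/

set_option autoImplicit false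
set_option linter.unusedSectionVars false

namespace CfsgLib.BlocksCharsC

open CfsgLib.Characters CfsgLib.OddOrderChar

universe u

variable {G : Type u} [Group G] [Fintype G]

/-- `χ` is afforded by a representation whose determinant has exponent dividing `o`. -/
def DetExp (o : ℕ) (χ : G → ℂ) : Prop :=
  ∃ (n : ℕ) (ρ : Representation ℂ G (Fin n → ℂ)), ρ.character = χ ∧
    ∀ g, LinearMap.det (ρ g) ^ o = 1

omit [Fintype G] in
theorem DetExp.isCharacter {o : ℕ} {χ : G → ℂ} (h : DetExp o χ) : Cfsg.IsCharacter G χ := by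
  obtain ⟨n, ρ, h1, -⟩ := h
  exact ⟨n, ρ, h1⟩

theorem det_eq_of_equiv {V W : Type*} [AddCommGroup V] [Module ℂ V] [AddCommGroup W] [Module ℂ W]
    {ρ : Representation ℂ G V} {σ : Representation ℂ G W} (e : ρ.Equiv σ) (g : G) :
    LinearMap.det (σ g) = LinearMap.det (ρ g) := by
  have : σ g = e.toLinearEquiv.toLinearMap ∘ₗ ρ g ∘ₗ e.toLinearEquiv.symm.toLinearMap := by
    refine LinearMap.ext fun x => ?_
    obtain ⟨y, rfl⟩ := e.toLinearEquiv.surjective x
    simp only [LinearMap.comp_apply, LinearEquiv.coe_coe, LinearEquiv.symm_apply_apply]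
    exact (equiv_map e g y).symm
  rw [this, LinearMap.det_conj]

/-- The exponent of the determinant does not depend on the representation. -/
theorem DetExp.det_pow {o : ℕ} {χ : G → ℂ} (h : DetExp o χ) {V : Type*} [AddCommGroup V]
    [Module ℂ V] [FiniteDimensional ℂ V] (σ : Representation ℂ G V) (hσ : σ.character = χ) (g : G) :
    LinearMap.det (σ g) ^ o = 1 := by
  obtain ⟨n, ρ, h1, h2⟩ := h
  obtain ⟨e⟩ := equiv_of_char_eq ρ σ (h1.trans hσ.symm)
  rw [det_eq_of_equiv e, h2]

/-- Restriction keeps the exponent of the determinant. -/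
theorem DetExp.restrict {o : ℕ} {χ : G → ℂ} (h : DetExp o χ) (H : Subgroup G) :
    DetExp o (fun x : H => χ x) := by
  obtain ⟨n, ρ, h1, h2⟩ := h
  exact ⟨n, ρ.comp H.subtype, by rw [← h1]; rfl, fun g => h2 _⟩

theorem DetExp.comp {o : ℕ} {χ : G → ℂ} (h : DetExp o χ) {H : Type u} [Group H] (f : H →* G) :
    DetExp o (fun x : H => χ (f x)) := by
  obtain ⟨n, ρ, h1, h2⟩ := h
  exact ⟨n, ρ.comp f, by rw [← h1]; rfl, fun g => h2 _⟩

/-- Galois conjugation keeps the exponent of the determinant. -/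
theorem DetExp.pow {o : ℕ} {χ : G → ℂ} (h : DetExp o χ) {k : ℕ}
    (hk : Nat.Coprime k (Nat.card G)) : DetExp o (fun g => χ (g ^ k)) := by
  obtain ⟨n, ρ, h1, h2⟩ := h
  haveI : NeZero (Nat.card G) := ⟨Nat.card_pos.ne'⟩
  obtain ⟨σ, hσ⟩ := GaloisConj.exists_ringEquiv_pow (Nat.card G) k hk
  refine ⟨n, GaloisConj.conjRep σ ρ, funext fun g => ?_, fun g => ?_⟩
  · rw [GaloisConj.character_conjRep, h1,
      GaloisConj.map_character_eq_pow hσ ⟨n, ρ, h1⟩]
  · have : LinearMap.det (GaloisConj.conjRep σ ρ g) = σ (LinearMap.det (ρ g)) := by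
      rw [show GaloisConj.conjRep σ ρ g = Matrix.toLin' ((LinearMap.toMatrix' (ρ g)).map σ) from rfl,
        LinearMap.det_toLin', ← LinearMap.det_toMatrix', σ.map_det]
      rfl
    rw [this, ← map_pow, h2, map_one]

section IndexP

variable (N : Subgroup G) [hN : N.Normal] [Fintype N] {p : ℕ} [hp : Fact p.Prime] {o : ℕ}

theorem pow_mem_of_index (hi : N.index = p) (g : G) : g ^ p ∈ N := hi ▸ N.pow_index_mem g

theorem exists_pow_mul_eq (hi : N.index = p) {x : G} (hx : x ∉ N) (g : G) :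
    ∃ (i : ℕ) (n : N), g = x ^ i * (n : G) := by
  have hc : Nat.card (G ⧸ N) = p := by rw [← Subgroup.index]; exact hi
  have hx1 : (x : G ⧸ N) ≠ 1 := by simpa [QuotientGroup.eq_one_iff] using hx
  have hz : (g : G ⧸ N) ∈ Subgroup.zpowers (x : G ⧸ N) := by
    haveI : Fact (Nat.card (G ⧸ N)).Prime := ⟨hc ▸ hp.out⟩
    rw [show Subgroup.zpowers (x : G ⧸ N) = ⊤ from
      (Subgroup.zpowers (x : G ⧸ N)).eq_bot_or_eq_top_of_prime_card.resolve_left
        (fun h => hx1 (Subgroup.zpowers_eq_bot.1 h))]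
    trivial
  rw [← mem_powers_iff_mem_zpowers] at hz
  obtain ⟨i, hi⟩ := hz
  refine ⟨i, ⟨(x ^ i)⁻¹ * g, ?_⟩, by group⟩
  exact QuotientGroup.eq.1 (by simpa using hi)

/-- Extension of a representation across a quotient of prime order. -/
theorem exists_rep_extension (hi : N.index = p) {θ : N → ℂ} {d : ℕ}
    (ρ : Representation ℂ N (Fin d → ℂ)) [ρ.IsIrreducible] (hρ : ρ.character = θ)
    (hinv : ∀ g : G, conjBy N θ g = θ) :
    ∃ σ : Representation ℂ G (Fin d → ℂ), ∀ n : N, σ n = ρ n := by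
  classical
  obtain ⟨x, hx⟩ : ∃ x, x ∉ N := by
    have hne : N ≠ ⊤ := by
      intro h; rw [h, Subgroup.index_top] at hi; exact hp.out.ne_one hi.symm
    simpa [Subgroup.eq_top_iff'] using hne
  obtain ⟨φ⟩ := equiv_of_char_eq ρ (ρ.comp (MulAut.conjNormal (H := N) x : N ≃* N).toMonoidHom)
    (by
      have h := hinv x
      rw [conjBy_eq_comp, ← hρ] at h
      exact h.symm)
  set U₀ := φ.toLinearEquiv.toLinearMap with hU₀
  have hU₀t : IsConjTwiner N ρ x U₀ :=
    ⟨φ.toLinearEquiv.bijective, fun n v => equiv_map φ n v⟩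
  let m : N := ⟨x ^ p, pow_mem_of_index N hi x⟩
  have hm : IsConjTwiner N ρ (x ^ p) (ρ m) := by
    refine ⟨⟨fun a b h => ?_, fun b => ⟨ρ m⁻¹ b, ?_⟩⟩, fun n v => ?_⟩
    · have := congrArg (ρ m⁻¹) h
      rwa [← Module.End.mul_apply, ← Module.End.mul_apply, ← map_mul, inv_mul_cancel, map_one] at this
    · rw [← Module.End.mul_apply, ← map_mul, mul_inv_cancel, map_one, Module.End.one_apply]
    · rw [← Module.End.mul_apply, ← map_mul, ← Module.End.mul_apply, ← map_mul]
      congr 2
      exact Subtype.ext (by simp only [m, Subgroup.coe_mul, MulAut.conjNormal_apply]; group)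
  obtain ⟨c, hc⟩ := IsConjTwiner.eq_smul N (hU₀t.pow N p) hm
  have hc0 : c ≠ 0 := by
    intro h
    rw [h, zero_smul] at hc
    haveI := nontrivial_of_isIrreducible ρ
    obtain ⟨v, hv⟩ := exists_ne (0 : Fin d → ℂ)
    exact hv ((hU₀t.pow N p).1.1 (by rw [hc]; simp))
  obtain ⟨t, ht⟩ := IsAlgClosed.exists_pow_nat_eq c⁻¹ hp.out.pos
  have ht0 : t ≠ 0 := by
    intro h; rw [h, zero_pow hp.out.ne_zero] at ht; exact inv_ne_zero hc0 ht.symm
  set U := t • U₀ with hU
  have hUp : U ^ p = ρ m := by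
    rw [hU, smul_pow, hc, smul_smul, ht, inv_mul_cancel₀ hc0, one_smul]
  have hcomm : ∀ n : N, U * ρ n = ρ (MulAut.conjNormal (H := N) x n) * U := fun n => by
    refine LinearMap.ext fun v => ?_
    simp only [hU, Module.End.mul_apply, LinearMap.smul_apply, hU₀t.2, map_smul]
  have hcommj : ∀ (j : ℕ) (n : N), U ^ j * ρ n = ρ (MulAut.conjNormal (H := N) (x ^ j) n) * U ^ j := by
    intro j
    induction j with
    | zero => intro n; simp
    | succ j ih =>
      intro n
      rw [pow_succ, mul_assoc, hcomm, ← mul_assoc, ih, mul_assoc, pow_succ, map_mul]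
      rfl
  let F : ℕ → N → Module.End ℂ (Fin d → ℂ) := fun i n => U ^ i * ρ n
  have hwell : ∀ (i : ℕ) (n : N) (j : ℕ) (n' : N), x ^ i * (n : G) = x ^ j * (n' : G) →
      F i n = F j n' := by
    suffices hle : ∀ (i : ℕ) (n : N) (j : ℕ) (n' : N), j ≤ i → x ^ i * (n : G) = x ^ j * (n' : G) →
        F i n = F j n' by
      intro i n j n' h
      rcases le_total j i with hl | hl
      · exact hle i n j n' hl h
      · exact (hle j n' i n hl h.symm).symm
    intro i n j n' hl h
    obtain ⟨l, rfl⟩ := Nat.exists_eq_add_of_le hl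
    rw [pow_add, mul_assoc, mul_left_cancel_iff] at h
    have hlN : x ^ l ∈ N := by
      rw [show x ^ l = (n' : G) * (n : G)⁻¹ by rw [← h]; group]
      exact mul_mem n'.2 (inv_mem n.2)
    have hpl : p ∣ l := by
      by_contra hpl
      obtain ⟨r, hr⟩ := exists_pow_eq_self_of_coprime (x := (x : G ⧸ N)) (n := l) (by
        refine Nat.Coprime.coprime_dvd_right ?_ ((Nat.coprime_comm).1 ((hp.out.coprime_iff_not_dvd).2 hpl))
        have := orderOf_dvd_natCard (x : G ⧸ N)
        rwa [← Subgroup.index, hi] at this)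
      rw [← QuotientGroup.mk_pow, (QuotientGroup.eq_one_iff _).2 hlN, one_pow, eq_comm,
        QuotientGroup.eq_one_iff] at hr
      exact hx hr
    obtain ⟨s, rfl⟩ := hpl
    have : m ^ s * n = n' := Subtype.ext (show ((x ^ p) ^ s * (n : G) = n') by rw [← pow_mul]; exact h)
    simp only [F]
    rw [pow_add, mul_assoc, pow_mul U, hUp, ← map_pow, ← map_mul, this]
  choose ii nn hin using exists_pow_mul_eq N hi hx
  let f : G → Module.End ℂ (Fin d → ℂ) := fun g => F (ii g) (nn g)
  have hf : ∀ (i : ℕ) (n : N), f (x ^ i * (n : G)) = F i n := fun i n =>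
    hwell _ _ _ _ (hin _).symm
  refine ⟨{ toFun := f, map_one' := ?_, map_mul' := fun a b => ?_ }, fun n => ?_⟩
  · have := hf 0 1
    simpa [F] using this
  · rw [hin a, hin b]
    generalize ii a = i, ii b = j, nn a = n, nn b = n'
    let n₁ : N := MulAut.conjNormal (H := N) (x ^ j)⁻¹ n
    have : x ^ i * (n : G) * (x ^ j * (n' : G)) = x ^ (i + j) * ((n₁ * n' : N) : G) := by
      simp only [n₁, Subgroup.coe_mul, MulAut.conjNormal_apply, pow_add]
      group
    rw [this, hf, hf, hf]
    simp only [F]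
    have hj := hcommj j n₁
    rw [show MulAut.conjNormal (H := N) (x ^ j) n₁ = n from Subtype.ext (by simp [n₁, mul_assoc])] at hj
    rw [map_mul, pow_add, mul_assoc, mul_assoc, ← mul_assoc (U ^ j), hj, mul_assoc]
  · have := hf 0 n
    simpa [F] using this

theorem isIrreducible_of_restrict {d : ℕ} {ρ : Representation ℂ N (Fin d → ℂ)} [ρ.IsIrreducible]
    (σ : Representation ℂ G (Fin d → ℂ)) (h : ∀ n : N, σ n = ρ n) : σ.IsIrreducible := by
  haveI := nontrivial_of_isIrreducible ρ
  refine isIrreducible_of_forall σ fun W hW => ?_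
  rcases IsSimpleOrder.eq_bot_or_eq_top
      (⟨W, fun n x hx => h n ▸ hW (n : G) x hx⟩ : Subrepresentation ρ) with hh | hh
  · exact Or.inl (congrArg Subrepresentation.toSubmodule hh)
  · exact Or.inr (congrArg Subrepresentation.toSubmodule hh)

/-- The twist of a representation by a linear character. -/
theorem exists_twist {d : ℕ} (f : G →* ℂˣ) (σ : Representation ℂ G (Fin d → ℂ)) :
    ∃ τ : Representation ℂ G (Fin d → ℂ), ∀ g, τ g = (f g : ℂ) • σ g :=
  ⟨{ toFun := fun g => (f g : ℂ) • σ g, map_one' := by simp,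
     map_mul' := fun a b => by simp [smul_smul, mul_comm] }, fun _ => rfl⟩

/-- Two extensions differ by a linear character trivial on `N`. -/
theorem exists_hom_of_extensions {d : ℕ} {ρ : Representation ℂ N (Fin d → ℂ)} [ρ.IsIrreducible]
    {σ : Representation ℂ G (Fin d → ℂ)} (hσ : ∀ n : N, σ n = ρ n) {χ : G → ℂ}
    (hχ : Cfsg.IsCharacter G χ) (hres : ∀ n : N, χ n = ρ.character n) :
    ∃ (f : G →* ℂˣ) (τ : Representation ℂ G (Fin d → ℂ)), (∀ n : N, f n = 1) ∧
      (∀ g, τ g = (f g : ℂ) • σ g) ∧ τ.character = χ := by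
  obtain ⟨k, τ₀, hτ₀⟩ := hχ
  obtain ⟨e⟩ := equiv_of_char_eq (τ₀.comp N.subtype : Representation ℂ N (Fin k → ℂ)) ρ (by
    funext n
    rw [← hres n, ← hτ₀]
    rfl)
  let τ := transport τ₀ e.toLinearEquiv
  have hτN : ∀ n : N, τ n = ρ n := fun n => LinearMap.ext fun v => by
    rw [transport_apply]
    exact (equiv_map e n _).trans (by rw [LinearEquiv.apply_symm_apply])
  have htw : ∀ (π : Representation ℂ G (Fin d → ℂ)), (∀ n : N, π n = ρ n) → ∀ g,
      IsConjTwiner N ρ g (π g) := fun π hπ g => by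
    refine ⟨⟨fun a b h => ?_, fun b => ⟨π g⁻¹ b, ?_⟩⟩, fun n v => ?_⟩
    · have := congrArg (π g⁻¹) h
      rwa [← Module.End.mul_apply, ← Module.End.mul_apply, ← map_mul, inv_mul_cancel, map_one] at this
    · rw [← Module.End.mul_apply, ← map_mul, mul_inv_cancel, map_one, Module.End.one_apply]
    · rw [← hπ, ← hπ, ← Module.End.mul_apply, ← map_mul, ← Module.End.mul_apply, ← map_mul,
        MulAut.conjNormal_apply]
      group
  choose c hc using fun g => IsConjTwiner.eq_smul N (htw τ hτN g) (htw σ hσ g)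
  haveI := nontrivial_of_isIrreducible ρ
  have hne : ∀ g, σ g ≠ 0 := fun g h => by
    obtain ⟨v, hv⟩ := exists_ne (0 : Fin d → ℂ)
    exact hv ((htw σ hσ g).1.1 (by rw [h]; simp))
  have hc1 : c 1 = 1 := by
    have := hc 1
    rw [map_one, map_one] at this
    exact (smul_left_injective ℂ (one_ne_zero) ((one_smul ℂ (1 : Module.End ℂ (Fin d → ℂ))).trans this)).symm
  have hcmul : ∀ a b, c (a * b) = c a * c b := fun a b => by
    have := hc (a * b)
    rw [map_mul, hc a, hc b, smul_mul_smul_comm, ← map_mul] at this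
    exact (smul_left_injective ℂ (hne _) this).symm
  let f : G →* ℂˣ := ({ toFun := c, map_one' := hc1, map_mul' := hcmul } : G →* ℂ).toHomUnits
  refine ⟨f, τ, fun n => Units.ext ?_, fun g => ?_, ?_⟩
  · rw [MonoidHom.coe_toHomUnits, Units.val_one]
    have := hc (n : G)
    rw [hτN, hσ] at this
    have hn0 : ρ n ≠ 0 := hσ n ▸ hne _
    exact (smul_left_injective ℂ hn0 ((one_smul ℂ (ρ n)).trans this)).symm
  · rw [MonoidHom.coe_toHomUnits]; exact hc g
  · rw [char_transport, hτ₀]

theorem DetExp.exists_rep {θ : N → ℂ} (hθ : Cfsg.IsIrrCharacter N θ) (h : DetExp o θ) :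
    ∃ (d : ℕ) (ρ : Representation ℂ N (Fin d → ℂ)), ρ.IsIrreducible ∧ ρ.character = θ ∧
      (∀ n, LinearMap.det (ρ n) ^ o = 1) := by
  obtain ⟨d, ρ, hρ, hρθ⟩ := hθ
  exact ⟨d, ρ, hρ, hρθ, h.det_pow ρ hρθ⟩

/-- Existence and uniqueness across a quotient of order `p`. -/
theorem exists_canonical_index_prime (hi : N.index = p) {θ : N → ℂ}
    (hθ : Cfsg.IsIrrCharacter N θ) (hdet : DetExp o θ) (hinv : ∀ g : G, conjBy N θ g = θ)
    (hdeg : ¬ p ∣ Cfsg.charDegree θ) (ho : Nat.Coprime o p) :
    ∃ χ : G → ℂ, Cfsg.IsIrrCharacter G χ ∧ DetExp o χ ∧ (∀ n : N, χ n = θ n) ∧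
      ∀ χ' : G → ℂ, DetExp o χ' → (∀ n : N, χ' n = θ n) → χ' = χ := by
  obtain ⟨d, ρ, hρi, hρθ, hρdet⟩ := DetExp.exists_rep N hθ hdet
  haveI := hρi
  obtain ⟨σ₀, hσ₀⟩ := exists_rep_extension N hi ρ hρθ hinv
  have hd : ¬ p ∣ d := by
    have : Cfsg.charDegree θ = d := by simp [Cfsg.charDegree, ← hρθ]
    rwa [this] at hdeg
  have hpow : ∀ (f : G →* ℂˣ), (∀ n : N, f n = 1) → ∀ g, f g ^ p = 1 := fun f hf g => by
    rw [← map_pow]; exact hf ⟨_, pow_mem_of_index N hi g⟩
  have hcop : Nat.Coprime (d * o) p :=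
    Nat.Coprime.mul_left ((Nat.coprime_comm).1 (hp.out.coprime_iff_not_dvd.2 hd)) ho
  have huniq : ∀ (f : G →* ℂˣ) (σ τ : Representation ℂ G (Fin d → ℂ)), (∀ n : N, f n = 1) →
      (∀ g, τ g = (f g : ℂ) • σ g) → (∀ g, LinearMap.det (σ g) ^ o = 1) →
      (∀ g, LinearMap.det (τ g) ^ o = 1) → τ = σ := by
    intro f σ τ hf hτ h1 h2
    refine MonoidHom.ext fun g => ?_
    have h3 := h2 g
    rw [hτ g, LinearMap.det_smul, mul_pow, h1 g, mul_one, Module.finrank_fin_fun, ← pow_mul,
      ← Units.val_pow_eq_pow_val, Units.val_eq_one] at h3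
    have h4 := pow_gcd_eq_one.mpr ⟨h3, hpow f hf g⟩
    rw [hcop, pow_one] at h4
    rw [hτ g, h4, Units.val_one, one_smul]
  let δ : G →* ℂˣ := ((LinearMap.det.comp σ₀) ^ o).toHomUnits
  have hδv : ∀ g, (δ g : ℂ) = LinearMap.det (σ₀ g) ^ o := fun g => by
    simp [δ, MonoidHom.coe_toHomUnits]
  have hδ : ∀ n : N, δ n = 1 := fun n => Units.ext (by
    rw [hδv, hσ₀, hρdet, Units.val_one])
  obtain ⟨e, he⟩ : ∃ e : ℕ, d * o * e ≡ 1 [MOD p] := by
    obtain ⟨e, -, he⟩ := Nat.exists_mul_mod_eq_one_of_coprime hcop hp.out.one_lt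
    exact ⟨e, by rw [Nat.ModEq, he, Nat.mod_eq_of_lt hp.out.one_lt]⟩
  obtain ⟨σ, hσ⟩ := exists_twist (δ⁻¹ ^ e) σ₀
  have hσN : ∀ n : N, σ n = ρ n := fun n => by
    rw [hσ, MonoidHom.pow_apply, MonoidHom.inv_apply, hδ, inv_one, one_pow, Units.val_one, one_smul,
      hσ₀]
  have hσdet : ∀ g, LinearMap.det (σ g) ^ o = 1 := fun g => by
    rw [hσ, LinearMap.det_smul, mul_pow, ← hδv, Module.finrank_fin_fun, ← pow_mul,
      ← Units.val_pow_eq_pow_val, ← Units.val_mul, Units.val_eq_one, MonoidHom.pow_apply,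
      MonoidHom.inv_apply, ← pow_mul, inv_pow, inv_mul_eq_one]
    have : δ g ^ (e * (d * o)) = δ g ^ 1 := by
      rw [pow_eq_pow_iff_modEq]
      refine Nat.ModEq.of_dvd (orderOf_dvd_of_pow_eq_one (hpow δ hδ g)) ?_
      rwa [mul_comm]
    rwa [pow_one] at this
  haveI : σ.IsIrreducible := isIrreducible_of_restrict N σ hσN
  have hres : ∀ n : N, σ.character n = θ n := fun n => by
    rw [← hρθ, Representation.character, hσN]; rfl
  refine ⟨σ.character, isIrrCharacter_character σ, ⟨d, σ, rfl, hσdet⟩, hres, ?_⟩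
  intro χ' hχ' hres'
  obtain ⟨f, τ, hf, hτ, hτc⟩ := exists_hom_of_extensions N hσN hχ'.isCharacter
    (fun n => by rw [hres', hρθ])
  rw [← hτc, huniq f σ τ hf hτ hσdet (hχ'.det_pow τ hτc)]

end IndexP

/-- Existence and uniqueness across a `p`-group quotient. -/
theorem exists_canonical {p : ℕ} [hp : Fact p.Prime] {o : ℕ} (ho : Nat.Coprime o p)
    (N : Subgroup G) [hN : N.Normal] [Fintype N] (hq : IsPGroup p (G ⧸ N))
    {θ : N → ℂ} (hθ : Cfsg.IsIrrCharacter N θ) (hdet : DetExp o θ)
    (hinv : ∀ g : G, conjBy N θ g = θ) (hdeg : ¬ p ∣ Cfsg.charDegree θ) :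
    ∃ χ : G → ℂ, Cfsg.IsIrrCharacter G χ ∧ DetExp o χ ∧ (∀ n : N, χ n = θ n) ∧
      ∀ χ' : G → ℂ, DetExp o χ' → (∀ n : N, χ' n = θ n) → χ' = χ := by
  classical
  induction hc : Nat.card G using Nat.strong_induction_on generalizing G with
  | _ m ih =>
    obtain ⟨a, ha⟩ := (IsPGroup.iff_card.1 hq)
    rcases Nat.eq_zero_or_pos a with rfl | ha0
    · have htop : N = ⊤ := Subgroup.index_eq_one.1 (by rw [Subgroup.index, ha, pow_zero])
      subst htop
      let e : G ≃* (⊤ : Subgroup G) := Subgroup.topEquiv.symm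
      refine ⟨fun g => θ (e g), ?_, hdet.comp e.toMonoidHom, fun n => congrArg θ (Subtype.ext rfl),
        fun χ' _ h => funext fun g => h (e g)⟩
      refine isIrr_of_classInner_self (isCharacter_comp e.toMonoidHom (isCharacter_of_isIrr hθ)) ?_
      rw [← classInner_isIrr_self hθ]
      simp only [Cfsg.classInner]
      rw [Nat.card_congr e.toEquiv]
      congr 1
      exact Fintype.sum_equiv e.toEquiv _ _ fun x => rfl
    -- a maximal subgroup above `N`
    · obtain ⟨K, hK⟩ := Sylow.exists_subgroup_card_pow_prime p (n := a - 1) (G := G ⧸ N)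
        (by rw [ha]; exact Nat.pow_dvd_pow p (by omega))
      have hKi : K.index = p := by
        have := K.card_mul_index
        rw [hK, ha, ← Nat.sub_add_cancel ha0, pow_add, pow_one] at this
        exact Nat.eq_of_mul_eq_mul_left (pow_pos hp.out.pos _) (by simpa using this)
      haveI hKn : K.Normal := Subgroup.normal_of_index_eq_minFac_card
        (by rw [hKi, ha, Nat.pow_minFac (by omega), hp.out.minFac_eq])
      let L : Subgroup G := K.comap (QuotientGroup.mk' N)
      have hLi : L.index = p := by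
        rw [Subgroup.index_comap_of_surjective K (QuotientGroup.mk'_surjective N), hKi]
      have hNL : N ≤ L := fun n hn => by
        show QuotientGroup.mk' N n ∈ K
        rw [QuotientGroup.mk'_apply, (QuotientGroup.eq_one_iff n).2 hn]; exact one_mem _
      haveI hLn : L.Normal := hKn.comap _
      let eN : N.subgroupOf L ≃* N := Subgroup.subgroupOfEquivOfLe hNL
      have hlt : Nat.card L < Nat.card G := by
        rw [← L.card_mul_index, hLi]
        exact lt_mul_of_one_lt_right Nat.card_pos hp.out.one_lt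
      have hqL : IsPGroup p (L ⧸ N.subgroupOf L) := by
        refine hq.of_injective (QuotientGroup.map _ N L.subtype fun x hx => hx) ?_
        rw [injective_iff_map_eq_one]
        intro q
        induction q using QuotientGroup.induction_on with
        | H x =>
          intro hx
          exact (QuotientGroup.eq_one_iff x).2 ((QuotientGroup.eq_one_iff (N := N) (x : G)).1 hx)
      have hθ' : Cfsg.IsIrrCharacter (N.subgroupOf L) (fun n => θ (eN n)) := by
        refine isIrr_of_classInner_self (isCharacter_comp eN.toMonoidHom (isCharacter_of_isIrr hθ)) ?_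
        rw [← classInner_isIrr_self hθ]
        simp only [Cfsg.classInner]
        rw [Nat.card_congr eN.toEquiv]
        congr 1
        exact Fintype.sum_equiv eN.toEquiv _ _ fun x => rfl
      obtain ⟨ψ, hψ, hψdet, hψres, hψuniq⟩ := ih (Nat.card L) (hc ▸ hlt) (G := L) (N.subgroupOf L)
        hqL hθ' (hdet.comp eN.toMonoidHom)
        (fun g => funext fun n => by
          rw [conjBy_apply]
          exact congrFun (hinv (g : G)) (eN n))
        (by
          simp only [Cfsg.charDegree, map_one] at hdeg ⊢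
          exact hdeg) rfl
      have hψd : ¬ p ∣ Cfsg.charDegree ψ := by
        have h := hψres 1
        simp only [OneMemClass.coe_one, map_one] at h
        unfold Cfsg.charDegree at hdeg ⊢
        rwa [h]
      have hψinv : ∀ g : G, conjBy L ψ g = ψ := fun g => by
        refine hψuniq _ (hψdet.comp (MulAut.conjNormal (H := L) g).toMonoidHom) fun n => ?_
        rw [conjBy_apply]
        have := congrFun (hinv g) (eN n)
        rw [conjBy_apply] at this
        refine Eq.trans ?_ this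
        exact hψres ⟨⟨g * (n : G) * g⁻¹, hLn.conj_mem _ (n : L).2 g⟩,
          hN.conj_mem _ n.2 g⟩
      obtain ⟨χ, hχ, hχdet, hχres, hχuniq⟩ :=
        exists_canonical_index_prime L hLi hψ hψdet hψinv hψd ho
      refine ⟨χ, hχ, hχdet, fun n => ?_, fun χ' h1 h2 => hχuniq χ' h1 fun l => ?_⟩
      · exact (hχres ⟨n, hNL n.2⟩).trans (hψres ⟨⟨n, hNL n.2⟩, n.2⟩)
      · exact congrFun (hψuniq _ (h1.restrict L) fun n => h2 (eN n)) l

end CfsgLib.BlocksCharsC
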