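import Cfsg.Agent.BlocksCharsC.ElementarySixteenFusion
import Cfsg.Agent.BlockPairing.DefectOne
import Cfsg.Agent.BlocksLocal.PrincipalSection
import Cfsg.Agent.InertialQuotient.NilpotentRank
import Cfsg.Agent.S4512
import Cfsg.Agent.S4640
import Cfsg.Agent.S4646
import Cfsg.Agent.S4652

/-!
# The ranks of the principal blocks of the centralizers

With a normal 2-complement the rank is one; at an element of a plane it is three; so the principal
block has seven characters more than its rank.
-/

set_option autoImplicit false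
set_option linter.unusedSectionVars false
set_option linter.style.haveILetI false

namespace CfsgLib.BlocksCharsC.Sixteen

open Cfsg CfsgLib.Blocks CfsgLib.PrincipalBlock CfsgLib.BlockPairing

universe u

variable {G : Type u} [Group G] [Fintype G] {M : Ideal AlgInt}

theorem blockRank_complement {p : ℕ} [Fact p.Prime] (hM : Cfsg.IsPModular p M) (K : Subgroup G)
    [K.Normal] (hK : ¬ p ∣ Nat.card K) (hidx : ∃ k, K.index = p ^ k) :
    Cfsg.blockRank p (Cfsg.principalBlock M G) = 1 := by
  classical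
  haveI := IsPModular.isPrime hM
  refine le_antisymm ?_ (one_le_blockRank ⟨trivChar G, trivChar_mem⟩)
  have hreg : ∀ y : G, ¬ p ∣ orderOf y → y ∈ K := by
    intro y hy
    obtain ⟨k, hk⟩ := hidx
    rw [← QuotientGroup.eq_one_iff, ← orderOf_eq_one_iff, ← Nat.dvd_one]
    have h1 : orderOf (y : G ⧸ K) ∣ Nat.gcd (orderOf y) (p ^ k) :=
      Nat.dvd_gcd (orderOf_map_dvd (QuotientGroup.mk' K) y)
        (hk ▸ K.index_eq_card ▸ orderOf_dvd_natCard _)
    rwa [((Fact.out : p.Prime).coprime_iff_not_dvd.2 hy).pow_left k |>.symm.gcd_eq_one] at h1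
  rw [Cfsg.blockRank]
  have hsub : Submodule.span ℂ ((fun χ : IrrCharacter G => Cfsg.pRegularPart p (χ : G → ℂ)) ''
      Cfsg.principalBlock M G) ≤
      Submodule.span ℂ {Cfsg.pRegularPart p ((trivChar G : IrrCharacter G) : G → ℂ)} := by
    refine Submodule.span_le.2 ?_
    rintro _ ⟨χ, hχ, rfl⟩
    refine Submodule.mem_span_singleton.2 ⟨(χ : G → ℂ) 1, funext fun g => ?_⟩
    by_cases hg : p ∣ orderOf g
    · simp [pRegularPart_apply, hg]
    · have := mem_charKer.1 (le_charKer_of_mem hM K hK hχ (hreg g hg))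
      simp [pRegularPart_apply, hg, trivChar, this]
  refine (Submodule.finrank_mono hsub).trans ?_
  exact (finrank_span_le_card _).trans (by simp)

/-- If the rank is one, the regular elements lie in the kernel of the block. -/
theorem mem_setKer_of_rank_one {p : ℕ} [hp : Fact p.Prime] [M.IsPrime]
    (h1 : Cfsg.blockRank p (Cfsg.principalBlock M G) = 1) {g : G} (hg : ¬ p ∣ orderOf g) :
    g ∈ setKer (Cfsg.principalBlock M G) := by
  classical
  rw [mem_setKer]
  intro χ hχ
  set W := Submodule.span ℂ ((fun χ : IrrCharacter G => Cfsg.pRegularPart p (χ : G → ℂ)) ''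
    Cfsg.principalBlock M G) with hW
  have ht : Cfsg.pRegularPart p ((trivChar G : IrrCharacter G) : G → ℂ) ∈ W :=
    Submodule.subset_span ⟨_, trivChar_mem, rfl⟩
  have hχW : Cfsg.pRegularPart p (χ : G → ℂ) ∈ W := Submodule.subset_span ⟨_, hχ, rfl⟩
  have hne : (⟨_, ht⟩ : W) ≠ 0 := fun h => by
    have := congrFun (congrArg Subtype.val h) (1 : G)
    simp [pRegularPart_apply, hp.out.not_dvd_one, trivChar] at this
  obtain ⟨c, hc⟩ := (finrank_eq_one_iff_of_nonzero' _ hne).1 h1 ⟨_, hχW⟩
  have hc' := congrArg Subtype.val hc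
  have e1 := congrFun hc' (1 : G)
  have e2 := congrFun hc' g
  simp [pRegularPart_apply, hp.out.not_dvd_one, trivChar, hg] at e1 e2
  rw [← e1, ← e2]

variable {P : Sylow 2 G} {V W : Subgroup G}

/-- At an element of a plane the principal block of the centralizer has rank three. -/
theorem blockRank_plane (hM : Cfsg.IsPModular 2 M) (h : Planes P V W) {u : G} (hu : u ∈ V)
    (hu1 : u ≠ 1) :
    Cfsg.blockRank 2 (Cfsg.principalBlock M (Subgroup.centralizer ({u} : Set G))) = 3 := by
  classical
  haveI := IsPModular.isPrime hM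
  haveI : Fact (Nat.Prime 2) := ⟨Nat.prime_two⟩
  have hPH := h.le_centralizer (h.leV hu)
  set H := Subgroup.centralizer ({u} : Set G) with hH
  haveI : Fintype H := Fintype.ofFinite H
  let P' : Sylow 2 H := P.subtype hPH
  set K := Cfsg.pResidual 2 H with hK
  haveI : K.Normal := by
    rw [hK]
    infer_instance
  haveI : Fintype K := Fintype.ofFinite K
  have hinf : (P' : Subgroup H) ⊓ K = W.subgroupOf H := h.inf_pResidual hu hu1 hPH
  have hWH : W ≤ H := h.leW.trans hPH
  have hidx := CfsgLib.Transfer.exists_index_pResidual_eq_pow (p := 2) (G := H)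
  -- the Sylow subgroup of `K`
  let Q0 : Subgroup K := ((P' : Subgroup H) ⊓ K).subgroupOf K
  have hQ0 : IsPGroup 2 Q0 :=
    ((P'.isPGroup'.to_le (inf_le_left : (P' : Subgroup H) ⊓ K ≤ _))).of_equiv
      (Subgroup.subgroupOfEquivOfLe inf_le_right).symm
  let Q : Sylow 2 K := hQ0.toSylow (by
    show ¬ 2 ∣ Q0.index
    rw [show Q0.index = ((P' : Subgroup H) ⊓ K).relIndex K from rfl, Subgroup.inf_relIndex_right]
    exact CfsgLib.Transfer.not_dvd_relIndex_of_normal P' K)
  have hQmem : ∀ q : K, q ∈ (Q : Subgroup K) ↔ ((q : H) : G) ∈ W := fun q => by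
    show q ∈ ((P' : Subgroup H) ⊓ K).subgroupOf K ↔ _
    rw [hinf, Subgroup.mem_subgroupOf, Subgroup.mem_subgroupOf]
  have hQ4 : Nat.card Q = 4 := by
    show Nat.card Q0 = 4
    rw [Nat.card_congr (Subgroup.subgroupOfEquivOfLe (inf_le_right :
      (P' : Subgroup H) ⊓ K ≤ K)).toEquiv, hinf,
      Nat.card_congr (Subgroup.subgroupOfEquivOfLe hWH).toEquiv, h.cardW]
  have hexp : ∀ q : Q, q * q = 1 := fun q => by
    refine Subtype.ext (Subtype.ext (Subtype.ext ?_))
    exact h.sq _ (h.leW ((hQmem _).1 q.2))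
  have hone : ∀ s t : K, orderOf s = 2 → orderOf t = 2 → IsConj s t := by
    have hsyl : ∀ s : K, orderOf s = 2 → ∃ s' : K, IsConj s s' ∧ ((s' : H) : G) ∈ W ∧
        ((s' : H) : G) ≠ 1 := by
      intro s hs
      have hp : IsPGroup 2 (Subgroup.zpowers s) :=
        IsPGroup.of_card (n := 1) (by rw [Nat.card_zpowers, hs, pow_one])
      obtain ⟨R, hR⟩ := hp.exists_le_sylow
      obtain ⟨c, hc⟩ := MulAction.exists_smul_eq K R Q
      refine ⟨c * s * c⁻¹, isConj_iff.2 ⟨c, rfl⟩, (hQmem _).1 ?_, fun e => ?_⟩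
      · rw [← hc]
        exact ⟨s, hR (Subgroup.mem_zpowers s), rfl⟩
      · have : c * s * c⁻¹ = 1 := Subtype.ext (Subtype.ext e)
        rw [conj_eq_one_iff] at this
        rw [this, orderOf_one] at hs
        omega
    intro s t hs ht
    obtain ⟨s', hss, hsW, hs1⟩ := hsyl s hs
    obtain ⟨t', htt, htW, ht1⟩ := hsyl t ht
    refine hss.trans (IsConj.trans ?_ htt.symm)
    obtain ⟨n, -, hfix, hnst⟩ := h.trW _ hsW hs1 _ htW ht1
    have hnH : n ∈ H := Subgroup.mem_centralizer_singleton_iff.2 (mul_inv_eq_iff_eq_mul.1 (hfix u hu))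
    have htop := CfsgLib.Transfer.sylow_sup_pResidual P'
    obtain ⟨a, ha, k, hk, hak⟩ : ∃ a ∈ (P' : Subgroup H), ∃ k ∈ K, a * k = ⟨n, hnH⟩ := by
      have : (⟨n, hnH⟩ : H) ∈ (P' : Subgroup H) ⊔ K := by rw [htop]; trivial
      exact Subgroup.mem_sup_of_normal_right.1 this
    refine isConj_iff.2 ⟨⟨k, hk⟩, Subtype.ext (Subtype.ext ?_)⟩
    show (k : G) * ((s' : H) : G) * (k : G)⁻¹ = ((t' : H) : G)
    have e : (k : G) = (a : G)⁻¹ * n := by
      rw [eq_inv_mul_iff_mul_eq]; exact congrArg Subtype.val hak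
    have haP : (a : G) ∈ (P : Subgroup G) := ha
    rw [e, show (a : G)⁻¹ * n * ((s' : H) : G) * ((a : G)⁻¹ * n)⁻¹ =
      (a : G)⁻¹ * (n * ((s' : H) : G) * n⁻¹) * a by group, hnst, mul_assoc,
      h.mul_comm_mem (h.leW htW) haP, inv_mul_cancel_left]
  have hb : Cfsg.IsPBlock M (Cfsg.principalBlock M K) := isPBlock_principalBlock
  have h40 := Cfsg.Agent.S4640.result 2 M hM K hidx (Cfsg.principalBlock M K) hb
    (fun g => Cfsg.Agent.S4646.stabilizesBlock_principal K
      (Subgroup.normalizer_eq_top_iff.2 ‹K.Normal› ▸ Subgroup.mem_top g))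
    (Cfsg.principalBlock M H) isPBlock_principalBlock
    ⟨trivChar H, trivChar_mem, trivChar K, trivChar_mem, by
      have : Cfsg.classInner (fun n : K => ((trivChar H : IrrCharacter H) : H → ℂ) n)
          ((trivChar K : IrrCharacter K) : K → ℂ) = 1 :=
        CfsgLib.Characters.classInner_isIrr_self (trivChar K).2
      rw [this]
      exact one_ne_zero⟩
    (P' : Subgroup H) ((Cfsg.Agent.S4652.result 2 M hM _).2 ⟨P', rfl⟩)
    (fun x hx y hy => Subtype.ext (h.mul_comm_mem hx hy))
  rw [h40.2.2.2.2.2]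
  exact Cfsg.Agent.S4512.result M hM Q hQ4 hexp hone

open Classical in
/-- The principal block has seven characters more than its rank. -/
theorem card_eq_rank_add (hM : Cfsg.IsPModular 2 M) (h : Planes P V W) :
    Nat.card (Cfsg.principalBlock M G) = Cfsg.blockRank 2 (Cfsg.principalBlock M G) + 7 := by
  haveI := IsPModular.isPrime hM
  haveI : Fact (Nat.Prime 2) := ⟨Nat.prime_two⟩
  obtain ⟨u, hu, hu1⟩ := h.exists_mem_ne_one
  obtain ⟨w, hw, hw1⟩ := h.swap.exists_mem_ne_one
  have huP := h.leV hu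
  have hwP := h.leW hw
  have huwP := mul_mem huP hwP
  have huW : u ∉ W := fun hm => hu1 (h.eq_one_of_mem hu hm)
  have hwV : w ∉ V := fun hm => hw1 (h.eq_one_of_mem hm hw)
  have n1 : (1 : G) ∉ ({u, w, u * w} : Finset G) := by
    simp only [Finset.mem_insert, Finset.mem_singleton, not_or]
    exact ⟨Ne.symm hu1, Ne.symm hw1, fun e => hwV (by
      rw [eq_inv_of_mul_eq_one_right e.symm]; exact inv_mem hu)⟩
  have n2 : u ∉ ({w, u * w} : Finset G) := by
    simp only [Finset.mem_insert, Finset.mem_singleton, not_or]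
    exact ⟨fun e => huW (e ▸ hw), fun e => hw1 (left_eq_mul.1 e)⟩
  have n3 : w ∉ ({u * w} : Finset G) := by
    simp only [Finset.mem_singleton]
    exact fun e => hu1 (right_eq_mul.1 e)
  set X : Finset G := {1, u, w, u * w} with hX
  have hXP : ∀ x ∈ X, x ∈ (P : Subgroup G) := fun x hx => by
    simp only [hX, Finset.mem_insert, Finset.mem_singleton] at hx
    rcases hx with rfl | rfl | rfl | rfl
    exacts [one_mem _, huP, hwP, huwP]
  -- representatives are not conjugate
  have hsep : ∀ x ∈ X, ∀ y ∈ X, IsConj x y → x = y := by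
    intro x hx y hy hc
    have hV := h.mem_iff_of_conj (hXP x hx) (hXP y hy) hc
    have hW := h.swap.mem_iff_of_conj (hXP x hx) (hXP y hy) hc
    have huwV : u * w ∉ V := h.mul_not_mem' hu hw hw1
    have huwW : u * w ∉ W := h.mul_not_mem hu hw hu1
    simp only [hX, Finset.mem_insert, Finset.mem_singleton] at hx hy
    rcases hx with rfl | rfl | rfl | rfl <;> rcases hy with rfl | rfl | rfl | rfl <;>
      simp [one_mem, hu, hw, huW, hwV, huwV, huwW] at hV hW ⊢
  have hrep : ∀ g : G, (∃ k : ℕ, orderOf g = 2 ^ k) → ∃! x, x ∈ X ∧ IsConj g x := by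
    intro g hg
    obtain ⟨y, hy, hgy⟩ := h.exists_conj_mem hg
    obtain ⟨x, hx, hyx⟩ : ∃ x ∈ X, IsConj y x := by
      rcases h.classify hu hu1 hw hw1 hy with e | e | e | e <;>
        exact ⟨_, by simp [hX], e⟩
    exact ⟨x, ⟨hx, hgy.trans hyx⟩, fun x' hx' =>
      hsep x' hx'.1 x hx (hx'.2.symm.trans (hgy.trans hyx))⟩
  have hcount := card_block_eq_sum hM isPBlock_principalBlock X
    (fun x hx => h.exists_pow_two (hXP x hx)) hrep
  have hsec : ∀ x ∈ (P : Subgroup G),
      ∑ᶠ b ∈ {b : Set (IrrCharacter (Subgroup.centralizer ({x} : Set G))) |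
        Cfsg.IsInducedBlock M (Subgroup.centralizer ({x} : Set G)) b (Cfsg.principalBlock M G)},
        Cfsg.blockRank 2 b =
      Cfsg.blockRank 2 (Cfsg.principalBlock M (Subgroup.centralizer ({x} : Set G))) := by
    intro x hx
    haveI := Fintype.ofFinite (Subgroup.centralizer ({x} : Set G))
    have hset : {b : Set (IrrCharacter (Subgroup.centralizer ({x} : Set G))) |
        Cfsg.IsInducedBlock M (Subgroup.centralizer ({x} : Set G)) b (Cfsg.principalBlock M G)} =
        {Cfsg.principalBlock M (Subgroup.centralizer ({x} : Set G))} := by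
      refine Set.eq_singleton_iff_unique_mem.2 ⟨?_, fun b hb => ?_⟩
      · obtain ⟨B', hB'⟩ := induced_setup hM (h.exists_pow_two hx)
          (trivChar (Subgroup.centralizer ({x} : Set G)))
        have e : Cfsg.blockOf M ((trivChar (Subgroup.centralizer ({x} : Set G)) :
            IrrCharacter (Subgroup.centralizer ({x} : Set G))) : _ → ℂ) =
            Cfsg.principalBlock M (Subgroup.centralizer ({x} : Set G)) :=
          (principalBlock_eq (G := Subgroup.centralizer ({x} : Set G))).symm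
        exact (CfsgLib.BlocksLocal.isInducedBlock_principal_iff hM ⟨B', e ▸ hB'⟩).2 rfl
      · exact (CfsgLib.BlocksLocal.isInducedBlock_principal_iff hM ⟨_, hb⟩).1 hb
    rw [hset, finsum_mem_singleton]
  obtain ⟨K, hKn, hKodd, hKidx⟩ := h.exists_complement hu hu1 hw hw1
  haveI := hKn
  haveI := Fintype.ofFinite (Subgroup.centralizer ({u * w} : Set G))
  rw [hX, Finset.sum_insert n1, Finset.sum_insert n2, Finset.sum_insert n3, Finset.sum_singleton,
    CfsgLib.InertialQuotient.sum_blockRank_one hM isPBlock_principalBlock, hsec u huP, hsec w hwP,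
    hsec (u * w) huwP, blockRank_plane hM h hu hu1, blockRank_plane hM h.swap hw hw1,
    blockRank_complement hM K hKodd ⟨4, by rw [hKidx]; norm_num⟩] at hcount
  exact hcount

end CfsgLib.BlocksCharsC.Sixteen
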