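import Cfsg.Agent.BlocksCharsC.ElementarySixteenFusion
import Cfsg.Agent.Star.Star
import Cfsg.Agent.BlockPairs.SubsectionNorm
import Cfsg.Agent.BlocksCharsC.SubsectionMajor
import Cfsg.Agent.BlocksLocal.PrincipalSection

/-!
# The signs of a plane and the principal block

`sgn P W` is `2` on the elements whose 2-part fuses into `W` and `-2` elsewhere: a generalized
character, and multiplication by it maps the principal block to itself.
-/

set_option autoImplicit false
set_option linter.unusedSectionVars false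
set_option linter.style.haveILetI false

namespace CfsgLib.BlocksCharsC.Sixteen

open Cfsg CfsgLib.Blocks CfsgLib.PrincipalBlock CfsgLib.BlockPairing
open scoped ComplexConjugate

universe u

variable {G : Type u} [Group G] [Fintype G] [Fact (Nat.Prime 2)] {M : Ideal AlgInt}

open Classical in
/-- `2` when the 2-part fuses into `W`, `-2` otherwise. -/
noncomputable def sgn (W : Subgroup G) (g : G) : ℂ :=
  if ∃ c : G, c * Star.pPart 2 g * c⁻¹ ∈ W then 2 else -2

theorem sgn_mul_self (W : Subgroup G) (g : G) : sgn W g * sgn W g = 4 := by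
  rw [sgn]; split_ifs <;> norm_num

theorem conj_sgn (W : Subgroup G) (g : G) : conj (sgn W g) = sgn W g := by
  rw [sgn]; split_ifs <;> simp [Complex.conj_ofNat]

theorem isClassFunction_sgn (W : Subgroup G) : Cfsg.IsClassFunction G (sgn W) := by
  intro g t
  have : (∃ c : G, c * Star.pPart 2 (t * g * t⁻¹) * c⁻¹ ∈ W) ↔
      ∃ c : G, c * Star.pPart 2 g * c⁻¹ ∈ W := by
    rw [Star.pPart_conj]
    constructor
    · rintro ⟨c, hc⟩
      exact ⟨c * t, by simpa [mul_assoc] using hc⟩
    · rintro ⟨c, hc⟩
      exact ⟨c * t⁻¹, by simpa [mul_assoc] using hc⟩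
  simp only [sgn]
  split_ifs <;> simp_all

theorem sgn_section (W : Subgroup G) {x : G} (hx : ∃ k, orderOf x = 2 ^ k)
    {s : Subgroup.centralizer ({x} : Set G)} (hs : ¬ 2 ∣ orderOf s) :
    sgn W (x * (s : G)) = sgn W x := by
  rw [sgn, sgn, Star.pPart_mul_regular hx hs, Star.pPart_of_pElement hx]

variable {P : Sylow 2 G} {V W : Subgroup G}

open Classical in
theorem sgn_eq (h : Planes P V W) {g : G} {x : G} (hx : x ∈ (P : Subgroup G))
    (hc : IsConj (Star.pPart 2 g) x) : sgn W g = if x ∈ W then 2 else -2 := by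
  have : (∃ c : G, c * Star.pPart 2 g * c⁻¹ ∈ W) ↔ x ∈ W := by
    constructor
    · rintro ⟨c, hm⟩
      exact (h.swap.mem_iff_of_conj (h.leW hm) hx
        ((isConj_iff.2 ⟨c, rfl⟩ : IsConj (Star.pPart 2 g) _).symm.trans hc)).1 hm
    · intro hm
      obtain ⟨c, e⟩ := isConj_iff.1 hc
      exact ⟨c, e ▸ hm⟩
  simp only [sgn]
  split_ifs <;> simp_all

open Classical in
theorem isGen_sgn (h : Planes P V W) : Cfsg.IsGeneralizedCharacter G (sgn W) := by
  refine Characters.isGen_of_elementary (isClassFunction_sgn W) fun E q hq hE => ?_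
  haveI : Fact q.Prime := ⟨hq⟩
  obtain ⟨Q, S, hsp⟩ := Star.exists_split (p := 2) (Star.isNilpotent_of_isElementary hE)
  obtain ⟨R, hR⟩ := hsp.isP.exists_le_sylow
  obtain ⟨c, hc⟩ := MulAction.exists_smul_eq G R P
  have hQP : ∀ x ∈ Q, c * x * c⁻¹ ∈ (P : Subgroup G) := fun x hx => by
    rw [← hc]
    exact ⟨x, hR hx, rfl⟩
  let φ : Q →* (P : Subgroup G) :=
    { toFun := fun x => ⟨c * x * c⁻¹, hQP x x.2⟩
      map_one' := Subtype.ext (by simp)
      map_mul' := fun a b => Subtype.ext (by simp [mul_assoc]) }
  -- the function on `P`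
  let f : ↥(P : Subgroup G) → ℂ := fun x => if (x : G) ∈ W then 2 else -2
  have hf : Cfsg.IsGeneralizedCharacter (P : Subgroup G) f := by
    haveI : Fintype (P : Subgroup G) := Fintype.ofFinite _
    set W' := W.subgroupOf (P : Subgroup G) with hW'
    have h1 := Characters.isGen_sub
      (Characters.isGen_indFun W' (Characters.isGen_one (G := W')))
      (Characters.isGen_zsmul (Characters.isGen_one (G := (P : Subgroup G))) 2)
    convert h1 using 1
    funext x
    have hWcard : Nat.card W' = 4 := by
      rw [Nat.card_congr (Subgroup.subgroupOfEquivOfLe h.leW).toEquiv, h.cardW]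
    simp only [Pi.sub_apply, Pi.smul_apply, smul_eq_mul, f, Cfsg.indFun]
    rw [Finset.sum_congr rfl (g := fun _ => if (x : G) ∈ W then (1 : ℂ) else 0) fun y _ => ?_,
      Finset.sum_const, Finset.card_univ, ← Nat.card_eq_fintype_card, hWcard, nsmul_eq_mul,
      h.cardP]
    · split_ifs <;> norm_num
    · have e : y⁻¹ * x * y = x := by
        rw [mul_assoc, show x * y = y * x from Subtype.ext (h.mul_comm_mem x.2 y.2),
          inv_mul_cancel_left]
      rw [e]
      by_cases hx : (x : G) ∈ W
      · rw [if_pos hx, Characters.extendByZero_of_mem W' _ (show x ∈ W' from hx)]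
      · rw [if_neg hx, Cfsg.extendByZero, Function.extend_apply' _ _ _ (by
          rintro ⟨a, rfl⟩
          exact hx a.2), Pi.zero_apply]
  have h2 := Characters.isGen_comp (φ.comp hsp.proj) hf
  convert h2 using 1
  funext e
  have he : IsConj (Star.pPart 2 (e : G)) (c * Star.pPart 2 (e : G) * c⁻¹) :=
    isConj_iff.2 ⟨c, rfl⟩
  exact sgn_eq h (hQP _ (hsp.pPart_mem e.2)) he

variable [M.IsPrime]

/-- Translates by one 2-element of characters inside and outside the principal block are
orthogonal on the regular elements of the centralizer. -/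
theorem regInner_translate_eq_zero (hM : Cfsg.IsPModular 2 M) {x : G}
    (hx : ∃ k, orderOf x = 2 ^ k) [Fintype (Subgroup.centralizer ({x} : Set G))]
    {χ ψ : IrrCharacter G} (hχ : χ ∈ Cfsg.principalBlock M G)
    (hψ : ψ ∉ Cfsg.principalBlock M G) :
    regInner 2 (fun c : Subgroup.centralizer ({x} : Set G) => (χ : G → ℂ) (x * (c : G)))
      (fun c : Subgroup.centralizer ({x} : Set G) => (ψ : G → ℂ) (x * (c : G))) = 0 := by
  classical
  let H := Subgroup.centralizer ({x} : Set G)
  set b := Cfsg.principalBlock M H with hb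
  set fχ : H → ℂ := fun c => (χ : G → ℂ) (x * (c : G))
  set fψ : H → ℂ := fun c => (ψ : G → ℂ) (x * (c : G))
  have h1 : ∀ η : IrrCharacter H, η ∈ b → regInner 2 (η : H → ℂ) fψ = 0 := fun η hη => by
    rw [← regInner_conj]
    rw [SubsectionNorm.regInner_eq_zero_of_blockPart hM isPBlock_principalBlock
      (isClassFunction_translate _ (Characters.isClassFunction_of_isIrr ψ.2) x) (fun s hs => by
        rw [BlocksLocal.blockPart_principal_translate hM hx ψ hs, if_neg hψ]) hη, map_zero]
  have h2 : regInner 2 fχ fψ = regInner 2 (Cfsg.blockPart b fχ) fψ :=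
    regInner_congr_left _ fun s hs => by
      rw [hb, BlocksLocal.blockPart_principal_translate hM hx χ hs, if_pos hχ]
  rw [h2, show Cfsg.blockPart b fχ = fun h => ∑ η : IrrCharacter H,
      (if η ∈ b then Cfsg.classInner fχ η else 0) * (η : H → ℂ) h from funext fun h => by
        rw [Cfsg.blockPart, finsum_irr_mem,
          show Fintype.ofFinite H = ‹Fintype H› from Subsingleton.elim _ _]
        exact Finset.sum_congr rfl fun η _ => by split_ifs <;> simp,
    CfsgLib.BlocksCharsC.regInner_sum_left]
  refine Finset.sum_eq_zero fun η _ => ?_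
  split_ifs with hη
  · rw [h1 η hη, mul_zero]
  · rw [zero_mul]

/-- Multiplying by a sign function keeps the principal block. -/
theorem classInner_sgn_eq_zero (hM : Cfsg.IsPModular 2 M) (W : Subgroup G)
    {χ ψ : IrrCharacter G} (hχ : χ ∈ Cfsg.principalBlock M G)
    (hψ : ψ ∉ Cfsg.principalBlock M G) :
    Cfsg.classInner (fun g => sgn W g * (χ : G → ℂ) g) (ψ : G → ℂ) = 0 := by
  classical
  rw [Cfsg.classInner, Star.sum_eq_sum_sections' (p := 2)]
  refine mul_eq_zero_of_right _ (Finset.sum_eq_zero fun x _ => ?_)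
  split_ifs with hx
  · have h := regInner_translate_eq_zero hM hx hχ hψ
    rw [regInner, mul_eq_zero] at h
    have h' := h.resolve_left (inv_ne_zero (Nat.cast_ne_zero.2 Nat.card_pos.ne'))
    refine Eq.trans ?_ ((congrArg (sgn W x * ·) h').trans (mul_zero _))
    simp only [Finset.mul_sum]
    refine Finset.sum_congr rfl fun s _ => ?_
    by_cases hs : 2 ∣ orderOf s
    · rw [if_pos hs, if_pos hs, mul_zero]
    · rw [if_neg hs, if_neg hs, sgn_section W hx hs]
      ring
  · rfl

end CfsgLib.BlocksCharsC.Sixteen
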