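import Cfsg.Agent.BlocksCharsC.ElementarySixteenMatrix
import Cfsg.Agent.BlocksCharsC.ElementarySixteenRanks
import Cfsg.Agent.BlocksCharsC.ElementarySixteenStable

/-!
# The principal block for an elementary abelian Sylow 2-subgroup of order sixteen, inertial index nine

The signs of the two planes give symmetric integer operators of square four on the principal block;
the values at an element outside both planes are a common eigencolumn, of norm sixteen.
-/

set_option autoImplicit false
set_option linter.unusedSectionVars false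
set_option linter.style.haveILetI false
set_option maxHeartbeats 1600000

namespace CfsgLib.BlocksCharsC.Sixteen

open Cfsg CfsgLib.Blocks CfsgLib.PrincipalBlock CfsgLib.BlockPairing
open scoped ComplexConjugate

universe u

variable {G : Type u} [Group G] [Fintype G] [Fact (Nat.Prime 2)] {M : Ideal AlgInt} [M.IsPrime]
  {P : Sylow 2 G} {V W : Subgroup G}

theorem classInner_real (f : G → ℂ) (hf : ∀ g, conj (f g) = f g) (χ ψ : G → ℂ) :
    Cfsg.classInner (fun g => f g * χ g) ψ = Cfsg.classInner χ (fun g => f g * ψ g) := by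
  simp only [Cfsg.classInner]
  congr 1
  exact Finset.sum_congr rfl fun g _ => by rw [map_mul, hf]; ring

open Classical in
/-- The operator of one plane on the principal block. -/
theorem exists_operator (hM : Cfsg.IsPModular 2 M) (h : Planes P V W) :
    ∃ R : Cfsg.principalBlock M G → Cfsg.principalBlock M G → ℤ,
      (∀ χ ψ, (R χ ψ : ℂ) =
        Cfsg.classInner (fun g => sgn W g * (χ.1 : G → ℂ) g) (ψ.1 : G → ℂ)) ∧
      (∀ χ ψ, R χ ψ = R ψ χ) ∧
      (∀ χ ψ, ∑ η, R χ η * R η ψ = if χ = ψ then 4 else 0) ∧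
      (∀ χ g, ∑ η : Cfsg.principalBlock M G, (R χ η : ℂ) * (η.1 : G → ℂ) g =
        sgn W g * (χ.1 : G → ℂ) g) := by
  set B := Cfsg.principalBlock M G with hB
  have hgen : ∀ χ : B, Cfsg.IsGeneralizedCharacter G (fun g => sgn W g * (χ.1 : G → ℂ) g) :=
    fun χ => Characters.isGen_mul (isGen_sgn h) (Characters.isGen_of_isIrr χ.1.2)
  choose R hR using fun χ ψ : B =>
    Characters.classInner_gen (hgen χ) (Characters.isGen_of_isIrr ψ.1.2)
  have hsym : ∀ χ ψ, R χ ψ = R ψ χ := by
    intro χ ψ
    apply Int.cast_injective (α := ℂ)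
    have e := Characters.classInner_conj_symm (fun g => sgn W g * (ψ.1 : G → ℂ) g) (χ.1 : G → ℂ)
    rw [← classInner_real _ (conj_sgn W), hR ψ χ, map_intCast] at e
    exact (hR χ ψ).symm.trans e
  have hexp : ∀ (χ : B) (g : G), ∑ η : B, (R χ η : ℂ) * (η.1 : G → ℂ) g =
      sgn W g * (χ.1 : G → ℂ) g := by
    intro χ g
    have e := congrFun (Characters.classFunction_expansion
      (Characters.isClassFunction_of_isGen (hgen χ))) g
    simp only [Finset.sum_apply, Pi.smul_apply, smul_eq_mul] at e
    rw [e, ← Finset.sum_subset (Finset.subset_univ B.toFinset) fun η _ hη => by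
      rw [classInner_sgn_eq_zero hM W χ.2 (fun hm => hη (Set.mem_toFinset.2 hm)), zero_mul],
      Finset.sum_subtype B.toFinset (p := fun η => η ∈ B) (fun η => Set.mem_toFinset)]
    exact Finset.sum_congr rfl fun η _ => by rw [hR]
  refine ⟨R, fun χ ψ => (hR χ ψ).symm, hsym, fun χ ψ => ?_, hexp⟩
  apply Int.cast_injective (α := ℂ)
  have e1 : Cfsg.classInner (fun g => sgn W g * (χ.1 : G → ℂ) g)
      (fun g => sgn W g * (ψ.1 : G → ℂ) g) = if χ = ψ then 4 else 0 := by
    rw [show Cfsg.classInner (fun g => sgn W g * (χ.1 : G → ℂ) g)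
      (fun g => sgn W g * (ψ.1 : G → ℂ) g) = 4 * Cfsg.classInner (χ.1 : G → ℂ) (ψ.1 : G → ℂ) from ?_,
      Characters.classInner_irr]
    · simp only [Subtype.ext_iff, mul_ite, mul_one, mul_zero]
    · simp only [Cfsg.classInner, Finset.mul_sum]
      exact Finset.sum_congr rfl fun g _ => by
        rw [map_mul, conj_sgn, ← sgn_mul_self W g]; ring
  have e2 : Cfsg.classInner (fun g => sgn W g * (χ.1 : G → ℂ) g)
      (fun g => sgn W g * (ψ.1 : G → ℂ) g) = ∑ η : B, (R χ η : ℂ) * (R η ψ : ℂ) := by
    have ef : (fun g => sgn W g * (χ.1 : G → ℂ) g) =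
        fun g => ∑ η : B, (R χ η : ℂ) * (η.1 : G → ℂ) g := funext fun g => (hexp χ g).symm
    conv_lhs => rw [ef]
    have : Cfsg.classInner (fun g => ∑ η : B, (R χ η : ℂ) * (η.1 : G → ℂ) g)
        (fun g => sgn W g * (ψ.1 : G → ℂ) g) = ∑ η : B, (R χ η : ℂ) *
          Cfsg.classInner (η.1 : G → ℂ) (fun g => sgn W g * (ψ.1 : G → ℂ) g) := by
      simp only [Cfsg.classInner, Finset.sum_mul, Finset.mul_sum]
      rw [Finset.sum_comm]
      exact Finset.sum_congr rfl fun η _ => Finset.sum_congr rfl fun g _ => by ring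
    rw [this]
    exact Finset.sum_congr rfl fun η _ => by rw [← classInner_real _ (conj_sgn W), hR]
  push_cast
  rw [← e2, e1]

/-- A principal block character is constant on the section of an element outside both planes. -/
theorem value_section (hM : Cfsg.IsPModular 2 M) {x : G} (hx : ∃ k, orderOf x = 2 ^ k)
    [Fintype (Subgroup.centralizer ({x} : Set G))]
    (K : Subgroup (Subgroup.centralizer ({x} : Set G))) [K.Normal] (hK : ¬ 2 ∣ Nat.card K)
    (hreg : ∀ s : Subgroup.centralizer ({x} : Set G), ¬ 2 ∣ orderOf s → s ∈ K)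
    {χ : IrrCharacter G} (hχ : χ ∈ Cfsg.principalBlock M G)
    {s : Subgroup.centralizer ({x} : Set G)} (hs : ¬ 2 ∣ orderOf s) :
    (χ : G → ℂ) (x * (s : G)) = (χ : G → ℂ) x := by
  classical
  have key : ∀ t : Subgroup.centralizer ({x} : Set G), ¬ 2 ∣ orderOf t →
      (χ : G → ℂ) (x * (t : G)) = ∑ η : IrrCharacter (Subgroup.centralizer ({x} : Set G)),
        if η ∈ Cfsg.principalBlock M (Subgroup.centralizer ({x} : Set G)) then
          Cfsg.classInner (fun c : Subgroup.centralizer ({x} : Set G) => (χ : G → ℂ) (x * (c : G)))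
            (η : _ → ℂ) * (η : Subgroup.centralizer ({x} : Set G) → ℂ) 1 else 0 := by
    intro t ht
    have h1 := BlocksLocal.blockPart_principal_translate hM hx χ ht
    rw [if_pos hχ, Cfsg.blockPart, finsum_irr_mem] at h1
    rw [← h1, show Fintype.ofFinite (Subgroup.centralizer ({x} : Set G)) =
      (inferInstance : Fintype (Subgroup.centralizer ({x} : Set G))) from Subsingleton.elim _ _]
    refine Finset.sum_congr rfl fun η _ => ?_
    split_ifs with hη
    · rw [mem_charKer.1 (le_charKer_of_mem hM K hK hη (hreg t ht))]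
    · rfl
  rw [key s hs, ← key 1 (by simp), OneMemClass.coe_one, mul_one]

theorem blockDefect_principal_eq {H : Type u} [Group H] [Fintype H]
    (hv : (Nat.card H).factorization 2 = 4) :
    Cfsg.blockDefect 2 (Cfsg.principalBlock M H) = 4 := by
  have h2 := factorization_sub_le_blockDefect (p := 2)
    (trivChar_mem : trivChar H ∈ Cfsg.principalBlock M H)
  have h4 : Cfsg.blockDefect 2 (Cfsg.principalBlock M H) ≤ (Nat.card H).factorization 2 :=
    Nat.sub_le _ _
  have hdeg : Cfsg.charDegree ((trivChar H : IrrCharacter H) : H → ℂ) = 1 := by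
    simp [Cfsg.charDegree, trivChar]
  rw [hdeg, Nat.factorization_one, Finsupp.zero_apply, Nat.sub_zero] at h2
  omega

open Classical in
theorem principal_invariants (hM : Cfsg.IsPModular 2 M) (h : Planes P V W)
    (hidx : (Subgroup.centralizer ((P : Subgroup G) : Set G)).relIndex
      (Subgroup.normalizer ((P : Subgroup G) : Set G)) = 9) :
    Nat.card (Cfsg.principalBlock M G) = 16 ∧
      Cfsg.blockRank 2 (Cfsg.principalBlock M G) = 9 := by
  set B := Cfsg.principalBlock M G with hB
  have hcount := card_eq_rank_add hM h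
  rw [← hB] at hcount
  have hl : 1 ≤ Cfsg.blockRank 2 B := one_le_blockRank ⟨trivChar G, trivChar_mem⟩
  obtain ⟨a, ha, ha1⟩ := h.exists_mem_ne_one
  obtain ⟨b, hb, hb1⟩ := h.swap.exists_mem_ne_one
  set x := a * b with hxdef
  have hxP : x ∈ (P : Subgroup G) := mul_mem (h.leV ha) (h.leW hb)
  have hx2 := h.exists_pow_two hxP
  have hxV : x ∉ V := h.mul_not_mem' ha hb hb1
  have hxW : x ∉ W := h.mul_not_mem ha hb ha1
  haveI : Fintype (Subgroup.centralizer ({x} : Set G)) := Fintype.ofFinite _
  obtain ⟨K, hKn, hKodd, hKidx⟩ := h.exists_complement ha ha1 hb hb1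
  haveI := hKn
  have hreg : ∀ s : Subgroup.centralizer ({x} : Set G), ¬ 2 ∣ orderOf s → s ∈ K := by
    intro s hs
    rw [← QuotientGroup.eq_one_iff, ← orderOf_eq_one_iff]
    have h1 : orderOf (s : Subgroup.centralizer ({x} : Set G) ⧸ K) ∣ orderOf s :=
      orderOf_map_dvd (QuotientGroup.mk' K) s
    have h2 : orderOf (s : Subgroup.centralizer ({x} : Set G) ⧸ K) ∣ 2 ^ 4 := by
      rw [show (2 : ℕ) ^ 4 = 16 by norm_num, ← hKidx, Subgroup.index_eq_card]
      exact orderOf_dvd_natCard _
    exact Nat.Coprime.eq_one_of_dvd (Nat.Coprime.coprime_dvd_left h1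
      (Nat.Coprime.pow_right _ (Nat.coprime_comm.1 ((Nat.prime_two.coprime_iff_not_dvd).2 hs)))) h2
  have hKmem : ∀ s : Subgroup.centralizer ({x} : Set G), s ∈ K ↔ ¬ 2 ∣ orderOf s := fun s =>
    ⟨fun hs hd => hKodd (hd.trans (Subgroup.orderOf_dvd_natCard K hs)), hreg s⟩
  choose dd hdd using fun χ : IrrCharacter G => Cfsg.Agent.S4512.int_value χ x (h.sq x hxP)
  let d : B → ℤ := fun χ => dd χ.1
  have hd : ∀ χ : B, (χ.1 : G → ℂ) x = (d χ : ℂ) := fun χ => hdd χ.1
  obtain ⟨R, hR, hRsym, hRsq, hRexp⟩ := exists_operator hM h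
  obtain ⟨R', hR', hR'sym, hR'sq, hR'exp⟩ := exists_operator hM h.swap
  have hsgn : ∀ (V W : Subgroup G), Planes P V W → x ∉ W → sgn W x = -2 := fun V W hp hn => by
    rw [sgn_eq hp hxP (by rw [Star.pPart_of_pElement hx2])]
    simp [hn]
  have hRd : ∀ χ, ∑ η, R χ η * d η = -2 * d χ := fun χ => by
    apply Int.cast_injective (α := ℂ)
    push_cast
    simp only [← hd]
    rw [hRexp χ x, hsgn V W h hxW]
  have hR'd : ∀ χ, ∑ η, R' χ η * d η = -2 * d χ := fun χ => by
    apply Int.cast_injective (α := ℂ)
    push_cast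
    simp only [← hd]
    rw [hR'exp χ x, hsgn W V h.swap hxV]
  -- the product
  have hK16 : (Nat.card (Subgroup.centralizer ({x} : Set G)) : ℂ) = 16 * Nat.card K := by
    rw [← K.index_mul_card, hKidx]; push_cast; rfl
  have hsect : ∀ χ ψ : B, ∀ z : G, IsConj x z →
      ∑ s : Subgroup.centralizer ({z} : Set G), (if 2 ∣ orderOf s then 0 else
        (2 - sgn W (z * (s : G))) * (χ.1 : G → ℂ) (z * (s : G)) *
          conj ((2 - sgn V (z * (s : G))) * (ψ.1 : G → ℂ) (z * (s : G)))) =
        16 * (Nat.card K : ℂ) * (d χ : ℂ) * (d ψ : ℂ) := by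
    intro χ ψ z hz
    obtain ⟨c, rfl⟩ := isConj_iff.1 hz
    let e : Subgroup.centralizer ({x} : Set G) ≃* Subgroup.centralizer ({c * x * c⁻¹} : Set G) :=
      { toFun := fun s => ⟨c * s * c⁻¹, Subgroup.mem_centralizer_singleton_iff.2 (by
          have := Subgroup.mem_centralizer_singleton_iff.1 s.2
          calc c * s * c⁻¹ * (c * x * c⁻¹) = c * ((s : G) * x) * c⁻¹ := by group
            _ = c * (x * s) * c⁻¹ := by rw [this]
            _ = _ := by group)⟩
        invFun := fun s => ⟨c⁻¹ * s * c, Subgroup.mem_centralizer_singleton_iff.2 (by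
          have := Subgroup.mem_centralizer_singleton_iff.1 s.2
          calc c⁻¹ * s * c * x = c⁻¹ * ((s : G) * (c * x * c⁻¹)) * c := by group
            _ = c⁻¹ * ((c * x * c⁻¹) * s) * c := by rw [this]
            _ = _ := by group)⟩
        left_inv := fun s => Subtype.ext (by simp [mul_assoc])
        right_inv := fun s => Subtype.ext (by simp [mul_assoc])
        map_mul' := fun s t => Subtype.ext (by simp [mul_assoc]) }
    rw [← e.toEquiv.sum_comp, ← Finset.sum_congr rfl (g := fun s : Subgroup.centralizer ({x} : Set G)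
      => _) fun s _ => rfl]
    rw [Finset.sum_congr rfl (g := fun s : Subgroup.centralizer ({x} : Set G) =>
      if s ∈ K then 16 * (d χ : ℂ) * (d ψ : ℂ) else 0) fun s _ => ?_, ← Finset.sum_filter,
      Finset.sum_const, nsmul_eq_mul, ← Fintype.card_subtype, ← Nat.card_eq_fintype_card]
    · ring
    · show (if 2 ∣ orderOf (e s) then 0 else _) = _
      rw [MulEquiv.orderOf_eq]
      by_cases hs : 2 ∣ orderOf s
      · rw [if_pos hs, if_neg fun hm => (hKmem s).1 hm hs]
      · rw [if_neg hs, if_pos ((hKmem s).2 hs)]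
        have e1 : c * x * c⁻¹ * ((e.toEquiv s : Subgroup.centralizer ({c * x * c⁻¹} : Set G)) : G) =
            c * (x * (s : G)) * c⁻¹ := by
          show c * x * c⁻¹ * (c * s * c⁻¹) = _
          group
        show (2 - sgn W (c * x * c⁻¹ * _)) * _ * _ = _
        rw [e1, isClassFunction_sgn W, isClassFunction_sgn V,
          Characters.isClassFunction_of_isIrr χ.1.2, Characters.isClassFunction_of_isIrr ψ.1.2,
          sgn_section W hx2 hs, sgn_section V hx2 hs, hsgn V W h hxW, hsgn W V h.swap hxV,
          value_section hM hx2 K hKodd hreg χ.2 hs, value_section hM hx2 K hKodd hreg ψ.2 hs,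
          hd, hd, map_mul, map_intCast]
        norm_num [Complex.conj_ofNat]
        ring
  have hprod : ∀ χ ψ : B, ∑ η, ((if χ = η then 2 else 0) - R χ η) *
      ((if η = ψ then 2 else 0) - R' η ψ) = d χ * d ψ := by
    intro χ ψ
    apply Int.cast_injective (α := ℂ)
    have e1 : Cfsg.classInner (fun g => (2 - sgn W g) * (χ.1 : G → ℂ) g)
        (fun g => (2 - sgn V g) * (ψ.1 : G → ℂ) g) =
        ∑ η : B, (((if χ = η then 2 else 0) - R χ η : ℤ) : ℂ) *
          (((if η = ψ then 2 else 0) - R' η ψ : ℤ) : ℂ) := by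
      have ef : ∀ g, (2 - sgn W g) * (χ.1 : G → ℂ) g =
          ∑ η : B, (((if χ = η then 2 else 0) - R χ η : ℤ) : ℂ) * (η.1 : G → ℂ) g := by
        intro g
        push_cast
        simp only [sub_mul, Finset.sum_sub_distrib, hRexp χ g, apply_ite ((↑) : ℤ → ℂ),
          Int.cast_ofNat, Int.cast_zero, ite_mul, zero_mul, Finset.sum_ite_eq, Finset.mem_univ,
          if_true]
        exact (congrArg (2 * (χ.1 : G → ℂ) g - ·) (hRexp χ g)).symm
      simp only [ef]
      have e : Cfsg.classInner
          (fun g => ∑ η : B, (((if χ = η then 2 else 0) - R χ η : ℤ) : ℂ) * (η.1 : G → ℂ) g)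
          (fun g => (2 - sgn V g) * (ψ.1 : G → ℂ) g) =
          ∑ η : B, (((if χ = η then 2 else 0) - R χ η : ℤ) : ℂ) *
            Cfsg.classInner (η.1 : G → ℂ) (fun g => (2 - sgn V g) * (ψ.1 : G → ℂ) g) := by
        simp only [Cfsg.classInner, Finset.sum_mul, Finset.mul_sum]
        rw [Finset.sum_comm]
        exact Finset.sum_congr rfl fun η _ => Finset.sum_congr rfl fun g _ => by ring
      rw [e]
      refine Finset.sum_congr rfl fun η _ => ?_
      congr 1
      push_cast
      rw [hR' η ψ]
      have : Cfsg.classInner (η.1 : G → ℂ) (fun g => (2 - sgn V g) * (ψ.1 : G → ℂ) g) =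
          2 * Cfsg.classInner (η.1 : G → ℂ) (ψ.1 : G → ℂ) -
            Cfsg.classInner (η.1 : G → ℂ) (fun g => sgn V g * (ψ.1 : G → ℂ) g) := by
        simp only [Cfsg.classInner, Finset.mul_sum, ← Finset.sum_sub_distrib]
        exact Finset.sum_congr rfl fun g _ => by
          simp only [map_mul, map_sub, conj_sgn, Complex.conj_ofNat]; ring
      rw [this, ← classInner_real _ (conj_sgn V), Characters.classInner_irr]
      simp only [Subtype.ext_iff, mul_ite, mul_one, mul_zero, apply_ite ((↑) : ℤ → ℂ),
        Int.cast_ofNat, Int.cast_zero]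
    push_cast at e1 ⊢
    rw [← e1, Cfsg.classInner, Star.sum_eq_sum_sections' (p := 2),
      Finset.sum_congr rfl (g := fun z => if IsConj x z then
        16 * (Nat.card K : ℂ) * (d χ : ℂ) * (d ψ : ℂ) else 0) fun z _ => ?_, ← Finset.sum_filter,
      Finset.sum_const, nsmul_eq_mul]
    · have hc : (Finset.univ.filter fun z : G => IsConj x z).card =
          (Subgroup.centralizer ({x} : Set G)).index := by
        rw [← natCard_class x, Nat.card_eq_fintype_card, Fintype.card_subtype]
        congr 1
        ext z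
        simp only [Finset.mem_filter, Finset.mem_univ, true_and, ConjClasses.mk_eq_mk_iff_isConj]
        exact isConj_comm
      rw [hc, ← (Subgroup.centralizer ({x} : Set G)).index_mul_card, Nat.cast_mul, hK16]
      have hi : ((Subgroup.centralizer ({x} : Set G)).index : ℂ) ≠ 0 :=
        Nat.cast_ne_zero.2 Subgroup.index_ne_zero_of_finite
      have hK0 : (Nat.card K : ℂ) ≠ 0 := Nat.cast_ne_zero.2 Nat.card_pos.ne'
      field_simp
    · by_cases hz : IsConj x z
      · rw [if_pos hz, if_pos (by
          obtain ⟨c, rfl⟩ := isConj_iff.1 hz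
          obtain ⟨k, hk⟩ := hx2
          exact ⟨k, by rw [← hk]; exact MulEquiv.orderOf_eq (MulAut.conj c) x⟩)]
        exact hsect χ ψ z hz
      · rw [if_neg hz]
        split_ifs with h2
        · refine Finset.sum_eq_zero fun s _ => ?_
          split_ifs with hs
          · rfl
          obtain ⟨y, hy, hzy⟩ := h.exists_conj_mem h2
          have hWy := sgn_eq h hy (by rwa [Star.pPart_of_pElement h2] :
            IsConj (Star.pPart 2 z) y)
          have hVy := sgn_eq h.swap hy (by rwa [Star.pPart_of_pElement h2] :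
            IsConj (Star.pPart 2 z) y)
          rw [sgn_section W h2 hs, sgn_section V h2 hs, hWy, hVy]
          by_cases hyW : y ∈ W
          · simp [hyW]
          · by_cases hyV : y ∈ V
            · simp [hyV, Complex.conj_ofNat]
            · exfalso
              obtain ⟨v, hv, w, hw, e⟩ := h.exists_mul_eq hy
              rcases h.classify ha ha1 hb hb1 hy with e' | e' | e' | e'
              · exact hyW (by rw [isConj_one_left.1 e']; exact one_mem W)
              · exact hyV ((h.mem_iff_of_conj hy (h.leV ha) e').2 ha)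
              · exact hyW ((h.swap.mem_iff_of_conj hy (h.leW hb) e').2 hb)
              · exact hz (hzy.trans e').symm
        · rfl
  -- no zero entry
  have hd0 : ∀ χ : B, d χ ≠ 0 := by
    intro χ hzero
    obtain ⟨B', hB'⟩ := induced_setup hM hx2 (trivChar (Subgroup.centralizer ({x} : Set G)))
    have e : Cfsg.blockOf M ((trivChar (Subgroup.centralizer ({x} : Set G)) :
        IrrCharacter (Subgroup.centralizer ({x} : Set G))) : _ → ℂ) =
        Cfsg.principalBlock M (Subgroup.centralizer ({x} : Set G)) :=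
      (principalBlock_eq (G := Subgroup.centralizer ({x} : Set G))).symm
    have hind := (BlocksLocal.isInducedBlock_principal_iff hM ⟨B', e ▸ hB'⟩).2 rfl
    have hdef : Cfsg.blockDefect 2 (Cfsg.principalBlock M (Subgroup.centralizer ({x} : Set G))) =
        Cfsg.blockDefect 2 B := by
      have hG : (Nat.card G).factorization 2 = 4 := by
        have h1 := P.card_eq_multiplicity
        rw [h.cardP, show (16 : ℕ) = 2 ^ 4 by norm_num] at h1
        exact (Nat.pow_right_injective le_rfl h1).symm
      have hH : (Nat.card (Subgroup.centralizer ({x} : Set G))).factorization 2 = 4 := by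
        rw [← K.index_mul_card, hKidx, Nat.factorization_mul (by norm_num) Nat.card_pos.ne',
          Finsupp.add_apply, Nat.factorization_eq_zero_of_not_dvd hKodd,
          show (16 : ℕ) = 2 ^ 4 by norm_num, Nat.Prime.factorization_pow Nat.prime_two,
          Finsupp.single_eq_same]
      rw [blockDefect_principal_eq hH, hB, blockDefect_principal_eq hG]
    obtain ⟨k, hk⟩ := hx2
    refine subContrib_ne_zero hM isPBlock_principalBlock hind hdef hk χ.2
      (trivChar_mem : trivChar G ∈ B) ?_ ?_
    · show Cfsg.blockHeight 2 (Cfsg.principalBlock M G) _ = 0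
      rw [principalBlock_eq (G := G)]
      exact BlocksLocal.blockHeight_trivChar
    · rw [subContrib, secInner, regInner, mul_eq_zero, mul_eq_zero]
      refine Or.inr (Or.inr (Finset.sum_eq_zero fun s _ => ?_))
      split_ifs with hs
      · rfl
      · have hval : secVal x (Cfsg.principalBlock M (Subgroup.centralizer ({x} : Set G)))
            (χ.1 : G → ℂ) s = (χ.1 : G → ℂ) (x * (s : G)) := by
          have h1 := BlocksLocal.blockPart_principal_translate hM ⟨k, hk⟩ χ.1 hs
          rw [if_pos χ.2, Cfsg.blockPart, finsum_irr_mem,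
            show Fintype.ofFinite (Subgroup.centralizer ({x} : Set G)) =
              (inferInstance : Fintype (Subgroup.centralizer ({x} : Set G))) from
                Subsingleton.elim _ _] at h1
          rw [← h1, secVal, ← Finset.sum_filter]
          refine Finset.sum_congr ?_ fun η _ => rfl
          ext η
          simp
        rw [hval, value_section hM ⟨k, hk⟩ K hKodd hreg χ.2 hs, hd, hzero]
        simp
  -- the norm of the column
  have hsum : ∑ χ : B, d χ * d χ = 16 := by
    have ψ : B := ⟨trivChar G, trivChar_mem⟩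
    have e : ∑ η, (d ψ * d η) * d η = 16 * d ψ := by
      have h4 : ∀ η, ∑ k, ((if η = k then 2 else 0) - R' η k) * d k = 4 * d η := by
        intro η
        simp only [sub_mul, ite_mul, zero_mul, Finset.sum_sub_distrib, Finset.sum_ite_eq,
          Finset.mem_univ, if_true]
        linarith [hR'd η]
      have h4' : ∑ k, ((if ψ = k then 2 else 0) - R ψ k) * d k = 4 * d ψ := by
        simp only [sub_mul, ite_mul, zero_mul, Finset.sum_sub_distrib, Finset.sum_ite_eq,
          Finset.mem_univ, if_true]
        linarith [hRd ψ]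
      calc ∑ η, (d ψ * d η) * d η
          = ∑ η, ∑ j, ((if ψ = j then 2 else 0) - R ψ j) *
              (((if j = η then 2 else 0) - R' j η) * d η) := Finset.sum_congr rfl fun η _ => by
            rw [← hprod ψ η, Finset.sum_mul]
            exact Finset.sum_congr rfl fun j _ => mul_assoc _ _ _
        _ = ∑ j, ((if ψ = j then 2 else 0) - R ψ j) * (4 * d j) := by
            rw [Finset.sum_comm]
            exact Finset.sum_congr rfl fun j _ => by rw [← Finset.mul_sum, h4 j]
        _ = 4 * ∑ j, ((if ψ = j then 2 else 0) - R ψ j) * d j := by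
            rw [Finset.mul_sum]
            exact Finset.sum_congr rfl fun j _ => by ring
        _ = 16 * d ψ := by rw [h4']; ring
    refine mul_left_cancel₀ (hd0 ψ) ?_
    rw [Finset.mul_sum, mul_comm (d ψ) 16, ← e]
    exact Finset.sum_congr rfl fun η _ => by ring
  have hk8 : 8 ≤ Fintype.card B := by rw [← Nat.card_eq_fintype_card]; omega
  rcases card_eq hd0 hsum hk8 hRsym hR'sym hRsq hR'sq hRd hR'd hprod with e | e <;>
    rw [← Nat.card_eq_fintype_card] at e
  · exact ⟨e, by omega⟩
  · exfalso
    have h1 : Cfsg.blockRank 2 B = 1 := by omega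
    -- the elements of odd order normalising `P` centralise it
    set N := Subgroup.normalizer ((P : Subgroup G) : Set G) with hN
    have hle : N ≤ Subgroup.centralizer ((P : Subgroup G) : Set G) := by
      intro n hn
      obtain ⟨y, hy, hcy, ⟨k, hk⟩, hyo⟩ := Star.pPart_spec (p := 2) n
      have h2P : Star.pPart 2 n ∈ (P : Subgroup G) := by
        have hnp : Star.pPart 2 n ∈ N := Subgroup.zpowers_le.2 hn (Star.pPart_mem_zpowers n)
        have hp : IsPGroup 2 (Subgroup.zpowers (Star.pPart 2 n)) :=
          IsPGroup.of_card (n := k) (by rw [Nat.card_zpowers, hk])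
        have hsup : IsPGroup 2 ↥((P : Subgroup G) ⊔ Subgroup.zpowers (Star.pPart 2 n)) :=
          IsPGroup.to_sup_of_normal_left' P.isPGroup' hp (Subgroup.zpowers_le.2 hnp)
        exact (P.is_maximal' hsup le_sup_left) ▸ Subgroup.mem_sup_right (Subgroup.mem_zpowers _)
      have hcent : Star.pPart 2 n ∈ Subgroup.centralizer ((P : Subgroup G) : Set G) :=
        Subgroup.mem_centralizer_iff.2 fun z hz => h.mul_comm_mem hz h2P
      have hyN : y ∈ N := by
        have : y = (Star.pPart 2 n)⁻¹ * n := by rw [eq_inv_mul_iff_mul_eq, hy]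
        rw [this]
        exact mul_mem (inv_mem (Subgroup.zpowers_le.2 hn (Star.pPart_mem_zpowers n))) hn
      rw [← hy]
      refine mul_mem hcent (Subgroup.mem_centralizer_iff.2 fun z hz => ?_)
      have hyk := mem_setKer_of_rank_one (M := M) h1 hyo
      have hcomm : y * z * y⁻¹ * z⁻¹ ∈ setKer B := by
        rw [show y * z * y⁻¹ * z⁻¹ = y * (z * y⁻¹ * z⁻¹) by group]
        exact mul_mem hyk ((setKer_normal B).conj_mem _ (inv_mem hyk) z)
      have hcP : y * z * y⁻¹ * z⁻¹ ∈ (P : Subgroup G) :=
        mul_mem ((Subgroup.mem_normalizer_iff.1 hyN z).1 hz) (inv_mem hz)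
      have hone : y * z * y⁻¹ * z⁻¹ = 1 := by
        by_contra hne
        exact not_dvd_card_setKer hM
          (h.orderOf_eq_two hcP hne ▸ Subgroup.orderOf_dvd_natCard _ hcomm)
      exact (mul_inv_eq_iff_eq_mul.1 (mul_inv_eq_one.1 hone)).symm
    rw [Subgroup.relIndex_eq_one.2 hle] at hidx
    omega

end CfsgLib.BlocksCharsC.Sixteen
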