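import Cfsg.Agent.BlocksCharsC.ElementarySixteenPlanes
import Cfsg.Agent.Transfer.Abelian
import Cfsg.Agent.Transfer.Fusion

/-!
# Fusion in an elementary abelian Sylow 2-subgroup of order sixteen with inertial index nine

`Planes P V W`: the normalizer of `P` has the two planes `V`, `W`; the elements of `P` fall into
four classes.
-/

set_option autoImplicit false
set_option linter.unusedSectionVars false

namespace CfsgLib.BlocksCharsC.Sixteen

open Subgroup
open scoped commutatorElement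

variable {G : Type*} [Group G] [Finite G]

/-- The two planes and what is known about them. -/
structure Planes (P : Sylow 2 G) (V W : Subgroup G) : Prop where
  leV : V ≤ (P : Subgroup G)
  leW : W ≤ (P : Subgroup G)
  cardP : Nat.card (P : Subgroup G) = 16
  sq : ∀ x ∈ (P : Subgroup G), x * x = 1
  cardV : Nat.card V = 4
  cardW : Nat.card W = 4
  inf : V ⊓ W = ⊥
  stabV : ∀ n ∈ normalizer ((P : Subgroup G) : Set G), ∀ v ∈ V, n * v * n⁻¹ ∈ V
  stabW : ∀ n ∈ normalizer ((P : Subgroup G) : Set G), ∀ w ∈ W, n * w * n⁻¹ ∈ W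
  trV : ∀ u ∈ V, u ≠ 1 → ∀ v ∈ V, v ≠ 1 → ∃ n ∈ normalizer ((P : Subgroup G) : Set G),
    (∀ w ∈ W, n * w * n⁻¹ = w) ∧ n * u * n⁻¹ = v
  trW : ∀ u ∈ W, u ≠ 1 → ∀ v ∈ W, v ≠ 1 → ∃ n ∈ normalizer ((P : Subgroup G) : Set G),
    (∀ w ∈ V, n * w * n⁻¹ = w) ∧ n * u * n⁻¹ = v
  comm : ∀ n ∈ normalizer ((P : Subgroup G) : Set G), ∀ m ∈ normalizer ((P : Subgroup G) : Set G),
    ∀ x ∈ (P : Subgroup G), n * (m * x * m⁻¹) * n⁻¹ = m * (n * x * n⁻¹) * m⁻¹

theorem exists_planes (P : Sylow 2 G) (hcard : Nat.card P = 16) (hel : ∀ x : P, x ^ 2 = 1)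
    (he : (centralizer ((P : Subgroup G) : Set G)).relIndex
      (normalizer ((P : Subgroup G) : Set G)) = 9) :
    ∃ V W : Subgroup G, Planes P V W := by
  classical
  set N := normalizer ((P : Subgroup G) : Set G) with hN
  let ψ : N →* MulAut (P : Subgroup G) := (P : Subgroup G).normalizerMonoidHom
  have hker : Nat.card ψ.range = 9 := by
    rw [← Subgroup.index_ker, show ψ.ker = _ from (P : Subgroup G).normalizerMonoidHom_ker]
    exact he
  obtain ⟨V', W', hV, hW, hinf, hsV, hsW, htV, htW⟩ :=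
    exists_two_planes ψ.range.subtype ψ.range.subtype_injective hker hcard
  have hval : ∀ (n : N) (x : (P : Subgroup G)),
      ((ψ n x : (P : Subgroup G)) : G) = (n : G) * (x : G) * (n : G)⁻¹ := fun n x => rfl
  refine ⟨V'.map (P : Subgroup G).subtype, W'.map (P : Subgroup G).subtype,
    map_subtype_le _, map_subtype_le _, hcard, fun x hx => ?_, ?_, ?_, ?_, ?_, ?_, ?_, ?_, ?_⟩
  · have := congrArg Subtype.val (hel ⟨x, hx⟩)
    simpa [sq] using this
  · rw [card_map_of_injective (subtype_injective _), hV]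
  · rw [card_map_of_injective (subtype_injective _), hW]
  · rw [← map_inf _ _ _ (subtype_injective _), hinf, Subgroup.map_bot]
  · rintro n hn _ ⟨v, hv, rfl⟩
    exact ⟨ψ ⟨n, hn⟩ v, hsV ⟨ψ ⟨n, hn⟩, _, rfl⟩ v hv, hval _ v⟩
  · rintro n hn _ ⟨v, hv, rfl⟩
    exact ⟨ψ ⟨n, hn⟩ v, hsW ⟨ψ ⟨n, hn⟩, _, rfl⟩ v hv, hval _ v⟩
  · rintro _ ⟨u, hu, rfl⟩ hu1 _ ⟨v, hv, rfl⟩ hv1
    obtain ⟨⟨_, n, rfl⟩, hfix, huv⟩ := htV u hu (fun h => hu1 (by rw [h, map_one])) v hv
      (fun h => hv1 (by rw [h, map_one]))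
    refine ⟨n, n.2, ?_, (hval n u).symm.trans (congrArg Subtype.val huv)⟩
    rintro _ ⟨w, hw, rfl⟩
    exact (hval n w).symm.trans (congrArg Subtype.val (hfix w hw))
  · rintro _ ⟨u, hu, rfl⟩ hu1 _ ⟨v, hv, rfl⟩ hv1
    obtain ⟨⟨_, n, rfl⟩, hfix, huv⟩ := htW u hu (fun h => hu1 (by rw [h, map_one])) v hv
      (fun h => hv1 (by rw [h, map_one]))
    refine ⟨n, n.2, ?_, (hval n u).symm.trans (congrArg Subtype.val huv)⟩
    rintro _ ⟨w, hw, rfl⟩
    exact (hval n w).symm.trans (congrArg Subtype.val (hfix w hw))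
  · intro n hn m hm x hx
    haveI : Fact (Nat.Prime 3) := ⟨Nat.prime_three⟩
    have hc : ψ ⟨n, hn⟩ * ψ ⟨m, hm⟩ = ψ ⟨m, hm⟩ * ψ ⟨n, hn⟩ := congrArg Subtype.val
      (IsPGroup.commutative_of_card_eq_prime_sq (p := 3) (G := ψ.range) (by rw [hker]; norm_num)
        ⟨ψ ⟨n, hn⟩, _, rfl⟩ ⟨ψ ⟨m, hm⟩, _, rfl⟩)
    have := congrArg (fun e : MulAut (P : Subgroup G) => ((e ⟨x, hx⟩ : (P : Subgroup G)) : G)) hc
    simpa [MulAut.mul_apply, hval] using this

namespace Planes

variable {P : Sylow 2 G} {V W : Subgroup G} (h : Planes P V W)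
include h

theorem swap : Planes P W V :=
  ⟨h.leW, h.leV, h.cardP, h.sq, h.cardW, h.cardV, inf_comm V W ▸ h.inf, h.stabW, h.stabV,
    h.trW, h.trV, h.comm⟩

theorem mul_comm_mem {x y : G} (hx : x ∈ (P : Subgroup G)) (hy : y ∈ (P : Subgroup G)) :
    x * y = y * x := by
  have h1 := h.sq _ (mul_mem hx hy)
  calc x * y = x * (x * y * (x * y)) * y := by rw [h1, mul_one]
    _ = (x * x) * (y * x) * (y * y) := by group
    _ = y * x := by rw [h.sq x hx, h.sq y hy, one_mul, mul_one]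

theorem isMulCommutative : IsMulCommutative (P : Subgroup G) :=
  ⟨⟨fun a b => Subtype.ext (h.mul_comm_mem a.2 b.2)⟩⟩

theorem le_centralizer {u : G} (hu : u ∈ (P : Subgroup G)) :
    (P : Subgroup G) ≤ centralizer ({u} : Set G) := fun _ hx =>
  mem_centralizer_singleton_iff.2 (h.mul_comm_mem hx hu)

theorem exists_mem_ne_one : ∃ u ∈ V, u ≠ 1 := by
  by_contra hcon
  push Not at hcon
  have : V = ⊥ := (Subgroup.eq_bot_iff_forall V).2 hcon
  have := h.cardV
  rw [‹V = ⊥›, card_bot] at this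
  omega

theorem eq_one_of_mem {x : G} (hV : x ∈ V) (hW : x ∈ W) : x = 1 := by
  have : x ∈ V ⊓ W := ⟨hV, hW⟩
  rwa [h.inf, mem_bot] at this

theorem exists_mul_eq {x : G} (hx : x ∈ (P : Subgroup G)) : ∃ v ∈ V, ∃ w ∈ W, v * w = x := by
  let f : V × W → (P : Subgroup G) := fun a => ⟨a.1 * a.2, mul_mem (h.leV a.1.2) (h.leW a.2.2)⟩
  have hf : Function.Bijective f := by
    refine (Nat.bijective_iff_injective_and_card f).2 ⟨fun a b hab => ?_, ?_⟩
    · have e : (a.1 : G) * a.2 = b.1 * b.2 := congrArg Subtype.val hab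
      have e' : (b.1 : G)⁻¹ * a.1 = b.2 * (a.2 : G)⁻¹ := by
        rw [eq_mul_inv_iff_mul_eq, mul_assoc, e, inv_mul_cancel_left]
      have h1 := h.eq_one_of_mem (mul_mem (inv_mem b.1.2) a.1.2)
        (e' ▸ mul_mem b.2.2 (inv_mem a.2.2))
      refine Prod.ext (Subtype.ext (inv_mul_eq_one.1 h1).symm) (Subtype.ext ?_)
      rw [e', mul_inv_eq_one] at h1
      exact h1.symm
    · rw [Nat.card_prod, h.cardV, h.cardW, h.cardP]
  obtain ⟨⟨v, w⟩, e⟩ := hf.2 ⟨x, hx⟩
  exact ⟨v, v.2, w, w.2, congrArg Subtype.val e⟩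

theorem mul_not_mem {v w : G} (hv : v ∈ V) (hw : w ∈ W) (hv1 : v ≠ 1) : v * w ∉ W := fun hm =>
  hv1 (h.eq_one_of_mem hv ((mul_mem_cancel_right hw).1 hm))

theorem mul_not_mem' {v w : G} (hv : v ∈ V) (hw : w ∈ W) (hw1 : w ≠ 1) : v * w ∉ V := fun hm =>
  hw1 (h.eq_one_of_mem ((mul_mem_cancel_left hv).1 hm) hw)

/-- An element of the normalizer fixing a nontrivial element of a plane fixes the plane. -/
theorem fix_plane {n u v : G} (hn : n ∈ normalizer ((P : Subgroup G) : Set G)) (hu : u ∈ V)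
    (hu1 : u ≠ 1) (he : n * u * n⁻¹ = u) (hv : v ∈ V) : n * v * n⁻¹ = v := by
  by_cases hv1 : v = 1
  · subst hv1; group
  obtain ⟨m, hm, -, rfl⟩ := h.trV u hu hu1 v hv hv1
  rw [h.comm n hn m hm u (h.leV hu), he]

/-- An element of the normalizer fixing an element outside both planes centralises `P`. -/
theorem fix_all {n v w : G} (hn : n ∈ normalizer ((P : Subgroup G) : Set G)) (hv : v ∈ V)
    (hv1 : v ≠ 1) (hw : w ∈ W) (hw1 : w ≠ 1) (he : n * (v * w) * n⁻¹ = v * w) :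
    n ∈ centralizer ((P : Subgroup G) : Set G) := by
  have e1 : (v⁻¹ * (n * v * n⁻¹)) = w * (n * w * n⁻¹)⁻¹ := by
    rw [eq_mul_inv_iff_mul_eq, mul_assoc, show n * v * n⁻¹ * (n * w * n⁻¹) = n * (v * w) * n⁻¹
      by group, he, inv_mul_cancel_left]
  have h1 := h.eq_one_of_mem (mul_mem (inv_mem hv) (h.stabV n hn v hv))
    (e1 ▸ mul_mem hw (inv_mem (h.stabW n hn w hw)))
  have hev : n * v * n⁻¹ = v := (inv_mul_eq_one.1 h1).symm
  rw [e1, mul_inv_eq_one] at h1
  refine mem_centralizer_iff.2 fun x hx => ?_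
  obtain ⟨a, ha, b, hb, rfl⟩ := h.exists_mul_eq hx
  have : n * (a * b) * n⁻¹ = a * b := by
    rw [show n * (a * b) * n⁻¹ = (n * a * n⁻¹) * (n * b * n⁻¹) by group,
      h.fix_plane hn hv hv1 hev ha, h.swap.fix_plane hn hw hw1 h1.symm hb]
  exact (mul_inv_eq_iff_eq_mul.1 this).symm

/-- Fusion in `P` happens in the normalizer. -/
theorem fusion {x y : G} (hx : x ∈ (P : Subgroup G)) (hy : y ∈ (P : Subgroup G))
    (hc : IsConj x y) : ∃ n ∈ normalizer ((P : Subgroup G) : Set G), n * x * n⁻¹ = y := by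
  obtain ⟨g, rfl⟩ := isConj_iff.1 hc
  haveI : Fact (Nat.Prime 2) := ⟨Nat.prime_two⟩
  obtain ⟨n, hn, e⟩ := CfsgLib.Transfer.controlsFusion_normalizer_of_isMulCommutative P
    h.isMulCommutative x hx g hy
  exact ⟨n, hn, e⟩

theorem mem_iff_of_conj {x y : G} (hx : x ∈ (P : Subgroup G)) (hy : y ∈ (P : Subgroup G))
    (hc : IsConj x y) : x ∈ V ↔ y ∈ V := by
  obtain ⟨n, hn, rfl⟩ := h.fusion hx hy hc
  refine ⟨h.stabV n hn x, fun hm => ?_⟩
  have := h.stabV n⁻¹ (inv_mem hn) _ hm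
  simpa [mul_assoc] using this

/-- Four representatives. -/
theorem classify {u w : G} (hu : u ∈ V) (hu1 : u ≠ 1) (hw : w ∈ W) (hw1 : w ≠ 1) {x : G}
    (hx : x ∈ (P : Subgroup G)) :
    IsConj x 1 ∨ IsConj x u ∨ IsConj x w ∨ IsConj x (u * w) := by
  obtain ⟨a, ha, b, hb, rfl⟩ := h.exists_mul_eq hx
  by_cases ha1 : a = 1
  · by_cases hb1 : b = 1
    · exact Or.inl (by rw [ha1, hb1, mul_one])
    · obtain ⟨n, -, -, e⟩ := h.trW b hb hb1 w hw hw1
      exact Or.inr (Or.inr (Or.inl (isConj_iff.2 ⟨n, by rw [ha1, one_mul, e]⟩)))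
  · obtain ⟨n, -, hfix, e⟩ := h.trV a ha ha1 u hu hu1
    by_cases hb1 : b = 1
    · exact Or.inr (Or.inl (isConj_iff.2 ⟨n, by rw [hb1, mul_one, e]⟩))
    · obtain ⟨m, -, hfix', e'⟩ := h.trW b hb hb1 w hw hw1
      refine Or.inr (Or.inr (Or.inr (isConj_iff.2 ⟨m * n, ?_⟩)))
      calc m * n * (a * b) * (m * n)⁻¹
          = (m * (n * a * n⁻¹) * m⁻¹) * (m * (n * b * n⁻¹) * m⁻¹) := by group
        _ = u * w := by rw [e, hfix b hb, hfix' u hu, e']

theorem exists_conj_mem {g : G} (hg : ∃ k, orderOf g = 2 ^ k) :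
    ∃ x ∈ (P : Subgroup G), IsConj g x := by
  haveI : Fact (Nat.Prime 2) := ⟨Nat.prime_two⟩
  obtain ⟨k, hk⟩ := hg
  have hp : IsPGroup 2 (zpowers g) := IsPGroup.of_card (n := k) (by rw [Nat.card_zpowers, hk])
  obtain ⟨Q, hQ⟩ := hp.exists_le_sylow
  obtain ⟨c, hc⟩ := MulAction.exists_smul_eq G Q P
  refine ⟨c * g * c⁻¹, ?_, isConj_iff.2 ⟨c, rfl⟩⟩
  rw [← hc]
  exact ⟨g, hQ (mem_zpowers g), rfl⟩

theorem orderOf_eq_two {x : G} (hx : x ∈ (P : Subgroup G)) (hx1 : x ≠ 1) : orderOf x = 2 :=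
  orderOf_eq_prime (by rw [pow_two]; exact h.sq x hx) hx1

theorem exists_pow_two {x : G} (hx : x ∈ (P : Subgroup G)) : ∃ k, orderOf x = 2 ^ k := by
  by_cases hx1 : x = 1
  · exact ⟨0, by simp [hx1]⟩
  · exact ⟨1, by rw [h.orderOf_eq_two hx hx1, pow_one]⟩

/-- The centralizer of an element outside both planes has a normal 2-complement. -/
theorem exists_complement {u w : G} (hu : u ∈ V) (hu1 : u ≠ 1) (hw : w ∈ W) (hw1 : w ≠ 1) :
    ∃ K : Subgroup (centralizer ({u * w} : Set G)),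
      K.Normal ∧ ¬ 2 ∣ Nat.card K ∧ K.index = 16 := by
  haveI : Fact (Nat.Prime 2) := ⟨Nat.prime_two⟩
  have hPH := h.le_centralizer (mul_mem (h.leV hu) (h.leW hw))
  set H := centralizer ({u * w} : Set G)
  let P' : Sylow 2 H := P.subtype hPH
  have hcard : Nat.card (P' : Subgroup H) = 16 := by
    rw [← h.cardP]; exact Nat.card_congr (subgroupOfEquivOfLe hPH).toEquiv
  have hle : normalizer ((P' : Subgroup H) : Set H) ≤ centralizer ((P' : Subgroup H) : Set H) := by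
    intro g hg
    have hgN : (g : G) ∈ normalizer ((P : Subgroup G) : Set G) := by
      rw [mem_normalizer_iff]
      intro x
      constructor
      · intro hx
        exact ((mem_normalizer_iff.1 hg) ⟨x, hPH hx⟩).1 hx
      · intro hx
        have hxH : x ∈ H := by
          have := mul_mem (mul_mem (inv_mem g.2) (hPH hx)) g.2
          simpa [mul_assoc] using this
        exact ((mem_normalizer_iff.1 hg) ⟨x, hxH⟩).2 hx
    have hc := mem_centralizer_singleton_iff.1 g.2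
    have := h.fix_all hgN hu hu1 hw hw1 (by rw [hc, mul_inv_cancel_right])
    exact mem_centralizer_iff.2 fun x hx => Subtype.ext (mem_centralizer_iff.1 this x hx)
  refine ⟨(MonoidHom.transferSylow P' hle).ker, inferInstance,
    MonoidHom.not_dvd_card_ker_transferSylow P' hle, ?_⟩
  rw [(MonoidHom.ker_transferSylow_isComplement' P' hle).symm.index_eq_card, hcard]

/-- The 2-residual of the centralizer of `u` in a plane meets `P` in the other plane. -/
theorem inf_pResidual {u : G} (hu : u ∈ V) (hu1 : u ≠ 1)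
    (hPH : (P : Subgroup G) ≤ centralizer ({u} : Set G)) :
    ((P.subtype hPH : Sylow 2 (centralizer ({u} : Set G))) : Subgroup (centralizer ({u} : Set G))) ⊓
      Cfsg.pResidual 2 (centralizer ({u} : Set G)) = W.subgroupOf (centralizer ({u} : Set G)) := by
  haveI : Fact (Nat.Prime 2) := ⟨Nat.prime_two⟩
  set H := centralizer ({u} : Set G) with hH
  let P' : Sylow 2 H := P.subtype hPH
  have hc : IsMulCommutative (P' : Subgroup H) :=
    ⟨⟨fun a b => Subtype.ext (Subtype.ext (h.mul_comm_mem a.2 b.2))⟩⟩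
  rw [CfsgLib.Transfer.inf_pResidual_eq_commutator_normalizer P' hc]
  have hnN : ∀ g : H, g ∈ normalizer ((P' : Subgroup H) : Set H) →
      (g : G) ∈ normalizer ((P : Subgroup G) : Set G) := by
    intro g hg
    rw [mem_normalizer_iff]
    intro x
    constructor
    · intro hx
      exact ((mem_normalizer_iff.1 hg) ⟨x, hPH hx⟩).1 hx
    · intro hx
      have hxH : x ∈ H := by
        have := mul_mem (mul_mem (inv_mem g.2) (hPH hx)) g.2
        simpa [mul_assoc] using this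
      exact ((mem_normalizer_iff.1 hg) ⟨x, hxH⟩).2 hx
  refine le_antisymm (commutator_le.2 fun p hp g hg => ?_) fun x hx => ?_
  · rw [mem_subgroupOf]
    obtain ⟨v, hv, w, hw, e⟩ := h.exists_mul_eq (show (p : G) ∈ (P : Subgroup G) from hp)
    have hgN := hnN g hg
    have hgu : (g : G) * u * (g : G)⁻¹ = u := by
      rw [mem_centralizer_singleton_iff.1 g.2, mul_inv_cancel_right]
    show ((⁅p, g⁆ : H) : G) ∈ W
    rw [commutatorElement_def]
    push_cast
    have e2 : (g : G) * (p : G)⁻¹ * (g : G)⁻¹ = v⁻¹ * ((g : G) * w * (g : G)⁻¹)⁻¹ := by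
      rw [← e, h.mul_comm_mem (h.leV hv) (h.leW hw),
        show (g : G) * (w * v)⁻¹ * (g : G)⁻¹ = ((g : G) * v * (g : G)⁻¹)⁻¹ *
          ((g : G) * w * (g : G)⁻¹)⁻¹ by group, h.fix_plane hgN hu hu1 hgu hv]
    rw [show (p : G) * g * (p : G)⁻¹ * (g : G)⁻¹ = p * ((g : G) * (p : G)⁻¹ * (g : G)⁻¹) by group,
      e2, ← e, h.mul_comm_mem (h.leV hv) (h.leW hw), mul_assoc, mul_inv_cancel_left]
    exact mul_mem hw (inv_mem (h.stabW _ hgN w hw))
  · rw [mem_subgroupOf] at hx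
    by_cases hx1 : (x : G) = 1
    · rw [show x = 1 from Subtype.ext hx1]; exact one_mem _
    -- write `x` as `w * (n w⁻¹ n⁻¹)`
    obtain ⟨w, hw, hw1, hwx⟩ : ∃ w ∈ W, w ≠ 1 ∧ w ≠ (x : G) := by
      by_contra hcon
      push Not at hcon
      have hsub : (W : Set G) ⊆ {1, (x : G)} := fun w hw => by
        by_cases hw1 : w = 1
        · exact Or.inl hw1
        · exact Or.inr (hcon w hw hw1)
      have := Set.ncard_le_ncard hsub (Set.toFinite _)
      have h4 : (W : Set G).ncard = 4 := by rw [← Nat.card_coe_set_eq]; exact h.cardW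
      have h2 : ({1, (x : G)} : Set G).ncard ≤ 2 := by
        refine (Set.ncard_insert_le _ _).trans ?_
        simp
      omega
    obtain ⟨n, hn, hfix, hnw⟩ := h.trW w hw hw1 (x * w : G) (mul_mem hx hw) (fun e => hwx (by
      have := mul_eq_one_iff_eq_inv.1 e
      rw [this, eq_comm, inv_eq_iff_mul_eq_one]
      exact h.sq w (h.leW hw)))
    have hnH : n ∈ H := mem_centralizer_singleton_iff.2 (mul_inv_eq_iff_eq_mul.1 (hfix u hu))
    have hwP : (⟨w, hPH (h.leW hw)⟩ : H) ∈ (P' : Subgroup H) := h.leW hw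
    have hnN' : (⟨n, hnH⟩ : H) ∈ normalizer ((P' : Subgroup H) : Set H) := by
      rw [mem_normalizer_iff]
      exact fun y => mem_normalizer_iff.1 hn (y : G)
    have hmem := commutator_mem_commutator hwP hnN'
    have e : x = ⁅(⟨w, hPH (h.leW hw)⟩ : H), (⟨n, hnH⟩ : H)⁆ := by
      refine Subtype.ext ?_
      rw [commutatorElement_def]
      push_cast
      rw [show w * n * w⁻¹ * n⁻¹ = w * (n * w * n⁻¹)⁻¹ by group, hnw, mul_inv_rev, ← mul_assoc,
        mul_inv_cancel, one_mul]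
      exact eq_inv_of_mul_eq_one_left (h.sq _ (h.leW hx))
    rw [e]
    exact hmem

end Planes

end CfsgLib.BlocksCharsC.Sixteen
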