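import Mathlib.Algebra.BigOperators.Group.Finset.Piecewise
import Mathlib.Algebra.Order.BigOperators.Ring.Finset
import Mathlib.Data.Fintype.Card
import Mathlib.Data.Int.Basic
import Mathlib.Tactic

/-!
# Two commuting integer square roots of four and a column of norm sixteen

`card_eq`: a column `d` without zero, of norm sixteen and length at least eight, such that symmetric
integer matrices `R`, `R'` of square four send it to `-2 d` and `(2 - R) (2 - R') = d dᵗ`, has
length eight or sixteen.
-/

set_option autoImplicit false
set_option linter.unusedSectionVars false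

namespace CfsgLib.BlocksCharsC.Sixteen

open Finset

variable {ι : Type*} [Fintype ι] [DecidableEq ι]

theorem dvd_two_sq_sub (x : ℤ) : (2 : ℤ) ∣ x * x - x := by
  have h := Int.even_mul_succ_self (x - 1)
  rw [sub_add_cancel] at h
  obtain ⟨c, hc⟩ := h
  exact ⟨c, by linarith⟩

variable {d : ι → ℤ} {R : ι → ι → ℤ}

/-- The entries of a row against the columns of absolute value one. -/
theorem entry_small (hsq : ∀ i k, ∑ j, R i j * R j k = if i = k then 4 else 0)
    (hsym : ∀ i j, R i j = R j i) (hd : ∀ i, ∑ j, R i j * d j = -2 * d i)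
    {e j : ι} (he : d e * d e = 4) (hj : d j * d j = 1) : R e j * R e j ≤ 1 := by
  by_contra hcon
  push Not at hcon
  have h4 : ∑ l, R e l * R e l = 4 := by
    have := hsq e e
    rw [if_pos rfl] at this
    exact (Finset.sum_congr rfl fun l _ => by rw [hsym l e]).trans this
  have hle := Finset.single_le_sum (f := fun l => R e l * R e l)
    (fun l _ => mul_self_nonneg _) (Finset.mem_univ j)
  rw [h4] at hle
  have h2 : R e j * R e j = 4 := by
    have hu : R e j ≤ 2 := by nlinarith
    have hl : -2 ≤ R e j := by nlinarith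
    interval_cases h : R e j <;> omega
  have hz : ∀ l, l ≠ j → R e l = 0 := by
    intro l hl
    have hp := Finset.sum_le_sum_of_subset_of_nonneg (f := fun l => R e l * R e l)
      (Finset.subset_univ ({j, l} : Finset ι)) fun _ _ _ => mul_self_nonneg _
    rw [h4, Finset.sum_pair (Ne.symm hl)] at hp
    nlinarith
  have := hd e
  rw [Finset.sum_eq_single j (fun l _ hl => by rw [hz l hl, zero_mul])
    (fun h => absurd (Finset.mem_univ j) h)] at this
  have h16 : R e j * R e j * (d j * d j) = 4 * (d e * d e) := by
    linear_combination (R e j * d j - 2 * d e) * this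
  rw [h2, hj, he] at h16
  norm_num at h16

/-- The part of `d` of absolute value two is again an eigencolumn. -/
theorem heavy_eigen (hsq : ∀ i k, ∑ j, R i j * R j k = if i = k then 4 else 0)
    (hsym : ∀ i j, R i j = R j i) (hd : ∀ i, ∑ j, R i j * d j = -2 * d i)
    (hval : ∀ i, d i * d i = 1 ∨ d i * d i = 4)
    (hE : (univ.filter fun i => d i * d i = 4).card ≤ 2) :
    ∀ i, ∑ j, R i j * (if d j * d j = 4 then d j else 0) =
      -2 * if d i * d i = 4 then d i else 0 := by
  set E := univ.filter fun i => d i * d i = 4 with hEdef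
  set O := univ.filter fun i => ¬ d i * d i = 4 with hOdef
  have hmemE : ∀ i, i ∈ E ↔ d i * d i = 4 := fun i => by simp [hEdef]
  have hmemO : ∀ i, i ∈ O → d i * d i = 1 := fun i hi =>
    (hval i).resolve_right (Finset.mem_filter.1 hi).2
  have hsplit : ∀ f : ι → ℤ, ∑ j, f j = (∑ j ∈ E, f j) + ∑ j ∈ O, f j := fun f =>
    (Finset.sum_filter_add_sum_filter_not univ _ f).symm
  have hrow : ∀ i, ∑ j, R i j * R i j = 4 := fun i => by
    have := hsq i i
    rw [if_pos rfl] at this
    exact (Finset.sum_congr rfl fun l _ => by rw [hsym l i]).trans this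
  have h2d : ∀ i, i ∈ E → (2 : ℤ) ∣ d i := fun i hi => by
    have h := (hmemE i).1 hi
    have := (Int.prime_two.dvd_mul).1 (show (2 : ℤ) ∣ d i * d i from ⟨2, by rw [h]; norm_num⟩)
    tauto
  have hOsq : ∀ i, i ∈ O → (2 : ℤ) ∣ d i - 1 := fun i hi => by
    rcases mul_self_eq_one_iff.1 (hmemO i hi) with e | e <;> rw [e] <;> norm_num
  -- parity of the squares on `O`
  have hpar : ∀ i, (2 : ℤ) ∣ ∑ j ∈ O, R i j * R i j := by
    intro i
    have h1 : (2 : ℤ) ∣ ∑ j ∈ O, R i j * d j := by
      have hi := hd i
      rw [hsplit] at hi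
      have : (2 : ℤ) ∣ ∑ j ∈ E, R i j * d j :=
        Finset.dvd_sum fun j hj => dvd_mul_of_dvd_right (h2d j hj) _
      have e : ∑ j ∈ O, R i j * d j = -2 * d i - ∑ j ∈ E, R i j * d j := by linarith
      rw [e]
      exact dvd_sub (dvd_mul_of_dvd_left (by norm_num) _) this
    have h2 : (2 : ℤ) ∣ ∑ j ∈ O, (R i j * R i j - R i j * d j) := by
      refine Finset.dvd_sum fun j hj => ?_
      have e : R i j * R i j - R i j * d j = (R i j * R i j - R i j) - R i j * (d j - 1) := by ring
      rw [e]
      exact dvd_sub (dvd_two_sq_sub _) (dvd_mul_of_dvd_right (hOsq j hj) _)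
    rw [Finset.sum_sub_distrib] at h2
    simpa using dvd_add h2 h1
  -- the rows of `E`
  have hT : ∀ e ∈ E, ∑ j ∈ O, R e j * d j = 0 := by
    intro e he
    by_contra hne
    have hsmall : ∀ j ∈ O, R e j * R e j ≤ 1 := fun j hj =>
      entry_small hsq hsym hd ((hmemE e).1 he) (hmemO j hj)
    have hcol : ∀ j ∈ O, (2 : ℤ) ∣ ∑ l ∈ E, R j l * R j l := by
      intro j _
      have h := hrow j
      rw [hsplit] at h
      have e' : ∑ l ∈ E, R j l * R j l = 4 - ∑ l ∈ O, R j l * R j l := by linarith
      rw [e']
      exact dvd_sub (by norm_num) (hpar j)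
    have hE2 : E.card = 2 := by
      by_contra hE2
      have h1 : E = {e} := Finset.eq_singleton_iff_unique_mem.2 ⟨he, fun l hl =>
        Finset.card_le_one.1 (by omega) l hl e he⟩
      refine hne (Finset.sum_eq_zero fun j hj => ?_)
      have h := hcol j hj
      rw [h1, Finset.sum_singleton, hsym j e] at h
      have hs := hsmall j hj
      have : R e j * R e j = 0 := by
        rcases eq_or_lt_of_le hs with q | q
        · rw [q] at h; norm_num at h
        · nlinarith [mul_self_nonneg (R e j)]
      rw [mul_self_eq_zero.1 this, zero_mul]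
    obtain ⟨f, hfE, hfe⟩ : ∃ f ∈ E, f ≠ e := by
      by_contra hcon
      push Not at hcon
      have : E.card ≤ 1 := Finset.card_le_one.2 fun a ha b hb => (hcon a ha).trans (hcon b hb).symm
      omega
    have hEef : E = {e, f} := by
      refine (Finset.eq_of_subset_of_card_le ?_ ?_).symm
      · intro a ha
        rcases Finset.mem_insert.1 ha with rfl | ha
        · exact he
        · rwa [Finset.mem_singleton.1 ha]
      · rw [hE2, Finset.card_pair (Ne.symm hfe)]
    have hsum : ∀ g : ι → ℤ, ∑ j ∈ E, g j = g e + g f := fun g => by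
      rw [hEef, Finset.sum_pair (Ne.symm hfe)]
    have hsupp : ∀ j ∈ O, R f j * R f j = R e j * R e j := by
      intro j hj
      have h := hcol j hj
      rw [hsum, hsym j e, hsym j f] at h
      have h1 := hsmall j hj
      have h2 := entry_small hsq hsym hd ((hmemE f).1 hfE) (hmemO j hj)
      have h3 := mul_self_nonneg (R e j)
      have h4 := mul_self_nonneg (R f j)
      omega
    set S := ∑ j ∈ O, R e j * R e j with hS
    set T := ∑ j ∈ O, R e j * d j with hTdef
    have hSf : ∑ j ∈ O, R f j * R f j = S := Finset.sum_congr rfl hsupp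
    have hre := hrow e
    rw [hsplit, hsum] at hre
    have hrf := hrow f
    rw [hsplit, hsum, hSf] at hrf
    have hde := hd e
    rw [hsplit, hsum, ← hTdef] at hde
    have hdf := hd f
    rw [hsplit, hsum] at hdf
    obtain ⟨me, hme⟩ := h2d e he
    obtain ⟨mf, hmf⟩ := h2d f hfE
    have hme1 : me * me = 1 := by
      have := (hmemE e).1 he
      rw [hme] at this; linarith
    have hmf1 : mf * mf = 1 := by
      have := (hmemE f).1 hfE
      rw [hmf] at this; linarith
    -- `T` is divisible by four and no bigger than `S`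
    have h4T : (4 : ℤ) ∣ T := by
      have hp : (2 : ℤ) ∣ R e e * me + R e f * mf + me + me + me + me := by
        have h1 : (2 : ℤ) ∣ R e e * R e e + R e f * R e f := by
          have e' : R e e * R e e + R e f * R e f = 4 - S := by linarith
          rw [e']
          exact dvd_sub (by norm_num) (hpar e)
        have hm : (2 : ℤ) ∣ me - 1 := by
          rcases mul_self_eq_one_iff.1 hme1 with q | q <;> rw [q] <;> norm_num
        have hm' : (2 : ℤ) ∣ mf - 1 := by
          rcases mul_self_eq_one_iff.1 hmf1 with q | q <;> rw [q] <;> norm_num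
        have h3 := dvd_two_sq_sub (R e e)
        have h4 := dvd_two_sq_sub (R e f)
        have h5 := dvd_mul_of_dvd_right hm (R e e)
        have h6 := dvd_mul_of_dvd_right hm' (R e f)
        rw [mul_sub, mul_one] at h5 h6
        omega
      rw [hme, hmf] at hde
      obtain ⟨c, hc⟩ := hp
      refine ⟨-c + me, ?_⟩
      linarith
    have habs : ∀ j ∈ O, (R e j * d j ≤ R e j * R e j) ∧ (-(R e j * R e j) ≤ R e j * d j) := by
      intro j hj
      have h1 := hmemO j hj
      have h2 := hsmall j hj
      have hu : R e j ≤ 1 := by nlinarith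
      have hl : -1 ≤ R e j := by nlinarith
      rcases mul_self_eq_one_iff.1 h1 with q | q <;> rw [q] <;>
        interval_cases R e j <;> norm_num
    have hTle : T ≤ S := Finset.sum_le_sum fun j hj => (habs j hj).1
    have hTge : -S ≤ T := by
      rw [hS, hTdef, ← Finset.sum_neg_distrib]
      exact Finset.sum_le_sum fun j hj => (habs j hj).2
    have hS4 : S = 4 := by
      have h1 := mul_self_nonneg (R e e)
      have h2 := mul_self_nonneg (R e f)
      obtain ⟨c, hc⟩ := h4T
      omega
    have hee : R e e = 0 := mul_self_eq_zero.1 (by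
      have h1 := mul_self_nonneg (R e e); have h2 := mul_self_nonneg (R e f); linarith)
    have hef : R e f = 0 := mul_self_eq_zero.1 (by
      have h1 := mul_self_nonneg (R e e); have h2 := mul_self_nonneg (R e f); linarith)
    have hff : R f f = 0 := mul_self_eq_zero.1 (by
      have h1 := mul_self_nonneg (R f e); have h2 := mul_self_nonneg (R f f); linarith)
    have hfe0 : R f e = 0 := by rw [hsym f e, hef]
    rw [hee, hef, hme] at hde
    rw [hfe0, hff, hmf] at hdf
    -- hence the rows are proportional to `d` on their common support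
    have key : ∀ j ∈ O, R e j * d j = -me * (R e j * R e j) ∧ R f j * d j = -mf * (R f j * R f j) := by
      have aux : ∀ (g : ι) (m : ℤ), g ∈ E → m * m = 1 → ∑ j ∈ O, R g j * d j = -4 * m →
          ∑ j ∈ O, R g j * R g j = 4 → ∀ j ∈ O, R g j * d j = -m * (R g j * R g j) := by
        intro g m hg hm h1 h2 j hj
        have hz : ∀ j ∈ O, 0 ≤ R g j * R g j + m * (R g j * d j) := by
          intro j hj
          have h3 := entry_small hsq hsym hd ((hmemE g).1 hg) (hmemO j hj)
          have hu : R g j ≤ 1 := by nlinarith
          have hl : -1 ≤ R g j := by nlinarith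
          rcases mul_self_eq_one_iff.1 (hmemO j hj) with q | q <;> rw [q] <;>
            rcases mul_self_eq_one_iff.1 hm with q' | q' <;> rw [q'] <;>
            interval_cases R g j <;> norm_num
        have hsum0 : ∑ j ∈ O, (R g j * R g j + m * (R g j * d j)) = 0 := by
          rw [Finset.sum_add_distrib, ← Finset.mul_sum, h1, h2]
          linear_combination (-4) * hm
        have h := (Finset.sum_eq_zero_iff_of_nonneg hz).1 hsum0 j hj
        linear_combination m * h - (R g j * d j) * hm
      exact fun j hj => ⟨aux e me he hme1 (by linarith) hS4 j hj,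
        aux f mf hfE hmf1 (by linarith) (hSf.trans hS4) j hj⟩
    have horth := hsq e f
    rw [if_neg (Ne.symm hfe), hsplit, hsum, hee, hef] at horth
    have : ∑ j ∈ O, R e j * R j f = 4 * (me * mf) := by
      rw [← hS4, Finset.sum_mul]
      refine Finset.sum_congr rfl fun j hj => ?_
      obtain ⟨k1, k2⟩ := key j hj
      rw [hsupp j hj] at k2
      rw [hsym j f]
      have h1 := hmemO j hj
      have h2 : R e j * R e j * (R e j * R e j) = R e j * R e j := by
        have hs := hsmall j hj
        have hp := mul_self_nonneg (R e j)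
        interval_cases R e j * R e j <;> norm_num
      linear_combination (-(R e j * R f j)) * h1 + (R f j * d j) * k1 -
        me * (R e j * R e j) * k2 + (me * mf) * h2
    rw [this] at horth
    have hmm : me * mf * (me * mf) = 1 := by linear_combination (mf * mf) * hme1 + hmf1
    have : me * mf = 0 := by linarith
    rw [this] at hmm
    norm_num at hmm
  -- the eigenvalue on `E`, then everywhere by comparing norms
  set v : ι → ℤ := fun j => if d j * d j = 4 then d j else 0 with hv
  set w : ι → ℤ := fun i => ∑ j, R i j * v j with hw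
  have hwE : ∀ e ∈ E, w e = -2 * v e := by
    intro e he
    have h := hd e
    rw [hsplit, hT e he, add_zero] at h
    show ∑ j, R e j * v j = -2 * v e
    rw [hsplit, show v e = d e from if_pos ((hmemE e).1 he), ← h,
      Finset.sum_eq_zero (s := O) fun j hj => by
        rw [show v j = 0 from if_neg (Finset.mem_filter.1 hj).2, mul_zero], add_zero]
    exact Finset.sum_congr rfl fun j hj => by
      rw [show v j = d j from if_pos ((hmemE j).1 hj)]
  have hnorm : ∑ i, w i * w i = 4 * ∑ i, v i * v i := by
    simp only [hw, Finset.sum_mul, Finset.mul_sum]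
    rw [Finset.sum_comm]
    refine Finset.sum_congr rfl fun a _ => ?_
    rw [Finset.sum_comm]
    calc ∑ b, ∑ i, R i b * v b * (R i a * v a)
        = ∑ b, v a * v b * ∑ i, R a i * R i b := Finset.sum_congr rfl fun b _ => by
          rw [Finset.mul_sum]
          exact Finset.sum_congr rfl fun i _ => by rw [hsym i a]; ring
      _ = 4 * (v a * v a) := by
          simp only [hsq, mul_ite, mul_zero, Finset.sum_ite_eq, Finset.mem_univ, if_true]
          ring
  have hO0 : ∀ i ∈ O, w i = 0 := by
    have h1 : ∑ i ∈ E, w i * w i = 4 * ∑ i ∈ E, v i * v i := by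
      rw [Finset.mul_sum]
      exact Finset.sum_congr rfl fun i hi => by rw [hwE i hi]; ring
    have h2 : ∑ i ∈ O, v i * v i = 0 := Finset.sum_eq_zero fun i hi => by
      rw [show v i = 0 from if_neg (Finset.mem_filter.1 hi).2, mul_zero]
    have h3 : ∑ i ∈ O, w i * w i = 0 := by
      have := hnorm
      rw [hsplit, hsplit (fun i => v i * v i), h1, h2] at this
      linarith
    exact fun i hi => mul_self_eq_zero.1
      ((Finset.sum_eq_zero_iff_of_nonneg fun _ _ => mul_self_nonneg _).1 h3 i hi)
  intro i
  show w i = -2 * v i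
  by_cases hi : d i * d i = 4
  · exact hwE i ((hmemE i).2 hi)
  · have hiO : i ∈ O := Finset.mem_filter.2 ⟨Finset.mem_univ _, hi⟩
    rw [hO0 i hiO, show v i = 0 from if_neg hi, mul_zero]

/-- The length is eight or sixteen. -/
theorem card_eq {R' : ι → ι → ℤ} (hd0 : ∀ i, d i ≠ 0) (hsum : ∑ i, d i * d i = 16)
    (hcard : 8 ≤ Fintype.card ι)
    (hsym : ∀ i j, R i j = R j i) (hsym' : ∀ i j, R' i j = R' j i)
    (hsq : ∀ i k, ∑ j, R i j * R j k = if i = k then 4 else 0)
    (hsq' : ∀ i k, ∑ j, R' i j * R' j k = if i = k then 4 else 0)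
    (hd : ∀ i, ∑ j, R i j * d j = -2 * d i) (hd' : ∀ i, ∑ j, R' i j * d j = -2 * d i)
    (hprod : ∀ i k, ∑ j, ((if i = j then 2 else 0) - R i j) *
      ((if j = k then 2 else 0) - R' j k) = d i * d k) :
    Fintype.card ι = 16 ∨ Fintype.card ι = 8 := by
  by_contra hcon
  push Not at hcon
  have hone : ∀ i, 1 ≤ d i * d i := fun i => by
    have := mul_self_pos.2 (hd0 i)
    omega
  -- no entry exceeds two
  have hval : ∀ i, d i * d i = 1 ∨ d i * d i = 4 := by
    intro i
    have hc : ((univ.erase i).card : ℤ) ≤ ∑ j ∈ univ.erase i, d j * d j := by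
      rw [Finset.card_eq_sum_ones, Nat.cast_sum]
      exact Finset.sum_le_sum fun j _ => by simpa using hone j
    rw [Finset.card_erase_of_mem (Finset.mem_univ i), Finset.card_univ] at hc
    have hs := Finset.add_sum_erase univ (fun j => d j * d j) (Finset.mem_univ i)
    rw [hsum] at hs
    have h9 : d i * d i ≤ 9 := by omega
    have hu : d i ≤ 3 := by nlinarith
    have hl : -3 ≤ d i := by nlinarith
    have hne := hd0 i
    have hbig : d i * d i = 9 → False := by
      intro e
      -- all others are one
      have h8 : Fintype.card ι = 8 := by omega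
      exact hcon.2 h8
    interval_cases h : d i <;> norm_num at * <;> tauto
  set n := (univ.filter fun i => d i * d i = 4).card with hn
  have hcount : (Fintype.card ι : ℤ) + 3 * n = 16 := by
    rw [← hsum, Finset.sum_congr rfl (g := fun i => 1 + if d i * d i = 4 then (3 : ℤ) else 0)
      fun i _ => by rcases hval i with e | e <;> simp [e], Finset.sum_add_distrib,
      ← Finset.sum_filter, Finset.sum_const, Finset.sum_const, Finset.card_univ]
    simp [hn, mul_comm]
  have hn2 : n ≤ 2 := by omega
  have hn0 : n ≠ 0 := by omega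
  have hv := heavy_eigen hsq hsym hd hval hn2
  have hv' := heavy_eigen hsq' hsym' hd' hval hn2
  set v : ι → ℤ := fun j => if d j * d j = 4 then d j else 0 with hvdef
  have hdv : ∑ i, d i * v i = 4 * n := by
    rw [Finset.sum_congr rfl (g := fun i => if d i * d i = 4 then (4 : ℤ) else 0) fun i _ => by
      simp only [hvdef]
      split_ifs with h <;> simp [h], ← Finset.sum_filter, Finset.sum_const, ← hn]
    simp [mul_comm]
  have hvv : ∑ i, v i * v i = 4 * n := by
    rw [← hdv]
    refine Finset.sum_congr rfl fun i _ => ?_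
    simp only [hvdef]
    split_ifs <;> ring
  have hl : ∀ j, ∑ i, v i * ((if i = j then 2 else 0) - R i j) = 4 * v j := by
    intro j
    simp only [mul_sub, mul_ite, mul_zero, Finset.sum_sub_distrib, Finset.sum_ite_eq',
      Finset.mem_univ, if_true]
    rw [Finset.sum_congr rfl (g := fun i => R j i * v i) fun i _ => by rw [hsym i j, mul_comm],
      hv j]
    show v j * 2 - (-2 * v j) = 4 * v j
    ring
  have hr : ∀ j, ∑ k, ((if j = k then 2 else 0) - R' j k) * v k = 4 * v j := by
    intro j
    simp only [sub_mul, ite_mul, zero_mul, Finset.sum_sub_distrib, Finset.sum_ite_eq,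
      Finset.mem_univ, if_true]
    rw [hv' j]
    show 2 * v j - (-2 * v j) = 4 * v j
    ring
  have hmain : (4 * (n : ℤ)) * (4 * n) = 16 * (4 * n) := by
    calc (4 * (n : ℤ)) * (4 * n) = (∑ i, d i * v i) * ∑ k, d k * v k := by rw [hdv]
      _ = ∑ i, ∑ k, v i * (d i * d k) * v k := by
          rw [Finset.sum_mul_sum]
          exact Finset.sum_congr rfl fun i _ => Finset.sum_congr rfl fun k _ => by ring
      _ = ∑ i, ∑ k, ∑ j, (v i * ((if i = j then 2 else 0) - R i j)) *
            (((if j = k then 2 else 0) - R' j k) * v k) := by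
          refine Finset.sum_congr rfl fun i _ => Finset.sum_congr rfl fun k _ => ?_
          rw [← hprod i k, Finset.mul_sum, Finset.sum_mul]
          exact Finset.sum_congr rfl fun j _ => by ring
      _ = ∑ j, ∑ i, ∑ k, (v i * ((if i = j then 2 else 0) - R i j)) *
            (((if j = k then 2 else 0) - R' j k) * v k) := by
          rw [Finset.sum_congr rfl fun i _ => Finset.sum_comm, Finset.sum_comm]
      _ = ∑ j, (4 * v j) * (4 * v j) := Finset.sum_congr rfl fun j _ => by
          rw [← Finset.sum_mul_sum, hl j, hr j]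
      _ = 16 * (4 * n) := by
          rw [← hvv, Finset.mul_sum]
          exact Finset.sum_congr rfl fun j _ => by ring
  have h1 : (n : ℤ) = 4 := by
    have hne : (n : ℤ) ≠ 0 := by exact_mod_cast hn0
    refine mul_left_cancel₀ hne ?_
    linarith
  omega

end CfsgLib.BlocksCharsC.Sixteen
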