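import Mathlib.GroupTheory.GroupAction.Quotient
import Mathlib.GroupTheory.PGroup
import Mathlib.GroupTheory.Sylow

/-!
# A group of order nine acting faithfully on an elementary abelian group of order sixteen

`exists_two_planes`: the group fixes two planes setwise, and on each plane it is transitive on the
nonidentity elements already through the kernel of its action on the other plane.
-/

set_option autoImplicit false

namespace CfsgLib.BlocksCharsC.Sixteen

variable {A P : Type*} [Group A] [Group P] [Finite A] [Finite P]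

/-- The fixed points of one automorphism. -/
def fix (φ : A →* MulAut P) (a : A) : Subgroup P where
  carrier := {x | φ a x = x}
  one_mem' := map_one _
  mul_mem' {x y} hx hy := by
    show φ a (x * y) = x * y
    rw [map_mul, hx, hy]
  inv_mem' {x} hx := by
    show φ a x⁻¹ = x⁻¹
    rw [map_inv, hx]

omit [Finite A] [Finite P] in
theorem mem_fix {φ : A →* MulAut P} {a : A} {x : P} : x ∈ fix φ a ↔ φ a x = x := Iff.rfl

theorem exists_two_planes (φ : A →* MulAut P) (hφ : Function.Injective φ)
    (hA : Nat.card A = 9) (hP : Nat.card P = 16) :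
    ∃ V W : Subgroup P, Nat.card V = 4 ∧ Nat.card W = 4 ∧ V ⊓ W = ⊥ ∧
      (∀ a : A, ∀ v ∈ V, φ a v ∈ V) ∧ (∀ a : A, ∀ w ∈ W, φ a w ∈ W) ∧
      (∀ u ∈ V, u ≠ 1 → ∀ v ∈ V, v ≠ 1 → ∃ a : A, (∀ w ∈ W, φ a w = w) ∧ φ a u = v) ∧
      (∀ u ∈ W, u ≠ 1 → ∀ v ∈ W, v ≠ 1 → ∃ a : A, (∀ w ∈ V, φ a w = w) ∧ φ a u = v) := by
  classical
  haveI : Fact (Nat.Prime 3) := ⟨Nat.prime_three⟩
  haveI : Fintype A := Fintype.ofFinite A
  haveI : Fintype P := Fintype.ofFinite P
  have hcomm : ∀ a b : A, a * b = b * a := fun a b =>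
    IsPGroup.commutative_of_card_eq_prime_sq (p := 3) (by rw [hA]; norm_num) a b
  -- a nontrivial element fixes one or four points
  have hfour : ∀ a : A, a ≠ 1 → Nat.card (fix φ a) = 1 ∨ Nat.card (fix φ a) = 4 := by
    intro a ha
    letI : MulAction A P := MulAction.compHom P φ
    have hpA : IsPGroup 3 A := IsPGroup.of_card (n := 2) (by rw [hA]; norm_num)
    have hm := (hpA.to_subgroup (Subgroup.zpowers a)).card_modEq_card_fixedPoints P
    have he : Nat.card (MulAction.fixedPoints (Subgroup.zpowers a) P) = Nat.card (fix φ a) := by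
      refine Nat.card_congr (Equiv.setCongr (Set.ext fun x => ?_))
      constructor
      · exact fun h => h ⟨a, Subgroup.mem_zpowers a⟩
      · rintro h ⟨b, hb⟩
        show b • x = x
        exact (Subgroup.zpowers_le.2 (show a ∈ MulAction.stabilizer A x from h)) hb
    rw [hP, he, Nat.ModEq] at hm
    have hd : Nat.card (fix φ a) ∣ 2 ^ 4 := by
      have := Subgroup.card_subgroup_dvd_card (fix φ a)
      rw [hP] at this
      exact this
    obtain ⟨i, hi, e⟩ := (Nat.dvd_prime_pow Nat.prime_two).1 hd
    rw [e] at hm ⊢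
    interval_cases i
    · exact Or.inl rfl
    · norm_num at hm
    · exact Or.inr rfl
    · norm_num at hm
    · exfalso
      have htop : fix φ a = ⊤ := Subgroup.eq_top_of_card_eq _ (by rw [e, hP]; norm_num)
      refine ha (hφ (MulEquiv.ext fun x => ?_))
      rw [map_one]
      exact mem_fix.1 (htop ▸ Subgroup.mem_top x)
  -- the number of elements with four fixed points is one modulo three
  set T := Finset.univ.filter fun a : A => a ≠ 1 ∧ Nat.card (fix φ a) = 4 with hT
  have hTmem : ∀ a : A, a ∈ T ↔ a ≠ 1 ∧ Nat.card (fix φ a) = 4 := fun a => by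
    simp only [hT, Finset.mem_filter, Finset.mem_univ, true_and]
  have hT3 : T.card % 3 = 1 := by
    letI : MulAction A P := MulAction.compHom P φ
    haveI : Fintype (Quotient (MulAction.orbitRel A P)) := Fintype.ofFinite _
    haveI : ∀ a : A, Fintype (MulAction.fixedBy P a) := fun a => Fintype.ofFinite _
    have h := MulAction.sum_card_fixedBy_eq_card_orbits_mul_card_group A P
    have h1 : ∀ a : A, Fintype.card (MulAction.fixedBy P a) = Nat.card (fix φ a) := fun a => by
      rw [← Nat.card_eq_fintype_card]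
      rfl
    simp only [h1] at h
    rw [← Nat.card_eq_fintype_card (α := A), hA, ← Finset.add_sum_erase _ _ (Finset.mem_univ (1 : A))]
      at h
    have h16 : Nat.card (fix φ (1 : A)) = 16 := by
      have : fix φ (1 : A) = ⊤ := eq_top_iff.2 fun x _ => by simp [mem_fix]
      rw [this, Subgroup.card_top, hP]
    have h2 : ∑ a ∈ Finset.univ.erase (1 : A), Nat.card (fix φ a) =
        ∑ a ∈ Finset.univ.erase (1 : A), (1 + if a ∈ T then 3 else 0) :=
      Finset.sum_congr rfl fun a ha => by
        have hne := (Finset.mem_erase.1 ha).1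
        rcases hfour a hne with e | e
        · rw [e, if_neg fun hc => by have := ((hTmem a).1 hc).2; omega]
        · rw [e, if_pos ((hTmem a).2 ⟨hne, e⟩)]
    have hTsub : (Finset.univ.erase (1 : A)).filter (· ∈ T) = T := by
      ext a
      simp [hT]
    rw [h2, Finset.sum_add_distrib, ← Finset.card_eq_sum_ones, Finset.card_erase_of_mem
      (Finset.mem_univ _), Finset.card_univ, ← Nat.card_eq_fintype_card, hA, ← Finset.sum_filter,
      hTsub, Finset.sum_const, h16, smul_eq_mul] at h
    omega
  -- the kernel of the action on a plane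
  let ker : Subgroup P → Subgroup A := fun V =>
    { carrier := {a | ∀ v ∈ V, φ a v = v}
      one_mem' := fun v _ => by simp
      mul_mem' := fun {a b} ha hb v hv => by
        rw [map_mul, MulAut.mul_apply, hb v hv, ha v hv]
      inv_mem' := fun {a} ha v hv => by
        rw [map_inv, MulAut.inv_apply]
        exact (φ a).injective (by simp [ha v hv]) }
  have hle4 : ∀ (U : Subgroup P) (a : A), a ≠ 1 → U ≤ fix φ a → Nat.card U = 4 → U = fix φ a := by
    intro U a ha hU hc
    refine Subgroup.eq_of_le_of_card_ge hU ?_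
    rcases hfour a ha with e | e <;> omega
  -- two different planes occur
  obtain ⟨a₁, ha₁⟩ : T.Nonempty := Finset.card_pos.1 (by omega)
  simp only [hT, Finset.mem_filter, Finset.mem_univ, true_and] at ha₁
  set V := fix φ a₁ with hVdef
  obtain ⟨a₂, ha₂, hne⟩ : ∃ a, (a ≠ 1 ∧ Nat.card (fix φ a) = 4) ∧ fix φ a ≠ V := by
    by_contra hcon
    push Not at hcon
    have hker : (ker V : Set A) = insert 1 (T : Set A) := by
      ext a
      constructor
      · intro ha
        by_cases h1 : a = 1
        · exact Or.inl h1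
        · refine Or.inr ?_
          have := hle4 V a h1 (fun v hv => ha v hv) ha₁.2
          exact (hTmem a).2 ⟨h1, by rw [← this]; exact ha₁.2⟩
      · rintro (rfl | ha)
        · exact (ker V).one_mem
        · intro v hv
          exact mem_fix.1 ((hcon a ((hTmem a).1 ha)).symm ▸ hv)
    have hc : Nat.card (ker V) = T.card + 1 := by
      rw [show Nat.card (ker V) = Set.ncard (ker V : Set A) from Nat.card_coe_set_eq _,
        hker, Set.ncard_insert_of_notMem (fun h => ((hTmem 1).1 h).1 rfl), Set.ncard_coe_finset]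
    have hd : Nat.card (ker V) ∣ 3 ^ 2 := by
      have := Subgroup.card_subgroup_dvd_card (ker V)
      rw [hA] at this
      exact this
    obtain ⟨i, hi, e⟩ := (Nat.dvd_prime_pow Nat.prime_three).1 hd
    rw [e] at hc
    interval_cases i <;> omega
  set W := fix φ a₂ with hWdef
  -- the planes are stable and meet trivially
  have hstab : ∀ (c a : A), ∀ v ∈ fix φ c, φ a v ∈ fix φ c := by
    intro c a v hv
    rw [mem_fix, ← MulAut.mul_apply, ← map_mul, hcomm, map_mul, MulAut.mul_apply, mem_fix.1 hv]
  have hinf : V ⊓ W = ⊥ := by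
    rw [Subgroup.eq_bot_iff_forall]
    intro x hx
    by_contra hx1
    -- a common fixed point would be fixed by all of `A`
    have h3 : Nat.card (ker V ⊓ ker W : Subgroup A) = 1 := by
      rw [Subgroup.card_eq_one, Subgroup.eq_bot_iff_forall]
      rintro a ⟨h1, h2⟩
      by_contra ha
      exact hne ((hle4 W a ha (fun v hv => h2 v hv) ha₂.2).trans
        (hle4 V a ha (fun v hv => h1 v hv) ha₁.2).symm)
    let S : Subgroup A := ker (Subgroup.zpowers x)
    have hS : ker V ⊔ ker W ≤ S := by
      refine sup_le (fun a ha v hv => ?_) (fun a ha v hv => ?_)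
      · exact ha v (Subgroup.zpowers_le.2 hx.1 hv)
      · exact ha v (Subgroup.zpowers_le.2 hx.2 hv)
    have h1 : ker V ≠ ⊥ := fun h => ha₁.1 (by
      have : a₁ ∈ ker V := fun v hv => hv
      rwa [h, Subgroup.mem_bot] at this)
    have h2 : ker W ≠ ⊥ := fun h => ha₂.1 (by
      have : a₂ ∈ ker W := fun v hv => hv
      rwa [h, Subgroup.mem_bot] at this)
    have hlt : ker V < ker V ⊔ ker W := lt_of_le_of_ne le_sup_left fun h => h2 (by
      rw [eq_bot_iff]
      intro a ha
      have h' : a ∈ (ker V ⊓ ker W : Subgroup A) := ⟨h.symm ▸ Subgroup.mem_sup_right ha, ha⟩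
      rwa [Subgroup.card_eq_one.1 h3] at h')
    have hcard : ∀ K : Subgroup A, Nat.card K = 1 ∨ Nat.card K = 3 ∨ Nat.card K = 9 := by
      intro K
      have := Subgroup.card_subgroup_dvd_card K
      rw [hA, show (9 : ℕ) = 3 ^ 2 by norm_num] at this
      obtain ⟨i, hi, e⟩ := (Nat.dvd_prime_pow Nat.prime_three).1 this
      interval_cases i <;> omega
    have hSA : S = ⊤ := by
      refine Subgroup.eq_top_of_le_card _ ?_
      have hlt' : Nat.card (ker V) < Nat.card (ker V ⊔ ker W : Subgroup A) :=
        (Subgroup.card_le_of_le hlt.le).lt_of_ne fun h =>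
          hlt.ne (Subgroup.eq_of_le_of_card_ge hlt.le h.ge)
      have := Subgroup.card_le_of_le hS
      have h1' : Nat.card (ker V) ≠ 1 := fun h => h1 (Subgroup.card_eq_one.1 h)
      rcases hcard (ker V) with e | e | e <;> rcases hcard (ker V ⊔ ker W) with e' | e' | e' <;> omega
    have hall : ∀ a : A, a ≠ 1 → a ∈ T := by
      intro a ha
      refine Finset.mem_filter.2 ⟨Finset.mem_univ _, ha, (hfour a ha).resolve_left fun e => hx1 ?_⟩
      have hxa : x ∈ fix φ a := (hSA ▸ Subgroup.mem_top a : a ∈ S) x (Subgroup.mem_zpowers x)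
      rwa [Subgroup.card_eq_one.1 e, Subgroup.mem_bot] at hxa
    have : T.card = 8 := by
      have : T = Finset.univ.erase (1 : A) := by
        ext a
        constructor
        · intro h; exact Finset.mem_erase.2 ⟨(Finset.mem_filter.1 h).2.1, Finset.mem_univ _⟩
        · intro h; exact hall a (Finset.mem_erase.1 h).1
      rw [this, Finset.card_erase_of_mem (Finset.mem_univ _), Finset.card_univ,
        ← Nat.card_eq_fintype_card, hA]
    omega
  -- transitivity
  have htr : ∀ c d : A, c ≠ 1 → d ≠ 1 → Nat.card (fix φ c) = 4 → Nat.card (fix φ d) = 4 →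
      fix φ c ⊓ fix φ d = ⊥ → ∀ u ∈ fix φ c, u ≠ 1 → ∀ v ∈ fix φ c, v ≠ 1 →
      ∃ a : A, (∀ w ∈ fix φ d, φ a w = w) ∧ φ a u = v := by
    intro c d hc hd hc4 hd4 hcd u hu hu1 v hv hv1
    let Z := {x : fix φ c // x ≠ 1}
    have hZ : Nat.card Z = 3 := by
      haveI : Fintype (fix φ c) := Fintype.ofFinite _
      show Nat.card {x : fix φ c // x ≠ 1} = 3
      rw [Nat.card_eq_fintype_card, Fintype.card_subtype_compl, Fintype.card_subtype_eq,
        ← Nat.card_eq_fintype_card, hc4]
    let f : ker (fix φ d) → Z := fun a => ⟨⟨φ a.1 u, hstab c a.1 u hu⟩, fun h => hu1 (by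
      have := congrArg Subtype.val h
      simpa using this)⟩
    have hinj : Function.Injective f := by
      intro a b hab
      by_contra hne'
      have h1 : φ a.1 u = φ b.1 u := congrArg (fun z : Z => (z.1 : P)) hab
      have hg1 : (b.1⁻¹ * a.1) ≠ 1 := fun h => hne' (Subtype.ext (inv_mul_eq_one.1 h).symm)
      have hu' : u ∈ fix φ (b.1⁻¹ * a.1) := by
        rw [mem_fix, map_mul, MulAut.mul_apply, h1, ← MulAut.mul_apply, ← map_mul, inv_mul_cancel,
          map_one, MulAut.one_apply]
      have := hle4 (fix φ d) _ hg1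
        (fun w hw => (mul_mem (inv_mem b.2) a.2 : (b.1⁻¹ * a.1) ∈ ker (fix φ d)) w hw) hd4
      rw [← this] at hu'
      have h : u ∈ (fix φ c ⊓ fix φ d : Subgroup P) := ⟨hu, hu'⟩
      rw [hcd, Subgroup.mem_bot] at h
      exact hu1 h
    have hsurj : Function.Surjective f := by
      have hk : 3 ≤ Nat.card (ker (fix φ d)) := by
        have hdm : d ∈ ker (fix φ d) := fun w hw => hw
        have h1 : Nat.card (ker (fix φ d)) ≠ 1 := fun h => hd (by
          rw [Subgroup.card_eq_one.1 h, Subgroup.mem_bot] at hdm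
          exact hdm)
        have := Subgroup.card_subgroup_dvd_card (ker (fix φ d))
        rw [hA, show (9 : ℕ) = 3 ^ 2 by norm_num] at this
        obtain ⟨i, hi, e⟩ := (Nat.dvd_prime_pow Nat.prime_three).1 this
        interval_cases i <;> omega
      have hle := Nat.card_le_card_of_injective f hinj
      exact ((Nat.bijective_iff_injective_and_card f).2 ⟨hinj, by omega⟩).2
    obtain ⟨a, ha⟩ := hsurj ⟨⟨v, hv⟩, fun h => hv1 (congrArg Subtype.val h)⟩
    exact ⟨a.1, fun w hw => a.2 w hw, congrArg (fun z : Z => (z.1 : P)) ha⟩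
  exact ⟨V, W, ha₁.2, ha₂.2, hinf, hstab a₁, hstab a₂,
    htr a₁ a₂ ha₁.1 ha₂.1 ha₁.2 ha₂.2 hinf,
    htr a₂ a₁ ha₂.1 ha₁.1 ha₂.2 ha₁.2 (inf_comm W V ▸ hinf)⟩

end CfsgLib.BlocksCharsC.Sixteen
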