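import Cfsg.Prelude.Def_Characters
import Cfsg.Agent.Characters.Generalized
import Cfsg.Agent.GaloisAverage.RealVector.Orthogonal
import Mathlib.GroupTheory.GroupAction.MultipleTransitivity
import Mathlib.GroupTheory.GroupAction.SubMulAction.Combination

/-!
# Three characters of a four times transitive group

With `f` the number of fixed points and `t` the number of points in two-cycles, the functions
`f - 1`, `(f (f - 3) + t) / 2` and `((f - 1) (f - 2) - t) / 2` are irreducible characters.
-/

set_option autoImplicit false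
set_option linter.unusedSectionVars false
set_option linter.style.haveILetI false

namespace CfsgLib.BlocksCharsC

open MulAction Finset
open scoped Classical ComplexConjugate Pointwise

universe u

variable {G : Type u} [Group G] [Fintype G] (α : Type) [Fintype α] [MulAction G α]

/-- The number of fixed points. -/
noncomputable def fixCount (g : G) : ℕ := Fintype.card {x : α // g • x = x}

/-- The number of points in two-cycles. -/
noncomputable def swapCount (g : G) : ℕ := Fintype.card {x : α // g • g • x = x ∧ g • x ≠ x}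

theorem fixCount_one : fixCount α (1 : G) = Fintype.card α :=
  Fintype.card_congr (Equiv.subtypeUnivEquiv fun x => one_smul G x)

theorem swapCount_one : swapCount α (1 : G) = 0 :=
  Fintype.card_eq_zero_iff.2 ⟨fun x => x.2.2 (one_smul G _)⟩

/-- On average one embedding is moved as a given permutation of its indices. -/
theorem sum_card_moved_emb (k : ℕ) (hk : k ≤ Fintype.card α)
    [hG : IsMultiplyPretransitive G α k] (π : Equiv.Perm (Fin k)) :
    ∑ g : G, Fintype.card {a : Fin k ↪ α // g • a = π.toEmbedding.trans a} = Fintype.card G := by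
  obtain ⟨a₀⟩ : Nonempty (Fin k ↪ α) :=
    Function.Embedding.nonempty_of_card_le (by simpa using hk)
  have hfib : ∀ a b : Fin k ↪ α,
      Nat.card {g : G // g • a = b} = Nat.card (stabilizer G a) := by
    intro a b
    obtain ⟨g₀, rfl⟩ := exists_smul_eq G a b
    refine Nat.card_congr ((Equiv.mulLeft g₀⁻¹).subtypeEquiv fun g => ?_)
    rw [mem_stabilizer_iff]
    exact ⟨fun h => by rw [Equiv.coe_mulLeft, mul_smul, h, inv_smul_smul],
      fun h => by rwa [Equiv.coe_mulLeft, mul_smul, inv_smul_eq_iff] at h⟩
  have hstab : ∀ a : Fin k ↪ α,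
      Nat.card (stabilizer G a) * Fintype.card (Fin k ↪ α) = Fintype.card G := fun a => by
    rw [← Nat.card_eq_fintype_card (α := Fin k ↪ α), ← index_stabilizer_of_transitive G a,
      Subgroup.card_mul_index, Nat.card_eq_fintype_card]
  calc ∑ g : G, Fintype.card {a : Fin k ↪ α // g • a = π.toEmbedding.trans a}
      = ∑ a : Fin k ↪ α, Fintype.card {g : G // g • a = π.toEmbedding.trans a} := by
        simp only [Fintype.card_subtype, card_filter]
        exact sum_comm
    _ = ∑ _a : Fin k ↪ α, Nat.card (stabilizer G a₀) :=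
        sum_congr rfl fun a _ => by
          rw [← Nat.card_eq_fintype_card, hfib]
          exact Nat.eq_of_mul_eq_mul_right (Fintype.card_pos_iff.2 ⟨a₀⟩)
            ((hstab a).trans (hstab a₀).symm)
    _ = Fintype.card G := by
        rw [sum_const, card_univ, smul_eq_mul, mul_comm, hstab]

theorem card_fixed_emb (g : G) (k : ℕ) :
    Fintype.card {a : Fin k ↪ α // g • a = (1 : Equiv.Perm (Fin k)).toEmbedding.trans a} =
      (fixCount α g).descFactorial k := by
  rw [show (fixCount α g).descFactorial k = Fintype.card (Fin k ↪ {x : α // g • x = x}) by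
    rw [Fintype.card_embedding_eq, Fintype.card_fin, fixCount]]
  refine Fintype.card_congr
    { toFun := fun a => ⟨fun i => ⟨a.1 i, DFunLike.congr_fun a.2 i⟩,
        fun i j h => a.1.injective (Subtype.ext_iff.1 h)⟩
      invFun := fun a => ⟨a.trans (Function.Embedding.subtype _),
        DFunLike.ext _ _ fun i => (a i).2⟩
      left_inv := fun a => Subtype.ext (DFunLike.ext _ _ fun i => rfl)
      right_inv := fun a => DFunLike.ext _ _ fun i => rfl }

theorem card_swap_emb (g : G) :
    Fintype.card {a : Fin 2 ↪ α // g • a = (Equiv.swap (0 : Fin 2) 1).toEmbedding.trans a} =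
      swapCount α g := by
  refine Fintype.card_congr
    { toFun := fun a => ⟨a.1 0, ?_⟩
      invFun := fun x => ⟨⟨![x.1, g • x.1], ?_⟩, ?_⟩
      left_inv := ?_
      right_inv := fun x => Subtype.ext rfl }
  · have h0 : g • a.1 0 = a.1 1 := DFunLike.congr_fun a.2 0
    have h1 : g • a.1 1 = a.1 0 := DFunLike.congr_fun a.2 1
    exact ⟨by rw [h0, h1], fun h => by simpa using a.1.injective (h0.symm.trans h)⟩
  · intro i j h
    have := x.2.2
    fin_cases i <;> fin_cases j <;> first | rfl | (exfalso; simp at h; grind)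
  · refine DFunLike.ext _ _ fun i => ?_
    fin_cases i
    · rfl
    · exact x.2.1
  · intro a
    refine Subtype.ext (DFunLike.ext _ _ fun i => ?_)
    fin_cases i
    · rfl
    · exact DFunLike.congr_fun a.2 0

theorem card_swap_fixed_emb (g : G) :
    Fintype.card {a : Fin 3 ↪ α // g • a = (Equiv.swap (0 : Fin 3) 1).toEmbedding.trans a} =
      swapCount α g * fixCount α g := by
  rw [swapCount, fixCount, ← Fintype.card_prod]
  refine Fintype.card_congr
    { toFun := fun a => (⟨a.1 0, ?_⟩, ⟨a.1 2, ?_⟩)
      invFun := fun x => ⟨⟨![x.1.1, g • x.1.1, x.2.1], ?_⟩, ?_⟩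
      left_inv := ?_
      right_inv := fun x => rfl }
  · have h0 : g • a.1 0 = a.1 1 := DFunLike.congr_fun a.2 0
    have h1 : g • a.1 1 = a.1 0 := DFunLike.congr_fun a.2 1
    exact ⟨by rw [h0, h1], fun h => by simpa using a.1.injective (h0.symm.trans h)⟩
  · exact DFunLike.congr_fun a.2 2
  · obtain ⟨⟨x, hx, hx'⟩, ⟨z, hz⟩⟩ := x
    have h1 : x ≠ z := fun h => hx' (h ▸ hz)
    have h2 : g • x ≠ z := fun h => hx' (by rw [← h] at hz; exact hz.symm.trans hx)
    intro i j h
    fin_cases i <;> fin_cases j <;> first | rfl | (exfalso; simp at h; grind)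
  · obtain ⟨⟨x, hx, hx'⟩, ⟨z, hz⟩⟩ := x
    refine DFunLike.ext _ _ fun i => ?_
    fin_cases i
    · rfl
    · exact hx
    · exact hz
  · intro a
    refine Subtype.ext (DFunLike.ext _ _ fun i => ?_)
    fin_cases i
    · rfl
    · exact DFunLike.congr_fun a.2 0
    · rfl

theorem card_swap_fixed_two_emb (g : G) :
    Fintype.card {a : Fin 4 ↪ α // g • a = (Equiv.swap (0 : Fin 4) 1).toEmbedding.trans a} =
      swapCount α g * (fixCount α g).descFactorial 2 := by
  rw [show (fixCount α g).descFactorial 2 = Fintype.card (Fin 2 ↪ {x : α // g • x = x}) by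
      rw [Fintype.card_embedding_eq, Fintype.card_fin, fixCount],
    swapCount, ← Fintype.card_prod]
  refine Fintype.card_congr
    { toFun := fun a => (⟨a.1 0, ?_⟩, ⟨![⟨a.1 2, ?_⟩, ⟨a.1 3, ?_⟩], ?_⟩)
      invFun := fun x => ⟨⟨![x.1.1, g • x.1.1, (x.2 0).1, (x.2 1).1], ?_⟩, ?_⟩
      left_inv := ?_
      right_inv := ?_ }
  · have h0 : g • a.1 0 = a.1 1 := DFunLike.congr_fun a.2 0
    have h1 : g • a.1 1 = a.1 0 := DFunLike.congr_fun a.2 1
    exact ⟨by rw [h0, h1], fun h => by simpa using a.1.injective (h0.symm.trans h)⟩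
  · exact DFunLike.congr_fun a.2 2
  · exact DFunLike.congr_fun a.2 3
  · intro i j h
    fin_cases i <;> fin_cases j <;>
      first | rfl | (exfalso; simpa using a.1.injective (Subtype.ext_iff.1 h))
  · obtain ⟨⟨x, hx, hx'⟩, b⟩ := x
    have h3 : (b 0).1 ≠ (b 1).1 := fun h => by simpa using b.injective (Subtype.ext h)
    have h1 : ∀ i, x ≠ (b i).1 := fun i h => hx' (h ▸ (b i).2)
    have h2 : ∀ i, g • x ≠ (b i).1 := fun i h => hx' (by
      have := (b i).2; rw [← h] at this; exact this.symm.trans hx)
    intro i j h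
    fin_cases i <;> fin_cases j <;> first | rfl | (exfalso; simp at h; grind)
  · obtain ⟨⟨x, hx, hx'⟩, b⟩ := x
    refine DFunLike.ext _ _ fun i => ?_
    fin_cases i
    · rfl
    · exact hx
    · exact (b 0).2
    · exact (b 1).2
  · intro a
    refine Subtype.ext (DFunLike.ext _ _ fun i => ?_)
    fin_cases i
    · rfl
    · exact DFunLike.congr_fun a.2 0
    · rfl
    · rfl
  · intro x
    refine Prod.ext rfl (DFunLike.ext _ _ fun i => ?_)
    fin_cases i <;> rfl

theorem card_swap_swap_emb (g : G) :
    Fintype.card {a : Fin 4 ↪ α //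
      g • a = (Equiv.swap (0 : Fin 4) 1 * Equiv.swap 2 3).toEmbedding.trans a} =
      swapCount α g * (swapCount α g - 2) := by
  let T := {x : α // g • g • x = x ∧ g • x ≠ x}
  have hfib : ∀ x : T, Fintype.card {z : T // z.1 ≠ x.1 ∧ z.1 ≠ g • x.1} = swapCount α g - 2 := by
    intro x
    let y : T := ⟨g • x.1, by rw [x.2.1], fun h => x.2.2 (h.symm.trans x.2.1)⟩
    have hxy : x ≠ y := fun h => x.2.2 (Subtype.ext_iff.1 h).symm
    rw [Fintype.card_subtype, swapCount]
    have : (univ.filter fun z : T => z.1 ≠ x.1 ∧ z.1 ≠ g • x.1) = univ \ {x, y} := by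
      ext z
      simp only [mem_filter, Finset.mem_univ, true_and, Finset.mem_sdiff, Finset.mem_insert,
        Finset.mem_singleton, not_or]
      exact ⟨fun h => ⟨fun e => h.1 (congrArg Subtype.val e), fun e => h.2 (congrArg Subtype.val e)⟩,
        fun h => ⟨fun e => h.1 (Subtype.ext e), fun e => h.2 (Subtype.ext e)⟩⟩
    rw [this, card_sdiff_of_subset (subset_univ _), card_pair hxy, card_univ]
  rw [show swapCount α g * (swapCount α g - 2) =
      Fintype.card (Σ x : T, {z : T // z.1 ≠ x.1 ∧ z.1 ≠ g • x.1}) by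
    simp only [Fintype.card_sigma, hfib, sum_const, card_univ, smul_eq_mul]
    rfl]
  refine Fintype.card_congr
    { toFun := fun a => ⟨⟨a.1 0, ?_⟩, ⟨⟨a.1 2, ?_⟩, ?_, ?_⟩⟩
      invFun := fun x => ⟨⟨![x.1.1, g • x.1.1, x.2.1.1, g • x.2.1.1], ?_⟩, ?_⟩
      left_inv := ?_
      right_inv := fun x => rfl }
  · have h0 : g • a.1 0 = a.1 1 := DFunLike.congr_fun a.2 0
    have h1 : g • a.1 1 = a.1 0 := DFunLike.congr_fun a.2 1
    exact ⟨by rw [h0, h1], fun h => by simpa using a.1.injective (h0.symm.trans h)⟩
  · have h0 : g • a.1 2 = a.1 3 := DFunLike.congr_fun a.2 2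
    have h1 : g • a.1 3 = a.1 2 := DFunLike.congr_fun a.2 3
    exact ⟨by rw [h0, h1], fun h => by simpa using a.1.injective (h0.symm.trans h)⟩
  · exact fun h => by simpa using a.1.injective h
  · have h0 : g • a.1 0 = a.1 1 := DFunLike.congr_fun a.2 0
    exact fun h => by simpa using a.1.injective (h.trans h0)
  · obtain ⟨⟨x, hx, hx'⟩, ⟨⟨z, hz, hz'⟩, hzx, hzy⟩⟩ := x
    change z ≠ x at hzx
    change z ≠ g • x at hzy
    have h1 : g • z ≠ x := fun h => hzy (by rw [← h, hz])
    have h2 : g • z ≠ g • x := fun h => hzx (smul_left_cancel g h)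
    intro i j h
    fin_cases i <;> fin_cases j <;> first | rfl | (exfalso; simp at h; grind)
  · refine DFunLike.ext _ _ fun i => ?_
    fin_cases i
    · rfl
    · exact x.1.2.1
    · rfl
    · exact x.2.1.2.1
  · intro a
    refine Subtype.ext (DFunLike.ext _ _ fun i => ?_)
    fin_cases i
    · rfl
    · exact DFunLike.congr_fun a.2 0
    · rfl
    · exact DFunLike.congr_fun a.2 2

/-- Twice the number of fixed two-element sets. -/
theorem two_mul_card_fixed_pairs (g : G) :
    2 * Nat.card {s : Set.powersetCard α 2 // g • s = s} =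
      (fixCount α g).descFactorial 2 + swapCount α g := by
  let p : Set.powersetCard α 2 → Prop := fun s => g • s = s
  let π := Set.powersetCard.mulActionHom_of_embedding G α 2
  have hfib : ∀ s : Set.powersetCard α 2, Fintype.card {a : Fin 2 ↪ α // π a = s} = 2 := by
    intro s
    obtain ⟨a, rfl⟩ := Set.powersetCard.mulActionHom_of_embedding_surjective G α (n := 2) s
    refine Eq.trans (Fintype.card_congr (Equiv.ofBijective
      (fun b : Fin 2 ↪ Fin 2 => (⟨b.trans a, ?_⟩ : {c : Fin 2 ↪ α // π c = π a})) ⟨?_, ?_⟩).symm)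
      (by rw [Fintype.card_embedding_eq, Fintype.card_fin]; rfl)
    · apply Subtype.ext
      change univ.map (b.trans a) = univ.map a
      rw [← map_map]
      congr 1
      exact eq_univ_of_card _ (by simp)
    · intro b c h
      exact DFunLike.ext _ _ fun i => a.injective (DFunLike.congr_fun (Subtype.ext_iff.1 h) i)
    · rintro ⟨c, hc⟩
      have hc' : univ.map c = univ.map a := congrArg Subtype.val hc
      have hmem : ∀ i, ∃ j, a j = c i := fun i => by
        have : c i ∈ univ.map c := mem_map_of_mem _ (mem_univ _)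
        rw [hc'] at this
        obtain ⟨j, -, hj⟩ := mem_map.1 this
        exact ⟨j, hj⟩
      choose b hb using hmem
      refine ⟨⟨b, fun i j h => c.injective (by rw [← hb, ← hb, h])⟩, Subtype.ext ?_⟩
      exact DFunLike.ext _ _ hb
  have hcount : Fintype.card {a : Fin 2 ↪ α // p (π a)} = 2 * Fintype.card {s // p s} := by
    rw [← Fintype.card_congr (Equiv.sigmaSubtypeFiberEquivSubtype π (q := p) (fun _ => Iff.rfl)),
      Fintype.card_sigma]
    simp only [hfib, sum_const, card_univ, smul_eq_mul, mul_comm]
  rw [Nat.card_eq_fintype_card, ← hcount, ← card_fixed_emb α g 2, ← card_swap_emb α g,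
    ← Fintype.card_subtype_or_disjoint]
  · refine Fintype.card_congr (Equiv.subtypeEquivRight fun a => ?_)
    constructor
    · intro h
      have h' : univ.map (g • a) = univ.map a :=
        congrArg Subtype.val ((π.map_smul g a).trans h)
      have hmem : ∀ i, g • a i = a 0 ∨ g • a i = a 1 := fun i => by
        have : (g • a) i ∈ univ.map (g • a) := mem_map_of_mem _ (mem_univ _)
        rw [h', mem_map] at this
        obtain ⟨j, -, hj⟩ := this
        fin_cases j
        · exact Or.inl hj.symm
        · exact Or.inr hj.symm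
      have hne : g • a 0 ≠ g • a 1 := fun hh => by
        simpa using a.injective (smul_left_cancel g hh)
      rcases hmem 0 with h0 | h0 <;> rcases hmem 1 with h1 | h1
      · exact absurd (h0.trans h1.symm) hne
      · exact Or.inl (DFunLike.ext _ _ fun i => by fin_cases i <;> assumption)
      · exact Or.inr (DFunLike.ext _ _ fun i => by fin_cases i <;> assumption)
      · exact absurd (h0.trans h1.symm) hne
    · intro h
      refine (π.map_smul g a).symm.trans (Subtype.ext ?_)
      change univ.map (g • a) = univ.map a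
      rcases h with h | h <;> rw [h, ← map_map] <;> congr 1 <;> simp
  · rintro r h1 h2 a ha
    have e : (1 : Equiv.Perm (Fin 2)).toEmbedding.trans a =
        (Equiv.swap (0 : Fin 2) 1).toEmbedding.trans a := (h1 a ha).symm.trans (h2 a ha)
    simpa using a.injective (DFunLike.congr_fun e 0)

/-- The first character. -/
noncomputable def charOne (g : G) : ℂ := (fixCount α g : ℂ) - 1

/-- The second character. -/
noncomputable def charTwo (g : G) : ℂ :=
  ((fixCount α g : ℂ) * ((fixCount α g : ℂ) - 3) + (swapCount α g : ℂ)) / 2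

/-- The third character. -/
noncomputable def charThree (g : G) : ℂ :=
  (((fixCount α g : ℂ) - 1) * ((fixCount α g : ℂ) - 2) - (swapCount α g : ℂ)) / 2

theorem isGen_fixCount :
    Cfsg.IsGeneralizedCharacter G (fun g : G => (fixCount α g : ℂ)) := by
  refine Characters.isGen_of_isCharacter ?_
  simpa only [fixCount, ← Nat.card_eq_fintype_card] using
    GaloisAverage.isCharacter_card_fixed (H := G) (Y := α)

theorem isGen_pairs : Cfsg.IsGeneralizedCharacter G
    (fun g : G => (Nat.card {s : Set.powersetCard α 2 // g • s = s} : ℂ)) :=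
  Characters.isGen_of_isCharacter GaloisAverage.isCharacter_card_fixed

theorem cast_two_mul_pairs (g : G) :
    2 * (Nat.card {s : Set.powersetCard α 2 // g • s = s} : ℂ) =
      (fixCount α g : ℂ) * ((fixCount α g : ℂ) - 1) + (swapCount α g : ℂ) := by
  rw [← Nat.cast_descFactorial_two]
  exact_mod_cast two_mul_card_fixed_pairs α g

variable (hα : 4 ≤ Fintype.card α) [IsMultiplyPretransitive G α 4]

include hα in
theorem moments :
    let f : G → ℂ := fun g => (fixCount α g : ℂ)
    let t : G → ℂ := fun g => (swapCount α g : ℂ)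
    let N : ℂ := (Fintype.card G : ℂ)
    ∑ g, f g = N ∧ ∑ g, f g ^ 2 = 2 * N ∧ ∑ g, f g ^ 3 = 5 * N ∧ ∑ g, f g ^ 4 = 15 * N ∧
      ∑ g, t g = N ∧ ∑ g, t g * f g = N ∧ ∑ g, t g * f g ^ 2 = 2 * N ∧
      ∑ g, t g ^ 2 = 3 * N := by
  intro f t N
  have hle : (4 : ℕ∞) ≤ ENat.card α := by
    rw [ENat.card_eq_coe_fintype_card]; exact_mod_cast hα
  haveI : ∀ m : Fin 5, IsMultiplyPretransitive G α m := fun m =>
    isMultiplyPretransitive_of_le' (n := 4) (Nat.le_of_lt_succ m.2) hle
  have key : ∀ (k : ℕ) (hk : k ≤ 4) (π : Equiv.Perm (Fin k)),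
      ∑ g : G, Fintype.card {a : Fin k ↪ α // g • a = π.toEmbedding.trans a} =
        Fintype.card G := fun k hk π => by
    haveI : IsMultiplyPretransitive G α k := this ⟨k, by omega⟩
    exact sum_card_moved_emb α k (hk.trans hα) π
  have e1 : ∑ g, f g = N := by
    have := congrArg (Nat.cast (R := ℂ)) (key 1 (by omega) 1)
    simp only [card_fixed_emb, Nat.descFactorial_one, Nat.cast_sum] at this
    exact this
  have e2 : ∑ g, f g * (f g - 1) = N := by
    have := congrArg (Nat.cast (R := ℂ)) (key 2 (by omega) 1)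
    simp only [card_fixed_emb, Nat.cast_sum, Nat.cast_descFactorial_two] at this
    exact this
  have e3 : ∑ g, f g * (f g - 1) * (f g - 2) = N := by
    have := congrArg (Nat.cast (R := ℂ)) (key 3 (by omega) 1)
    simp only [card_fixed_emb, Nat.cast_sum] at this
    refine Eq.trans (sum_congr rfl fun g _ => ?_) this
    rcases le_or_gt 3 (fixCount α g) with h | h
    · obtain ⟨m, hm⟩ := Nat.exists_eq_add_of_le h
      simp only [f, hm, Nat.descFactorial_succ, Nat.descFactorial_zero, mul_one,
        Nat.sub_zero, show 3 + m - 1 = m + 2 by omega, show 3 + m - 2 = m + 1 by omega]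
      push_cast; ring
    · rw [Nat.descFactorial_eq_zero_iff_lt.2 h]
      simp only [f]
      interval_cases h' : fixCount α g <;> norm_num
  have e4 : ∑ g, f g * (f g - 1) * (f g - 2) * (f g - 3) = N := by
    have := congrArg (Nat.cast (R := ℂ)) (key 4 le_rfl 1)
    simp only [card_fixed_emb, Nat.cast_sum] at this
    refine Eq.trans (sum_congr rfl fun g _ => ?_) this
    rcases le_or_gt 4 (fixCount α g) with h | h
    · obtain ⟨m, hm⟩ := Nat.exists_eq_add_of_le h
      simp only [f, hm, Nat.descFactorial_succ, Nat.descFactorial_zero, mul_one,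
        Nat.sub_zero, show 4 + m - 1 = m + 3 by omega, show 4 + m - 2 = m + 2 by omega,
        show 4 + m - 3 = m + 1 by omega]
      push_cast; ring
    · rw [Nat.descFactorial_eq_zero_iff_lt.2 h]
      simp only [f]
      interval_cases h' : fixCount α g <;> norm_num
  have e5 : ∑ g, t g = N := by
    have := congrArg (Nat.cast (R := ℂ)) (key 2 (by omega) (Equiv.swap 0 1))
    simp only [card_swap_emb, Nat.cast_sum] at this
    exact this
  have e6 : ∑ g, t g * f g = N := by
    have := congrArg (Nat.cast (R := ℂ)) (key 3 (by omega) (Equiv.swap 0 1))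
    simp only [card_swap_fixed_emb, Nat.cast_sum, Nat.cast_mul] at this
    exact this
  have e7 : ∑ g, t g * (f g * (f g - 1)) = N := by
    have := congrArg (Nat.cast (R := ℂ)) (key 4 le_rfl (Equiv.swap 0 1))
    simp only [card_swap_fixed_two_emb, Nat.cast_sum, Nat.cast_mul,
      Nat.cast_descFactorial_two] at this
    exact this
  have e8 : ∑ g, t g * (t g - 2) = N := by
    have := congrArg (Nat.cast (R := ℂ)) (key 4 le_rfl (Equiv.swap 0 1 * Equiv.swap 2 3))
    simp only [card_swap_swap_emb, Nat.cast_sum] at this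
    refine Eq.trans (sum_congr rfl fun g _ => ?_) this
    rcases le_or_gt 2 (swapCount α g) with h | h
    · simp [t, Nat.cast_sub h]
    · have h0 : swapCount α g = 0 := by
        by_contra h0
        obtain ⟨x⟩ : Nonempty {x : α // g • g • x = x ∧ g • x ≠ x} :=
          Fintype.card_pos_iff.1 (Nat.pos_of_ne_zero h0)
        have h1 := Fintype.card_le_one_iff.1 (Nat.le_of_lt_succ h) x
          ⟨g • x.1, by rw [x.2.1], fun hh => x.2.2 (hh.symm.trans x.2.1)⟩
        exact x.2.2 (Subtype.ext_iff.1 h1).symm
      simp [t, h0]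
  have f2 : ∑ g, f g ^ 2 = 2 * N := by
    rw [sum_congr rfl fun g _ => (by ring : f g ^ 2 = f g * (f g - 1) + f g),
      sum_add_distrib, e2, e1]
    ring
  have f3 : ∑ g, f g ^ 3 = 5 * N := by
    rw [sum_congr rfl fun g _ => (by ring : f g ^ 3 =
        f g * (f g - 1) * (f g - 2) + 3 * (f g * (f g - 1)) + f g),
      sum_add_distrib, sum_add_distrib, ← mul_sum, e3, e2, e1]
    ring
  have f4 : ∑ g, f g ^ 4 = 15 * N := by
    rw [sum_congr rfl fun g _ => (by ring : f g ^ 4 = f g * (f g - 1) * (f g - 2) * (f g - 3) +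
        6 * (f g * (f g - 1) * (f g - 2)) + 7 * (f g * (f g - 1)) + f g),
      sum_add_distrib, sum_add_distrib, sum_add_distrib, ← mul_sum, ← mul_sum, e4, e3, e2, e1]
    ring
  refine ⟨e1, f2, f3, f4, e5, e6, ?_, ?_⟩
  · rw [sum_congr rfl fun g _ =>
      (by ring : t g * f g ^ 2 = t g * (f g * (f g - 1)) + t g * f g), sum_add_distrib, e7, e6]
    ring
  · rw [sum_congr rfl fun g _ => (by ring : t g ^ 2 = t g * (t g - 2) + 2 * t g),
      sum_add_distrib, ← mul_sum, e8, e5]
    ring

include hα in
theorem isIrr_charOne : Cfsg.IsIrrCharacter G (charOne (G := G) α) := by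
  refine Characters.isIrr_of_gen_norm_one
    (Characters.isGen_sub (isGen_fixCount α) Characters.isGen_one) ?_ ?_
  · obtain ⟨m1, m2, -⟩ := moments (G := G) α hα
    have e : ∑ g : G, charOne α g * conj (charOne α g) = (Fintype.card G : ℂ) := by
      calc _ = ∑ g : G, ((fixCount α g : ℂ) ^ 2 - 2 * (fixCount α g : ℂ) + 1) :=
            sum_congr rfl fun g _ => by simp only [charOne, map_sub, map_natCast, map_one]; ring
        _ = _ := by
          simp only [sum_add_distrib, sum_sub_distrib, ← mul_sum, m1, m2, sum_const, card_univ,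
            nsmul_eq_mul, mul_one]
          ring
    rw [Cfsg.classInner, e, Nat.card_eq_fintype_card]
    exact inv_mul_cancel₀ (Nat.cast_ne_zero.2 Fintype.card_ne_zero)
  · have : (4 : ℝ) ≤ Fintype.card α := by exact_mod_cast hα
    simp only [charOne, fixCount_one, Complex.sub_re, Complex.natCast_re, Complex.one_re]
    linarith

theorem charTwo_eq : charTwo (G := G) α = fun g =>
    (Nat.card {s : Set.powersetCard α 2 // g • s = s} : ℂ) - (fixCount α g : ℂ) := by
  funext g
  have := cast_two_mul_pairs α g
  unfold charTwo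
  linear_combination (-1 / 2 : ℂ) * this

theorem charThree_eq : charThree (G := G) α =
    (fun g => (fixCount α g : ℂ)) * (fun g => (fixCount α g : ℂ)) -
      (fun g => (fixCount α g : ℂ)) - (fun g => (fixCount α g : ℂ)) + (fun _ => 1) -
      (fun g => (Nat.card {s : Set.powersetCard α 2 // g • s = s} : ℂ)) := by
  funext g
  have := cast_two_mul_pairs α g
  simp only [Pi.mul_apply, Pi.sub_apply, Pi.add_apply]
  unfold charThree
  linear_combination (1 / 2 : ℂ) * this

include hα in
theorem isIrr_charTwo : Cfsg.IsIrrCharacter G (charTwo (G := G) α) := by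
  refine Characters.isIrr_of_gen_norm_one ?_ ?_ ?_
  · rw [charTwo_eq]
    exact Characters.isGen_sub (isGen_pairs α) (isGen_fixCount α)
  · obtain ⟨m1, m2, m3, m4, m5, m6, m7, m8⟩ := moments (G := G) α hα
    have e : ∑ g : G, charTwo α g * conj (charTwo α g) = (Fintype.card G : ℂ) := by
      calc _ = ∑ g : G, (1 / 4 : ℂ) * ((fixCount α g : ℂ) ^ 4 - 6 * (fixCount α g : ℂ) ^ 3
              + 9 * (fixCount α g : ℂ) ^ 2 + 2 * ((swapCount α g : ℂ) * (fixCount α g : ℂ) ^ 2)
              - 6 * ((swapCount α g : ℂ) * (fixCount α g : ℂ)) + (swapCount α g : ℂ) ^ 2) :=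
            sum_congr rfl fun g _ => by
              simp only [charTwo, map_div₀, map_add, map_mul, map_sub, map_natCast, map_ofNat]
              ring
        _ = _ := by
          simp only [← mul_sum, sum_add_distrib, sum_sub_distrib, m2, m3, m4, m6, m7, m8]
          ring
    rw [Cfsg.classInner, e, Nat.card_eq_fintype_card]
    exact inv_mul_cancel₀ (Nat.cast_ne_zero.2 Fintype.card_ne_zero)
  · have h4 : (4 : ℝ) ≤ Fintype.card α := by exact_mod_cast hα
    simp only [charTwo, fixCount_one, swapCount_one, Nat.cast_zero, add_zero,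
      Complex.div_ofNat_re, Complex.mul_re, Complex.sub_re, Complex.sub_im, Complex.natCast_re,
      Complex.natCast_im, Complex.re_ofNat, Complex.im_ofNat]
    nlinarith

include hα in
theorem isIrr_charThree : Cfsg.IsIrrCharacter G (charThree (G := G) α) := by
  refine Characters.isIrr_of_gen_norm_one ?_ ?_ ?_
  · rw [charThree_eq]
    exact Characters.isGen_sub (Characters.isGen_add (Characters.isGen_sub (Characters.isGen_sub
      (Characters.isGen_mul (isGen_fixCount α) (isGen_fixCount α)) (isGen_fixCount α))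
        (isGen_fixCount α)) Characters.isGen_one) (isGen_pairs α)
  · obtain ⟨m1, m2, m3, m4, m5, m6, m7, m8⟩ := moments (G := G) α hα
    have e : ∑ g : G, charThree α g * conj (charThree α g) = (Fintype.card G : ℂ) := by
      calc _ = ∑ g : G, (1 / 4 : ℂ) * ((fixCount α g : ℂ) ^ 4 - 6 * (fixCount α g : ℂ) ^ 3
              + 13 * (fixCount α g : ℂ) ^ 2 - 12 * (fixCount α g : ℂ) + 4
              - 2 * ((swapCount α g : ℂ) * (fixCount α g : ℂ) ^ 2)
              + 6 * ((swapCount α g : ℂ) * (fixCount α g : ℂ)) - 4 * (swapCount α g : ℂ)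
              + (swapCount α g : ℂ) ^ 2) :=
            sum_congr rfl fun g _ => by
              simp only [charThree, map_div₀, map_mul, map_sub, map_natCast, map_ofNat, map_one]
              ring
        _ = _ := by
          simp only [← mul_sum, sum_add_distrib, sum_sub_distrib, m1, m2, m3, m4, m5, m6, m7, m8,
            sum_const, card_univ, nsmul_eq_mul]
          ring
    rw [Cfsg.classInner, e, Nat.card_eq_fintype_card]
    exact inv_mul_cancel₀ (Nat.cast_ne_zero.2 Fintype.card_ne_zero)
  · have h4 : (4 : ℝ) ≤ Fintype.card α := by exact_mod_cast hα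
    simp only [charThree, fixCount_one, swapCount_one, Nat.cast_zero, sub_zero,
      Complex.div_ofNat_re, Complex.mul_re, Complex.sub_re, Complex.sub_im, Complex.natCast_re,
      Complex.natCast_im, Complex.re_ofNat, Complex.im_ofNat, Complex.one_re, Complex.one_im]
    nlinarith

end CfsgLib.BlocksCharsC
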