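import Cfsg.Agent.BlocksCharsC.InvariantIrr
import Cfsg.Agent.BlocksCharsC.CliffordInvariant
import Cfsg.Agent.BlocksCharsC.Restriction
import Cfsg.Agent.CharactersDeep.Clifford
import Cfsg.Agent.OddOrderChar.Reciprocity
import Cfsg.Agent.Transfer.Residual

/-!
# Fully ramified characters over a normal subgroup and the Sylow subgroups of the quotient
-/

set_option autoImplicit false
set_option linter.style.haveILetI false
set_option linter.unusedSectionVars false

namespace CfsgLib.BlocksCharsC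

open CfsgLib.Characters CfsgLib.OddOrderChar
open scoped ComplexConjugate Pointwise

universe u

variable {H : Type u} [Group H] [Fintype H]

/-- `χ` restricts to the normal subgroup `Z` as `e • θ` with `e ^ 2` the index. -/
structure FullyRamified (Z : Subgroup H) [Z.Normal] (χ : H → ℂ) (θ : Z → ℂ) (e : ℕ) : Prop where
  irr : Cfsg.IsIrrCharacter H χ
  irrZ : Cfsg.IsIrrCharacter Z θ
  sq : e ^ 2 = Z.index
  res : ∀ z : Z, χ z = (e : ℂ) * θ z

section

variable {Z : Subgroup H} [Z.Normal] [Fintype Z] {χ : H → ℂ} {θ : Z → ℂ} {e : ℕ}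

/-- A function on a subgroup above `Z` lying over `θ`. -/
def OverZ (θ : Z → ℂ) (L : Subgroup H) (hZL : Z ≤ L) (ψ : L → ℂ) : Prop :=
  Cfsg.classInner (fun z : Z => ψ ⟨z, hZL z.2⟩) θ ≠ 0

theorem FullyRamified.pos (h : FullyRamified Z χ θ e) : 0 < e :=
  Nat.pos_of_ne_zero fun h0 => Subgroup.index_ne_zero_of_finite (H := Z) (by simpa [h0] using h.sq.symm)

theorem FullyRamified.invariant (h : FullyRamified Z χ θ e) (g : H) : conjBy Z θ g = θ := by
  funext z
  have he : (e : ℂ) ≠ 0 := Nat.cast_ne_zero.2 h.pos.ne'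
  refine mul_left_cancel₀ he ?_
  rw [conjBy_apply, ← h.res, ← h.res]
  exact isClassFunction_of_isIrr h.irr z g

/-- The multiplicity of `θ` under a character of an intermediate subgroup. -/
theorem FullyRamified.exists_mult (h : FullyRamified Z χ θ e) (L : Subgroup H) (hZL : Z ≤ L)
    {ψ : L → ℂ} (hψ : Cfsg.IsIrrCharacter L ψ) (hov : OverZ θ L hZL ψ) :
    ∃ a : ℕ, 0 < a ∧ (∀ z : Z, ψ ⟨z, hZL z.2⟩ = (a : ℂ) * θ z) ∧ ψ 1 = (a : ℂ) * θ 1 ∧
      Cfsg.classInner (fun z : Z => ψ ⟨z, hZL z.2⟩) θ = a := by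
  haveI := Fintype.ofFinite L
  let Z' : Subgroup L := Z.subgroupOf L
  haveI : Z'.Normal := inferInstance
  haveI := Fintype.ofFinite Z'
  let E : Z' ≃* Z := Subgroup.subgroupOfEquivOfLe hZL
  let θ' : Z' → ℂ := fun x => θ (E x)
  have hθ' : Cfsg.IsIrrCharacter Z' θ' := isIrrCharacter_comp_mulEquiv h.irrZ E
  have hin : Cfsg.classInner (fun x : Z' => ψ x) θ' =
      Cfsg.classInner (fun z : Z => ψ ⟨z, hZL z.2⟩) θ :=
    classInner_comp_equiv (Subgroup.subgroupOfEquivOfLe hZL) (fun z : Z => ψ ⟨z, hZL z.2⟩) θ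
  obtain ⟨a, ha⟩ := classInner_character_irr (isCharacter_restrict Z' (isCharacter_of_isIrr hψ)) hθ'
  have hne : Cfsg.classInner (fun x : Z' => ψ x) θ' ≠ 0 := hin ▸ hov
  have hres := restrict_eq_smul_of_invariant hθ' (fun g n => congrFun (h.invariant (g : H)) (E n))
    hψ hne
  rw [ha] at hres
  refine ⟨a, Nat.pos_of_ne_zero fun h0 => hne (by rw [ha, h0, Nat.cast_zero]), fun z => ?_, ?_,
    hin ▸ ha⟩
  · exact (hres (E.symm z)).trans (congrArg (fun w => (a : ℂ) * θ w) (E.apply_symm_apply z))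
  · have := hres 1
    simpa [θ'] using this

/-- Constituents of constituents. -/
theorem overZ_iff_of_constituent (h : FullyRamified Z χ θ e) {L L' : Subgroup H} (hZL : Z ≤ L)
    (hLL' : L ≤ L') [Fintype L] {ζ : L → ℂ} (hζ : Cfsg.IsIrrCharacter L ζ) {η : L' → ℂ}
    (hη : Cfsg.IsIrrCharacter L' η)
    (hne : Cfsg.classInner (fun x : L => η ⟨x, hLL' x.2⟩) ζ ≠ 0) :
    OverZ θ L hZL ζ ↔ OverZ θ L' (hZL.trans hLL') η := by
  classical
  have hresL : Cfsg.IsCharacter L (fun x : L => η ⟨x, hLL' x.2⟩) :=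
    isCharacter_comp (Subgroup.inclusion hLL') (isCharacter_of_isIrr hη)
  choose m hm using fun κ : Cfsg.IrrCharacter L => classInner_character_irr hresL κ.2
  -- multiplicities on `Z`
  have hkey : ∀ φ : Cfsg.IrrCharacter Z, Cfsg.classInner (fun z : Z => ζ ⟨z, hZL z.2⟩) (φ : Z → ℂ) ≠ 0 →
      Cfsg.classInner (fun z : Z => η ⟨z, (hZL.trans hLL') z.2⟩) (φ : Z → ℂ) ≠ 0 := by
    intro φ hφ
    choose b hb using fun κ : Cfsg.IrrCharacter L => classInner_character_irr
      (isCharacter_comp (Subgroup.inclusion hZL) (isCharacter_of_isIrr κ.2)) φ.2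
    have hsum : Cfsg.classInner (fun z : Z => η ⟨z, (hZL.trans hLL') z.2⟩) (φ : Z → ℂ) =
        ((∑ κ, m κ * b κ : ℕ) : ℂ) := by
      have h1 : (fun z : Z => η ⟨z, (hZL.trans hLL') z.2⟩) = ∑ κ : Cfsg.IrrCharacter L,
          (m κ : ℂ) • fun z : Z => (κ : L → ℂ) (Subgroup.inclusion hZL z) := by
        funext z
        have := congrFun (character_expansion hresL) (Subgroup.inclusion hZL z)
        simp only [Finset.sum_apply, Pi.smul_apply, hm] at this ⊢
        exact this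
      rw [h1, classInner_sum_left]
      push_cast
      exact Finset.sum_congr rfl fun κ _ => by rw [classInner_smul_left, ← hb]
    rw [hsum, Nat.cast_ne_zero]
    intro h0
    have := Finset.sum_eq_zero_iff.1 h0 ⟨ζ, hζ⟩ (Finset.mem_univ _)
    rcases Nat.mul_eq_zero.1 this with h1 | h1
    · exact hne (by rw [hm ⟨ζ, hζ⟩, h1, Nat.cast_zero])
    · exact hφ (by
        have h2 := hb ⟨ζ, hζ⟩
        rw [h1, Nat.cast_zero] at h2
        exact h2)
  refine ⟨fun hov => hkey ⟨θ, h.irrZ⟩ hov, fun hov => ?_⟩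
  by_contra hno
  obtain ⟨φ, hφ, hφne⟩ := exists_constituent (G := Z)
    (isCharacter_comp (Subgroup.inclusion hZL) (isCharacter_of_isIrr hζ))
    (fun h0 => irr_one_ne_zero hζ (by simpa using congrFun h0 1))
  have hφη := hkey ⟨φ, hφ⟩ hφne
  obtain ⟨a, -, hres, -, -⟩ := h.exists_mult L' (hZL.trans hLL') hη hov
  rw [show (fun z : Z => η ⟨z, (hZL.trans hLL') z.2⟩) = (a : ℂ) • θ from funext hres,
    classInner_smul_left, classInner_isIrr_ne h.irrZ hφ (fun he => hno (he ▸ hφne)), mul_zero] at hφη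
  exact hφη rfl

/-- The only character over `θ` is `χ`. -/
theorem FullyRamified.eq_of_over (h : FullyRamified Z χ θ e) {χ' : H → ℂ}
    (hχ' : Cfsg.IsIrrCharacter H χ')
    (hne : Cfsg.classInner (fun z : Z => χ' z) θ ≠ 0) : χ' = χ := by
  classical
  choose c hc using fun κ : Cfsg.IrrCharacter H =>
    classInner_character_irr (isCharacter_restrict Z (isCharacter_of_isIrr κ.2)) h.irrZ
  obtain ⟨t, ht0, ht⟩ := exists_degree_pos h.irrZ
  choose d hd0 hd using fun κ : Cfsg.IrrCharacter H => exists_degree_pos κ.2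
  have hχc : c ⟨χ, h.irr⟩ = e := by
    rw [← Nat.cast_inj (R := ℂ), ← hc]
    show Cfsg.classInner (fun z : Z => χ z) θ = _
    rw [show (fun z : Z => χ z) = (e : ℂ) • θ from funext h.res, classInner_smul_left,
      classInner_isIrr_self h.irrZ, mul_one]
  have hχd : d ⟨χ, h.irr⟩ = e * t := by
    rw [← Nat.cast_inj (R := ℂ), ← hd, Nat.cast_mul, ← ht]
    have := h.res 1
    rwa [OneMemClass.coe_one] at this
  have hsum : ∑ κ, d κ * c κ = e * e * t := by
    have key := sum_degree_mul_restrict Z θ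
    rw [ht, Complex.conj_natCast] at key
    simp only [hd, hc, ← h.sq] at key
    rw [← Nat.cast_inj (R := ℂ)]
    push_cast at key ⊢
    rw [key]; ring
  by_contra hne'
  have hsplit := Finset.add_sum_erase Finset.univ (fun κ => d κ * c κ) (Finset.mem_univ ⟨χ, h.irr⟩)
  rw [hsum] at hsplit
  simp only [hχc, hχd] at hsplit
  have hzero : ∑ κ ∈ Finset.univ.erase ⟨χ, h.irr⟩, d κ * c κ = 0 := by
    have : e * t * e = e * e * t := by ring
    omega
  have := Finset.sum_eq_zero_iff.1 hzero ⟨χ', hχ'⟩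
    (Finset.mem_erase.2 ⟨fun he => hne' (congrArg Subtype.val he), Finset.mem_univ _⟩)
  rcases Nat.mul_eq_zero.1 this with h1 | h1
  · exact (hd0 _).ne' h1
  · exact hne (by
      have h2 := hc ⟨χ', hχ'⟩
      rw [h1, Nat.cast_zero] at h2
      exact h2)

/-- The squares of the multiplicities over `θ` add up to the index. -/
theorem FullyRamified.sum_sq (h : FullyRamified Z χ θ e) (L : Subgroup H) (hZL : Z ≤ L)
    [Fintype L] :
    ∃ a : Cfsg.IrrCharacter L → ℕ,
      (∀ ψ : Cfsg.IrrCharacter L, OverZ θ L hZL (ψ : L → ℂ) ↔ 0 < a ψ) ∧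
      (∀ ψ : Cfsg.IrrCharacter L, 0 < a ψ → (ψ : L → ℂ) 1 = (a ψ : ℂ) * θ 1) ∧
      ∑ ψ, a ψ ^ 2 = Z.relIndex L := by
  classical
  haveI := Fintype.ofFinite (Z.subgroupOf L)
  choose a ha using fun ψ : Cfsg.IrrCharacter L => classInner_character_irr
    (isCharacter_comp (Subgroup.inclusion hZL) (isCharacter_of_isIrr ψ.2)) h.irrZ
  have hiff : ∀ ψ : Cfsg.IrrCharacter L, OverZ θ L hZL (ψ : L → ℂ) ↔ 0 < a ψ := fun ψ => by
    rw [OverZ, show Cfsg.classInner (fun z : Z => (ψ : L → ℂ) ⟨z, hZL z.2⟩) θ = (a ψ : ℂ) from ha ψ,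
      Nat.cast_ne_zero, Nat.pos_iff_ne_zero]
  have hdeg : ∀ ψ : Cfsg.IrrCharacter L, 0 < a ψ → (ψ : L → ℂ) 1 = (a ψ : ℂ) * θ 1 := by
    intro ψ hψ
    obtain ⟨a', -, -, h1, h2⟩ := h.exists_mult L hZL ψ.2 ((hiff ψ).2 hψ)
    have : a' = a ψ := Nat.cast_injective (R := ℂ) (h2.symm.trans (ha ψ))
    rw [h1, this]
  refine ⟨a, hiff, hdeg, ?_⟩
  obtain ⟨t, ht0, ht⟩ := exists_degree_pos h.irrZ
  let E : Z.subgroupOf L ≃* Z := Subgroup.subgroupOfEquivOfLe hZL
  have key := sum_degree_mul_restrict (Z.subgroupOf L) (fun x => θ (E x))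
  simp only [map_one, ht, Complex.conj_natCast] at key
  have e1 : ∀ ψ : Cfsg.IrrCharacter L, (ψ : L → ℂ) 1 *
      Cfsg.classInner (fun x : Z.subgroupOf L => (ψ : L → ℂ) x) (fun x => θ (E x)) =
      ((a ψ ^ 2 * t : ℕ) : ℂ) := by
    intro ψ
    have hin : Cfsg.classInner (fun x : Z.subgroupOf L => (ψ : L → ℂ) x) (fun x => θ (E x)) =
        (a ψ : ℂ) :=
      (classInner_comp_equiv (Subgroup.subgroupOfEquivOfLe hZL)
        (fun z : Z => (ψ : L → ℂ) ⟨z, hZL z.2⟩) θ).trans (ha ψ)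
    rw [hin]
    rcases Nat.eq_zero_or_pos (a ψ) with h0 | hpos
    · simp [h0]
    · rw [hdeg ψ hpos, ht]; push_cast; ring
  rw [Finset.sum_congr rfl fun ψ _ => e1 ψ, ← Nat.cast_sum, ← Nat.cast_mul, Nat.cast_inj,
    ← Finset.sum_mul] at key
  exact Nat.eq_of_mul_eq_mul_right ht0 key

variable {p : ℕ} [hp : Fact p.Prime]

/-- Exactly one character lies over `θ` in the preimage of a Sylow subgroup. -/
theorem FullyRamified.existsUnique_sylow (h : FullyRamified Z χ θ e) (R : Subgroup H) (hZR : Z ≤ R)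
    [Fintype R] {k : ℕ} (hk : Z.relIndex R = p ^ k) (hR : ¬ p ∣ R.index) :
    ∃ η : Cfsg.IrrCharacter R, OverZ θ R hZR (η : R → ℂ) ∧
      ∀ η' : Cfsg.IrrCharacter R, OverZ θ R hZR (η' : R → ℂ) → η' = η := by
  classical
  obtain ⟨a, hiff, hdeg, hsum⟩ := h.sum_sq R hZR
  have hbig : ∀ η : Cfsg.IrrCharacter R, 0 < a η → p ^ k ≤ a η ^ 2 := by
    intro η hη
    have hind : Cfsg.IsCharacter H (Cfsg.indFun R (η : R → ℂ)) :=
      CfsgLib.Characters.isCharacter_indFun R (isCharacter_of_isIrr η.2)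
    obtain ⟨m, hm⟩ := exists_nat_coeff hind
    have honly : ∀ κ : Cfsg.IrrCharacter H, m κ ≠ 0 → κ = ⟨χ, h.irr⟩ := by
      intro κ hκ
      refine Subtype.ext (h.eq_of_over κ.2 ?_)
      have h1 : Cfsg.classInner (Cfsg.indFun R (η : R → ℂ)) (κ : H → ℂ) = (m κ : ℂ) := by
        rw [hm, classInner_irr_coeff]
      rw [classInner_indFun R _ (isClassFunction_of_isIrr κ.2), classInner_conj_symm] at h1
      have h2 : Cfsg.classInner (fun r : R => (κ : H → ℂ) r) (η : R → ℂ) ≠ 0 := fun h0 => by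
        rw [h0, map_zero, eq_comm, Nat.cast_eq_zero] at h1
        exact hκ h1
      let top : (⊤ : Subgroup H) →* H := (⊤ : Subgroup H).subtype
      have h3 := (overZ_iff_of_constituent h hZR (L' := ⊤) le_top η.2
        (η := fun x : (⊤ : Subgroup H) => (κ : H → ℂ) x)
        (isIrr_comp top (fun x => ⟨⟨x, Subgroup.mem_top x⟩, rfl⟩) κ.2) h2).1 ((hiff η).2 hη)
      exact h3
    have hdegree := congrFun hm 1
    rw [CfsgLib.Characters.indFun_one, hdeg η hη, Finset.sum_apply, Finset.sum_eq_single (⟨χ, h.irr⟩ : Cfsg.IrrCharacter H)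
      (fun κ _ hne => by
        by_cases h0 : m κ = 0
        · simp [h0]
        · exact absurd (honly κ h0) hne) (by simp)] at hdegree
    have hχ1 : χ 1 = (e : ℂ) * θ 1 := by simpa using h.res 1
    obtain ⟨t, ht0, ht⟩ := exists_degree_pos h.irrZ
    simp only [Pi.smul_apply, smul_eq_mul, hχ1, ht] at hdegree
    have hnat : R.index * (a η * t) = m ⟨χ, h.irr⟩ * (e * t) := by exact_mod_cast hdegree
    have hnat' : R.index * a η = m ⟨χ, h.irr⟩ * e :=
      Nat.eq_of_mul_eq_mul_right ht0 (by rw [mul_assoc, mul_assoc]; exact hnat)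
    have hidx : e ^ 2 = R.index * p ^ k := by
      rw [h.sq, ← hk, mul_comm, Subgroup.relIndex_mul_index hZR]
    have hsq : R.index * a η ^ 2 = m ⟨χ, h.irr⟩ ^ 2 * p ^ k := by
      apply Nat.eq_of_mul_eq_mul_left (Nat.pos_of_ne_zero (Subgroup.index_ne_zero_of_finite (H := R)))
      calc R.index * (R.index * a η ^ 2) = (R.index * a η) ^ 2 := by ring
        _ = m ⟨χ, h.irr⟩ ^ 2 * e ^ 2 := by rw [hnat', mul_pow]
        _ = _ := by rw [hidx]; ring
    have hdvd : p ^ k ∣ a η ^ 2 :=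
      Nat.Coprime.dvd_of_dvd_mul_left (Nat.Coprime.pow_left k (hp.out.coprime_iff_not_dvd.2 hR))
        (hsq ▸ dvd_mul_left _ _)
    exact Nat.le_of_dvd (pow_pos hη 2) hdvd
  have hne : ∑ η, a η ^ 2 ≠ 0 := by rw [hsum, hk]; exact pow_ne_zero _ hp.out.ne_zero
  obtain ⟨η, -, hη⟩ := Finset.exists_ne_zero_of_sum_ne_zero hne
  have hηpos : 0 < a η := Nat.pos_of_ne_zero fun h0 => hη (by rw [h0]; rfl)
  refine ⟨η, (hiff η).2 hηpos, fun η' hη' => ?_⟩
  by_contra hne'
  have h1 := Finset.add_le_sum (f := fun η => a η ^ 2) (s := Finset.univ) (fun i _ => Nat.zero_le _)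
    (Finset.mem_univ η) (Finset.mem_univ η') (Ne.symm hne')
  rw [hsum, hk] at h1
  have h2 := hbig η hηpos
  have h3 := hbig η' ((hiff η').1 hη')
  have h4 : 0 < p ^ k := pow_pos hp.out.pos k
  omega

/-- Every character over `θ` on a normal subgroup is conjugate to every other one. -/
theorem FullyRamified.transitive (h : FullyRamified Z χ θ e) (R : Subgroup H)
    [Fintype R] {k : ℕ} (hk : Z.relIndex R = p ^ k) (hR : ¬ p ∣ R.index)
    (Q : Subgroup H) (hZQ : Z ≤ Q) (hQR : Q ≤ R) [(Q.subgroupOf R).Normal] [Fintype Q]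
    {ζ ζ' : Cfsg.IrrCharacter Q} (hζ : OverZ θ Q hZQ (ζ : Q → ℂ))
    (hζ' : OverZ θ Q hZQ (ζ' : Q → ℂ)) :
    ∃ r ∈ R, ∀ q q' : Q, (q' : H) = r * q * r⁻¹ → (ζ' : Q → ℂ) q = (ζ : Q → ℂ) q' := by
  classical
  haveI := Fintype.ofFinite (Q.subgroupOf R)
  obtain ⟨η, -, huniq⟩ := h.existsUnique_sylow R (hZQ.trans hQR) hk hR
  let E : Q.subgroupOf R ≃* Q := Subgroup.subgroupOfEquivOfLe hQR
  have hover : ∀ κ : Cfsg.IrrCharacter Q, OverZ θ Q hZQ (κ : Q → ℂ) →
      Cfsg.classInner (fun x : Q.subgroupOf R => (η : R → ℂ) x) (fun x => (κ : Q → ℂ) (E x)) ≠ 0 := by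
    intro κ hκ
    obtain ⟨η', hη', hne⟩ := CfsgLib.CharactersDeep.Clifford.exists_over (Q.subgroupOf R)
      (isIrrCharacter_comp_mulEquiv κ.2 E)
    have hne2 : Cfsg.classInner (fun x : Q => η' ⟨x, hQR x.2⟩) (κ : Q → ℂ) ≠ 0 := by
      rw [← classInner_comp_equiv (Subgroup.subgroupOfEquivOfLe hQR)]
      exact hne
    have := huniq ⟨η', hη'⟩ ((overZ_iff_of_constituent h hZQ hQR κ.2 hη' hne2).1 hκ)
    rw [← this]
    exact hne
  obtain ⟨r, hr⟩ := CfsgLib.CharactersDeep.Clifford.exists_conjBy_of_constituents (Q.subgroupOf R)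
    η.2 (isIrrCharacter_comp_mulEquiv ζ.2 E) (isIrrCharacter_comp_mulEquiv ζ'.2 E)
    (hover ζ hζ) (hover ζ' hζ')
  refine ⟨r, r.2, fun q q' hq => ?_⟩
  have h1 := congrFun hr (E.symm q)
  rw [conjBy_apply] at h1
  refine (congrArg (ζ' : Q → ℂ) (E.apply_symm_apply q).symm).trans (h1.trans ?_)
  exact congrArg (ζ : Q → ℂ) (Subtype.ext hq.symm)

end

section Complement

variable {p : ℕ} [hp : Fact p.Prime]

/-- A subgroup of the normalizer of suitable index gives a complement to the Sylow subgroups of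
the quotient. -/
theorem exists_complement_of_index_eq (K : Subgroup H) [K.Normal] (R : Subgroup H)
    (hR : ¬ p ∣ R.index) {j : ℕ} (hj : (R ⊓ K).relIndex R = p ^ j)
    (S : Subgroup H) (hQS : R ⊓ K ≤ S)
    (hSN : S ≤ Subgroup.normalizer ((R ⊓ K : Subgroup H) : Set H))
    (hgen : Subgroup.normalizer ((R ⊓ K : Subgroup H) : Set H) ⊔ K = ⊤)
    (hS : S.relIndex (Subgroup.normalizer ((R ⊓ K : Subgroup H) : Set H)) = p ^ j) :
    ∃ M : Subgroup (H ⧸ K), M.index = p ^ (Nat.card (H ⧸ K)).factorization p ∧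
      ∀ P : Sylow p (H ⧸ K), M.IsComplement' (P : Subgroup (H ⧸ K)) := by
  classical
  set N := Subgroup.normalizer ((R ⊓ K : Subgroup H) : Set H)
  let f : N →* H ⧸ K := (QuotientGroup.mk' K).comp N.subtype
  have hf : Function.Surjective f := by
    intro x
    obtain ⟨y, rfl⟩ := QuotientGroup.mk_surjective x
    have hy : y ∈ ((N : Set H) * (K : Set H) : Set H) := by
      rw [← Subgroup.mul_normal, hgen]; trivial
    obtain ⟨n, hn, c, hc, rfl⟩ := hy
    exact ⟨⟨n, hn⟩, by simp [f, (QuotientGroup.eq_one_iff c).2 hc]⟩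
  let S' : Subgroup N := S.subgroupOf N
  let M : Subgroup (H ⧸ K) := S'.map f
  have hMi : M.index ∣ p ^ j := hS ▸ Subgroup.index_map_dvd (H := S') hf
  obtain ⟨i, -, hi⟩ := (Nat.dvd_prime_pow hp.out).1 hMi
  have hQN : R ⊓ K ≤ N := Subgroup.le_normalizer
  have hMc : ¬ p ∣ Nat.card M := by
    intro hd
    rw [← Subgroup.relIndex_ker S' f] at hd
    have h1 : f.ker.relIndex S' ∣ ((R ⊓ K).subgroupOf N).relIndex S' :=
      Subgroup.relIndex_dvd_of_le_left _ fun x hx => by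
        rw [MonoidHom.mem_ker]
        exact (QuotientGroup.eq_one_iff (x : H)).2 hx.2
    rw [Subgroup.relIndex_subgroupOf hSN] at h1
    have h3 := Subgroup.relIndex_mul_index hQS
    rw [← Subgroup.relIndex_mul_index hSN, ← Subgroup.relIndex_mul_index (inf_le_left : R ⊓ K ≤ R),
      hS, hj, mul_left_comm] at h3
    have h4 := Nat.eq_of_mul_eq_mul_left (pow_pos hp.out.pos j) h3
    exact hR (h4 ▸ (hd.trans h1).mul_right _)
  have hcard := M.card_mul_index
  rw [hi] at hcard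
  have hi' : i = (Nat.card (H ⧸ K)).factorization p := by
    rw [← hcard, Nat.factorization_mul Nat.card_pos.ne' (pow_ne_zero _ hp.out.ne_zero),
      Finsupp.add_apply, Nat.factorization_eq_zero_of_not_dvd hMc, hp.out.factorization_pow,
      Finsupp.single_eq_same, zero_add]
  refine ⟨M, by rw [hi, hi'], fun P => Subgroup.isComplement'_of_coprime ?_ ?_⟩
  · rw [P.card_eq_multiplicity, ← hi', hcard]
  · rw [P.card_eq_multiplicity]
    exact Nat.Coprime.pow_right _ ((Nat.coprime_comm).1 (hp.out.coprime_iff_not_dvd.2 hMc))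

end Complement

/-- The setting around a Sylow subgroup of the quotient by `Z`. -/
theorem exists_sylow_setup (p : ℕ) [Fact p.Prime] (Z K : Subgroup H) [Z.Normal] [K.Normal]
    (hZK : Z ≤ K) :
    ∃ R : Subgroup H, Z ≤ R ∧ ¬ p ∣ R.index ∧ (∃ k, Z.relIndex R = p ^ k) ∧
      Subgroup.normalizer ((R ⊓ K : Subgroup H) : Set H) ⊔ K = ⊤ := by
  classical
  obtain ⟨Rb⟩ : Nonempty (Sylow p (H ⧸ Z)) := inferInstance
  set π := QuotientGroup.mk' Z
  have hπ : Function.Surjective π := QuotientGroup.mk'_surjective Z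
  let R : Subgroup H := (Rb : Subgroup (H ⧸ Z)).comap π
  have hZR : Z ≤ R := fun z hz => by
    show π z ∈ (Rb : Subgroup (H ⧸ Z))
    rw [show π z = 1 from (QuotientGroup.eq_one_iff z).2 hz]
    exact one_mem _
  refine ⟨R, hZR, ?_, ?_, ?_⟩
  · rw [Subgroup.index_comap_of_surjective _ hπ]
    exact Rb.not_dvd_index
  · obtain ⟨k, hk⟩ := IsPGroup.iff_card.1 Rb.isPGroup'
    refine ⟨k, ?_⟩
    have h1 := Subgroup.relIndex_ker R π
    rw [QuotientGroup.ker_mk', Subgroup.map_comap_eq_self_of_surjective hπ] at h1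
    rw [h1, hk]
  · set Kb : Subgroup (H ⧸ Z) := K.map π with hKb
    haveI : Kb.Normal := ‹K.Normal›.map π hπ
    have hp1 : IsPGroup p ((Rb : Subgroup (H ⧸ Z)).subgroupOf Kb) :=
      Rb.isPGroup'.comap_subtype
    let Qs : Sylow p Kb := hp1.toSylow (CfsgLib.Transfer.not_dvd_relIndex_of_normal Rb Kb)
    have hfr := Sylow.normalizer_sup_eq_top Qs
    have hQs : (Qs : Subgroup Kb).map Kb.subtype = (Rb : Subgroup (H ⧸ Z)) ⊓ Kb :=
      Subgroup.subgroupOf_map_subtype _ _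
    rw [hQs] at hfr
    rw [eq_top_iff]
    intro x _
    have hx : π x ∈ ((Subgroup.normalizer (((Rb : Subgroup (H ⧸ Z)) ⊓ Kb : Subgroup (H ⧸ Z)) : Set (H ⧸ Z)) :
        Set (H ⧸ Z)) * (Kb : Set (H ⧸ Z)) : Set (H ⧸ Z)) := by
      rw [← Subgroup.mul_normal, hfr]; trivial
    obtain ⟨n, hn, c, hc, hnc⟩ := hx
    obtain ⟨c', hc', rfl⟩ := hc
    have hnx : n = π (x * c'⁻¹) := by
      rw [map_mul, map_inv, ← hnc]
      exact (mul_inv_cancel_right _ _).symm
    have hmem : ∀ y : H, y ∈ R ⊓ K ↔ π y ∈ (Rb : Subgroup (H ⧸ Z)) ⊓ Kb := by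
      refine fun y => ⟨fun hy => ⟨hy.1, Subgroup.mem_map_of_mem π hy.2⟩, fun hy => ⟨hy.1, ?_⟩⟩
      obtain ⟨w, hw, hwy⟩ := hy.2
      have := K.mul_mem hw (hZK (QuotientGroup.eq.1 hwy))
      rwa [mul_inv_cancel_left] at this
    have hxN : x * c'⁻¹ ∈ Subgroup.normalizer ((R ⊓ K : Subgroup H) : Set H) := by
      rw [Subgroup.mem_normalizer_iff]
      intro y
      rw [hmem, hmem, map_mul, map_mul, map_inv, ← hnx]
      exact Subgroup.mem_normalizer_iff.1 hn (π y)
    have := Subgroup.mul_mem_sup hxN hc'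
    rwa [inv_mul_cancel_right] at this

end CfsgLib.BlocksCharsC
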