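import Mathlib.GroupTheory.Nilpotent
import Mathlib.GroupTheory.PGroup
import Mathlib.GroupTheory.Index
import Mathlib.GroupTheory.Sylow
import Mathlib.GroupTheory.IndexNormal
import Mathlib.GroupTheory.Commutator.Basic
import Mathlib.GroupTheory.Abelianization.Defs
import Mathlib.GroupTheory.SpecificGroups.Cyclic

/-!
# Groups with a normal subgroup of prime index

If `N` is normal of prime index `p` in `P`, and `x ∉ N`, then
`|P : P'| * |N'| = p * #{n ∈ N | [x, n] ∈ N'}`.
-/

set_option autoImplicit false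

namespace CfsgLib.BlocksCharsC.IndexP

open Subgroup
open scoped commutatorElement

variable {P : Type*} [Group P] (p : ℕ) [hp : Fact p.Prime] (N : Subgroup P) [hN : N.Normal]

omit hN in
theorem exists_eq_pow_mul (hi : N.index = p) [N.Normal] {x : P} (hx : x ∉ N) (g : P) :
    ∃ (i : ℕ) (n : N), g = x ^ i * (n : P) := by
  have hc : Nat.card (P ⧸ N) = p := by rw [← Subgroup.index]; exact hi
  haveI : Finite (P ⧸ N) := Nat.finite_of_card_ne_zero (by rw [hc]; exact hp.out.ne_zero)
  have hx1 : (x : P ⧸ N) ≠ 1 := by simpa [QuotientGroup.eq_one_iff] using hx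
  have ho : orderOf (x : P ⧸ N) = p := by
    have hd := orderOf_dvd_natCard (x : P ⧸ N)
    rw [hc] at hd
    rcases (Nat.dvd_prime hp.out).1 hd with h | h
    · exact absurd (orderOf_eq_one_iff.1 h) hx1
    · exact h
  have hz : (g : P ⧸ N) ∈ Subgroup.zpowers (x : P ⧸ N) := by
    have : Subgroup.zpowers (x : P ⧸ N) = ⊤ :=
      Subgroup.eq_top_of_card_eq _ (by rw [Nat.card_zpowers, ho, hc])
    rw [this]; trivial
  rw [← mem_powers_iff_mem_zpowers] at hz
  obtain ⟨i, hi⟩ := hz
  refine ⟨i, ⟨(x ^ i)⁻¹ * g, ?_⟩, by group⟩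
  exact QuotientGroup.eq.1 (by simpa using hi)

theorem index_commutator_mul [Finite P] (hi : N.index = p) {x : P} (hx : x ∉ N) :
    (_root_.commutator P).index * Nat.card (_root_.commutator N) =
      p * Nat.card {n : N // x * n * x⁻¹ * (n : P)⁻¹ ∈ (_root_.commutator N).map N.subtype} := by
  classical
  set D := (_root_.commutator N).map N.subtype with hD
  have hDmem : ∀ n : N, (n : P) ∈ D ↔ n ∈ _root_.commutator N := fun n =>
    Subgroup.mem_map_iff_mem N.subtype_injective
  let q := QuotientGroup.mk' (_root_.commutator N)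
  have hcomm : ∀ a b : N ⧸ _root_.commutator N, a * b = b * a :=
    fun a b => (inferInstance : Std.Commutative (α := Abelianization N) (· * ·)).comm a b
  let c : N → N := fun n => ⟨x * n * x⁻¹, hN.conj_mem _ n.2 x⟩
  let φ : N →* N ⧸ _root_.commutator N :=
    { toFun := fun n => q (c n * n⁻¹)
      map_one' := by
        have h1 : c 1 * 1⁻¹ = 1 := by ext; simp [c]
        simp only [h1]; exact map_one q
      map_mul' := fun n m => by
        have h1 : c (n * m) = c n * c m := by ext; simp [c, mul_assoc]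
        simp only [h1, mul_inv_rev, map_mul, map_inv]
        calc q (c n) * q (c m) * ((q m)⁻¹ * (q n)⁻¹)
            = q (c n) * (q (c m) * (q m)⁻¹ * (q n)⁻¹) := by group
          _ = q (c n) * ((q n)⁻¹ * (q (c m) * (q m)⁻¹)) := by rw [hcomm (q (c m) * (q m)⁻¹) (q n)⁻¹]
          _ = _ := by group }
  have hker : ∀ n : N, n ∈ φ.ker ↔ x * n * x⁻¹ * (n : P)⁻¹ ∈ D := fun n => by
    rw [MonoidHom.mem_ker]
    have h := hDmem (c n * n⁻¹)
    simp only [Subgroup.coe_mul, InvMemClass.coe_inv, c] at h
    rw [h]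
    exact QuotientGroup.eq_one_iff _
  let R : Subgroup N := φ.range.comap q
  let R' : Subgroup P := R.map N.subtype
  have hR'mem : ∀ n : N, (n : P) ∈ R' ↔ n ∈ R := fun n =>
    Subgroup.mem_map_iff_mem N.subtype_injective
  have hDR : _root_.commutator N ≤ R := fun n hn => by
    show q n ∈ φ.range
    rw [show q n = 1 from (QuotientGroup.eq_one_iff n).2 hn]
    exact one_mem _
  have hxR : ∀ n : N, x * n * x⁻¹ * (n : P)⁻¹ ∈ R' := fun n =>
    (hR'mem (c n * n⁻¹)).2 ⟨n, rfl⟩
  -- each element of P has the form x^i * n, so R' is normal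
  have hxnorm : ∀ r ∈ R', x * r * x⁻¹ ∈ R' := by
    rintro _ ⟨r, hr, rfl⟩
    have : x * (r : P) * x⁻¹ = (x * (r : P) * x⁻¹ * (r : P)⁻¹) * r := by group
    rw [Subgroup.coe_subtype, this]
    exact mul_mem (hxR r) ((hR'mem r).2 hr)
  haveI hRn : R.Normal := ⟨fun r hr n => by
    show q (n * r * n⁻¹) ∈ φ.range
    rw [map_mul, map_mul, map_inv, hcomm (q n), mul_assoc, mul_inv_cancel, mul_one]
    exact hr⟩
  haveI hR'n : R'.Normal := ⟨fun r hr g => by
    obtain ⟨i, n, rfl⟩ := exists_eq_pow_mul p N hi hx g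
    obtain ⟨r, hr', rfl⟩ := hr
    have h0 : (n : P) * (r : P) * (n : P)⁻¹ ∈ R' := (hR'mem (n * r * n⁻¹)).2 (hRn.conj_mem r hr' n)
    clear hr'
    induction i with
    | zero => simpa using h0
    | succ i ih =>
      have := hxnorm _ ih
      rw [Subgroup.coe_subtype] at this ⊢
      convert this using 1
      rw [pow_succ']; group⟩
  have hle : R' ≤ _root_.commutator P := by
    rintro _ ⟨r, hr, rfl⟩
    obtain ⟨n, hn⟩ := hr
    have h1 : (c n * n⁻¹)⁻¹ * r ∈ _root_.commutator N := QuotientGroup.eq.1 hn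
    have h2 : N.subtype ((c n * n⁻¹)⁻¹ * r) ∈ _root_.commutator P := by
      have : (_root_.commutator N).map N.subtype ≤ _root_.commutator P := by
        rw [map_subtype_commutator]; exact Subgroup.commutator_mono le_top le_top
      exact this ⟨_, h1, rfl⟩
    have h3 : N.subtype (c n * n⁻¹) ∈ _root_.commutator P :=
      Subgroup.commutator_mem_commutator (Subgroup.mem_top x) (Subgroup.mem_top (n : P))
    have := mul_mem h3 h2
    rwa [← map_mul, mul_inv_cancel_left] at this
  have hge : _root_.commutator P ≤ R' := by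
    let π := QuotientGroup.mk' R'
    have hnn : ∀ a b : N, Commute (π a) (π b) := fun a b => by
      rw [← commutatorElement_eq_one_iff_commute, ← map_commutatorElement]
      refine (QuotientGroup.eq_one_iff _).2 ?_
      exact (hR'mem ⁅a, b⁆).2 (hDR (Subgroup.commutator_mem_commutator (mem_top a) (mem_top b)))
    have hxn : ∀ b : N, Commute (π x) (π b) := fun b => by
      rw [← commutatorElement_eq_one_iff_commute, ← map_commutatorElement]
      exact (QuotientGroup.eq_one_iff _).2 (hxR b)
    rw [_root_.commutator_def, Subgroup.commutator_le]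
    intro g _ h _
    obtain ⟨i, n, rfl⟩ := exists_eq_pow_mul p N hi hx g
    obtain ⟨j, m, rfl⟩ := exists_eq_pow_mul p N hi hx h
    refine (QuotientGroup.eq_one_iff (N := R') _).1 ?_
    change π ⁅x ^ i * (n : P), x ^ j * (m : P)⁆ = 1
    rw [map_commutatorElement, commutatorElement_eq_one_iff_commute, map_mul, map_mul, map_pow,
      map_pow]
    refine Commute.mul_left (Commute.mul_right ?_ ?_) (Commute.mul_right ?_ ?_)
    · exact (Commute.refl _).pow_pow i j
    · exact (hxn m).pow_left i
    · exact ((hxn n).pow_left j).symm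
    · exact hnn n m
  have heq : R' = _root_.commutator P := le_antisymm hle hge
  have hcardR : Nat.card R' = Nat.card (_root_.commutator N) * Nat.card φ.range := by
    rw [Nat.card_congr (R.equivMapOfInjective N.subtype N.subtype_injective).symm.toEquiv]
    have h1 : R.index = φ.range.index :=
      Subgroup.index_comap_of_surjective φ.range (QuotientGroup.mk'_surjective _)
    have h2 := R.card_mul_index
    have h3 := φ.range.card_mul_index
    have h4 := (_root_.commutator N).card_mul_index
    rw [h1] at h2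
    rw [Subgroup.index] at h4
    rw [← h3, ← h2, ← mul_assoc] at h4
    exact (Nat.eq_of_mul_eq_mul_right (Nat.pos_of_ne_zero Subgroup.index_ne_zero_of_finite) h4).symm
  have h1 : Nat.card N = Nat.card φ.ker * Nat.card φ.range := by
    rw [← φ.ker.card_mul_index, Subgroup.index_ker]
  have hk : Nat.card φ.ker =
      Nat.card {n : N // x * n * x⁻¹ * (n : P)⁻¹ ∈ D} :=
    Nat.card_congr (Equiv.subtypeEquivRight hker)
  rw [← hk]
  have h2 := (_root_.commutator P).card_mul_index
  rw [← N.card_mul_index, hi, ← heq, hcardR, h1] at h2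
  rw [← heq]
  have hpos : 0 < Nat.card φ.range := Nat.card_pos
  apply Nat.eq_of_mul_eq_mul_right hpos
  linarith [h2]

/-- For an abelian normal subgroup of index `p` of a non-abelian group: `|P : P'| = p * |Z(P)|`. -/
theorem index_commutator_of_abelian [Finite P] (hi : N.index = p)
    (hab : ∀ a ∈ N, ∀ b ∈ N, a * b = b * a) (hna : ¬ ∀ a b : P, a * b = b * a) :
    (_root_.commutator P).index = p * Nat.card (Subgroup.center P) := by
  classical
  have hne : N ≠ ⊤ := by intro h; rw [h, Subgroup.index_top] at hi; exact hp.out.ne_one hi.symm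
  obtain ⟨x, hx⟩ : ∃ x, x ∉ N := by simpa [Subgroup.eq_top_iff'] using hne
  have hc1 : _root_.commutator N = ⊥ :=
    (commutator_eq_bot_iff _).2 ⟨⟨fun a b => Subtype.ext (hab _ a.2 _ b.2)⟩⟩
  have key := index_commutator_mul p N hi hx
  rw [hc1, Subgroup.card_bot, mul_one] at key
  rw [key]
  congr 1
  have hZN : Subgroup.center P ≤ N := by
    intro z hz
    by_contra hzN
    apply hna
    have hz' : ∀ b : P, Commute z b := fun b => (Subgroup.mem_center_iff.1 hz b).symm
    intro a b
    obtain ⟨i, n, rfl⟩ := exists_eq_pow_mul p N hi hzN a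
    obtain ⟨j, m, rfl⟩ := exists_eq_pow_mul p N hi hzN b
    exact Commute.mul_left ((hz' _).pow_left i)
      (Commute.mul_right ((hz' _).pow_left j).symm (hab _ n.2 _ m.2))
  have hcen : ∀ n : N, x * n * x⁻¹ * (n : P)⁻¹ ∈ (⊥ : Subgroup N).map N.subtype ↔
      (n : P) ∈ Subgroup.center P := by
    intro n
    rw [Subgroup.map_bot, Subgroup.mem_bot, mul_inv_eq_one, mul_inv_eq_iff_eq_mul]
    refine ⟨fun h => Subgroup.mem_center_iff.2 fun g => ?_,
      fun h => Subgroup.mem_center_iff.1 h x⟩
    obtain ⟨i, m, rfl⟩ := exists_eq_pow_mul p N hi hx g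
    exact (Commute.mul_left (Commute.pow_left h i) (hab _ m.2 _ n.2) :
      Commute (x ^ i * (m : P)) (n : P))
  exact Nat.card_congr ((Equiv.subtypeEquivRight hcen).trans
    ⟨fun n => ⟨n.1.1, n.2⟩, fun z => ⟨⟨z.1, hZN z.2⟩, z.2⟩, fun _ => rfl, fun _ => rfl⟩)

omit hN in
theorem comm_of_card_pow_three [Finite P] (A : Subgroup P) (hA : Nat.card A = p ^ 3)
    (h : p ^ 2 ≤ Nat.card (Subgroup.center A)) : ∀ a ∈ A, ∀ b ∈ A, a * b = b * a := by
  obtain ⟨k, -, hk⟩ := IsPGroup.card_center_eq_prime_pow hA (by norm_num)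
  have ha2 : 2 ≤ k := by rw [hk] at h; exact (Nat.pow_le_pow_iff_right hp.out.one_lt).1 h
  have hidx : (Subgroup.center A).index ∣ p := by
    have := (Subgroup.center A).card_mul_index
    rw [hk, hA] at this
    have h3 : p ^ 2 * (Subgroup.center A).index ∣ p ^ 2 * p := by
      rw [show p ^ 2 * p = p ^ k * (Subgroup.center A).index by rw [this]; ring]
      exact Nat.mul_dvd_mul_right (Nat.pow_dvd_pow p ha2) _
    exact (Nat.mul_dvd_mul_iff_left (pow_pos hp.out.pos 2)).1 h3
  haveI : IsCyclic (A ⧸ Subgroup.center A) :=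
    isCyclic_of_card_dvd_prime (p := p) (by rwa [← Subgroup.index])
  intro a ha b hb
  exact congrArg Subtype.val (commutative_of_cyclic_center_quotient
    (QuotientGroup.mk' (Subgroup.center A)) (by rw [QuotientGroup.ker_mk']) ⟨a, ha⟩ ⟨b, hb⟩)

omit hN in
/-- Every group of order `p ^ 4` has an abelian normal subgroup of index `p`. -/
theorem exists_abelian_normal_index_prime_of_card_pow_four [Finite P]
    (hP : Nat.card P = p ^ 4) :
    ∃ A : Subgroup P, A.Normal ∧ A.index = p ∧ ∀ a ∈ A, ∀ b ∈ A, a * b = b * a := by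
  have hpg : IsPGroup p P := IsPGroup.of_card hP
  obtain ⟨k, hk0, hk⟩ := IsPGroup.card_center_eq_prime_pow hP (by norm_num)
  suffices h : ∃ A : Subgroup P, Nat.card A = p ^ 3 ∧ p ^ 2 ≤ Nat.card (Subgroup.center A) by
    obtain ⟨A, hA, hc⟩ := h
    have hi : A.index = p := by
      have := A.card_mul_index
      rw [hA, hP] at this
      exact Nat.eq_of_mul_eq_mul_left (pow_pos hp.out.pos 3) (this.trans (by ring))
    refine ⟨A, ?_, hi, comm_of_card_pow_three p A hA hc⟩
    apply Subgroup.normal_of_index_eq_minFac_card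
    rw [hi, hP, Nat.pow_minFac (by norm_num : (4:ℕ) ≠ 0), hp.out.minFac_eq]
  rcases Nat.lt_or_ge k 2 with hk2 | hk2
  · obtain rfl : k = 1 := by omega
    have hne : Subgroup.center P ≠ ⊤ := by
      intro h
      rw [h, Subgroup.card_top, hP] at hk
      have := Nat.pow_right_injective hp.out.two_le hk
      omega
    haveI : Nontrivial (P ⧸ Subgroup.center P) := by
      rw [QuotientGroup.nontrivial_iff]; exact hne
    haveI : Nontrivial (Subgroup.center (P ⧸ Subgroup.center P)) :=
      (hpg.to_quotient _).center_nontrivial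
    obtain ⟨z, hz⟩ := exists_ne (1 : Subgroup.center (P ⧸ Subgroup.center P))
    obtain ⟨v, hv'⟩ := QuotientGroup.mk_surjective (z : P ⧸ Subgroup.center P)
    have hvn : v ∉ Subgroup.center P := fun h => hz (Subtype.ext (by
      rw [← hv']; exact (QuotientGroup.eq_one_iff _).2 h))
    have hv : ∀ g : P, g * v * g⁻¹ * v⁻¹ ∈ Subgroup.center P := fun g => by
      rw [← QuotientGroup.eq_one_iff]
      simp only [QuotientGroup.mk_mul, QuotientGroup.mk_inv, hv']
      rw [Subgroup.mem_center_iff.1 z.2 (g : P ⧸ Subgroup.center P)]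
      simp
    let ψ : P →* Subgroup.center P :=
      { toFun := fun g => ⟨g * v * g⁻¹ * v⁻¹, hv g⟩
        map_one' := by ext; simp
        map_mul' := fun g h => by
          ext
          simp only [Subgroup.coe_mul]
          have e : g * h * v * (g * h)⁻¹ * v⁻¹ = g * (h * v * h⁻¹ * v⁻¹) * g⁻¹ * (g * v * g⁻¹ * v⁻¹) := by
            group
          rw [e, Subgroup.mem_center_iff.1 (hv h) g, mul_inv_cancel_right,
            ← Subgroup.mem_center_iff.1 (hv h) (g * v * g⁻¹ * v⁻¹)] }
    have hkmem : ∀ g : P, g ∈ ψ.ker ↔ g * v = v * g := fun g => by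
      rw [MonoidHom.mem_ker, Subtype.ext_iff]
      exact mul_inv_eq_one.trans mul_inv_eq_iff_eq_mul
    have hvk : v ∈ ψ.ker := (hkmem v).2 rfl
    have hZk : Subgroup.center P ≤ ψ.ker := fun z hz =>
      (hkmem z).2 (Subgroup.mem_center_iff.1 hz v).symm
    have hkne : ψ.ker ≠ ⊤ := fun h => hvn (Subgroup.mem_center_iff.2 fun g =>
      (hkmem g).1 (h ▸ Subgroup.mem_top g))
    have hi : ψ.ker.index = p := by
      have h1 : ψ.ker.index ∣ p := by
        rw [Subgroup.index_ker]
        have h2 := ψ.range.card_subgroup_dvd_card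
        rw [hk, pow_one] at h2
        exact h2
      rcases (Nat.dvd_prime hp.out).1 h1 with h | h
      · exact absurd (Subgroup.index_eq_one.1 h) hkne
      · exact h
    have hord : Nat.card ψ.ker = p ^ 3 := by
      have := ψ.ker.card_mul_index
      rw [hi, hP] at this
      exact Nat.eq_of_mul_eq_mul_right hp.out.pos (this.trans (by ring))
    refine ⟨ψ.ker, hord, ?_⟩
    have hW1 : (Subgroup.center P).subgroupOf ψ.ker ≤ Subgroup.center ψ.ker := fun z hz =>
      Subgroup.mem_center_iff.2 fun g => Subtype.ext (Subgroup.mem_center_iff.1 hz g)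
    have hW2 : (⟨v, hvk⟩ : ψ.ker) ∈ Subgroup.center ψ.ker :=
      Subgroup.mem_center_iff.2 fun g => Subtype.ext ((hkmem g).1 g.2)
    obtain ⟨a, ha0, ha⟩ := IsPGroup.card_center_eq_prime_pow hord (by norm_num)
    rw [ha]
    refine Nat.pow_le_pow_right hp.out.pos ?_
    by_contra hlt
    obtain rfl : a = 1 := by omega
    have heq := Subgroup.eq_of_le_of_card_ge hW1 (by
      rw [ha, Nat.card_congr (Subgroup.subgroupOfEquivOfLe hZk).toEquiv, hk])
    rw [← heq] at hW2
    exact hvn hW2
  · rcases Nat.lt_or_ge 3 k with h3 | h3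
    · obtain ⟨A, hA⟩ := Sylow.exists_subgroup_card_pow_prime p (n := 3) (G := P)
        (by rw [hP]; exact Nat.pow_dvd_pow p (by norm_num))
      refine ⟨A, hA, ?_⟩
      have hkle : k ≤ 4 := (Nat.pow_le_pow_iff_right hp.out.one_lt).1
        (hk ▸ hP ▸ Subgroup.card_le_card_group _)
      obtain rfl : k = 4 := by omega
      have htop : Subgroup.center P = ⊤ := Subgroup.eq_top_of_card_eq _ (hk.trans hP.symm)
      have : Subgroup.center A = ⊤ := by
        refine eq_top_iff.2 fun a _ => Subgroup.mem_center_iff.2 fun g => Subtype.ext ?_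
        exact Subgroup.mem_center_iff.1 (htop ▸ Subgroup.mem_top (a : P)) (g : P)
      rw [this, Subgroup.card_top, hA]
      exact Nat.pow_le_pow_right hp.out.pos (by norm_num)
    · obtain ⟨A, hA, hle⟩ := Sylow.exists_subgroup_card_pow_prime_le p (m := 3)
        (by rw [hP]; exact Nat.pow_dvd_pow p (by norm_num)) (Subgroup.center P) hk h3
      refine ⟨A, hA, ?_⟩
      calc p ^ 2 ≤ Nat.card (Subgroup.center P) := hk ▸ Nat.pow_le_pow_right hp.out.pos hk2
        _ = Nat.card ((Subgroup.center P).subgroupOf A) :=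
          (Nat.card_congr (Subgroup.subgroupOfEquivOfLe hle).toEquiv).symm
        _ ≤ _ := Subgroup.card_le_of_le fun z hz =>
          Subgroup.mem_center_iff.2 fun g => Subtype.ext (Subgroup.mem_center_iff.1 hz g)

end CfsgLib.BlocksCharsC.IndexP
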