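import Cfsg.Agent.BlocksCharsC.RegularSupport
import Cfsg.Agent.BlocksCharsC.InvariantIrr

/-!
# Invariant characters of normal subgroups under the principal block
-/

set_option autoImplicit false

namespace CfsgLib.BlocksCharsC

open Cfsg CfsgLib.Blocks
open scoped ComplexConjugate

universe u

variable {G : Type u} [Group G] [Fintype G] {M : Ideal AlgInt} [M.IsPrime] {p : ℕ} [Fact p.Prime]

/-- The `G`-action preserves the principal block of a normal subgroup. -/
theorem irrConj_mem_principalBlock (N : Subgroup G) [N.Normal] [Fintype N] (g : G)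
    {θ : IrrCharacter N} (hθ : θ ∈ Cfsg.principalBlock M N) :
    letI : MulAction G (IrrCharacter N) := irrConjAction N
    (g • θ : IrrCharacter N) ∈ Cfsg.principalBlock M N := by
  letI : MulAction G (IrrCharacter N) := irrConjAction N
  show (g • θ : IrrCharacter N) ∈ _
  rw [mem_principalBlock_iff] at hθ ⊢
  intro n
  let e : N ≃* N := MulAut.conjNormal g⁻¹
  have he : ∀ m : N, ((g • θ : IrrCharacter N) : N → ℂ) m = (θ : N → ℂ) (e m) := fun m =>
    show (θ : N → ℂ) _ = _ from congrArg _ (Subtype.ext (by simp [e]))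
  have hidx : (Subgroup.centralizer ({e n} : Set N)).index =
      (Subgroup.centralizer ({n} : Set N)).index := by
    rw [← Subgroup.index_comap_of_surjective (Subgroup.centralizer ({e n} : Set N))
      (f := e.toMonoidHom) e.surjective]
    congr 1
    ext x
    simp only [Subgroup.mem_comap, Subgroup.mem_centralizer_singleton_iff, MulEquiv.coe_toMonoidHom,
      ← map_mul, EmbeddingLike.apply_eq_iff_eq]
  have := hθ (e n)
  simp only [Cfsg.centralChar, he, map_one, hidx] at this ⊢
  exact this

/-- A character of the principal block over an invariant character of a normal subgroup puts the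
latter into the principal block. -/
theorem mem_principalBlock_restrict (N : Subgroup G) [N.Normal]
    [Fintype N] {θ : IrrCharacter N} {χ : IrrCharacter G} {e : ℂ}
    (hres : ∀ n : N, (χ : G → ℂ) n = e * (θ : N → ℂ) n)
    (hχ : χ ∈ Cfsg.principalBlock M G) :
    θ ∈ Cfsg.principalBlock M N := by
  classical
  letI : MulAction G (IrrCharacter N) := irrConjAction N
  set A : Set (IrrCharacter N) := Cfsg.principalBlock M N
  have hA : IsBlockUnion M A := isBlockUnion_of_isPBlock isPBlock_principalBlock
  have hAinv : ∀ (g : G) (φ : IrrCharacter N), g • φ ∈ A ↔ φ ∈ A := fun g φ =>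
    ⟨fun h => by simpa using irrConj_mem_principalBlock N g⁻¹ h, irrConj_mem_principalBlock N g⟩
  have hconj : ∀ (g : G) (n m : N), (m : G) = g * n * g⁻¹ →
      Cfsg.blockCoeff A m = Cfsg.blockCoeff A n := by
    intro g n m hm
    rw [blockCoeff_eq_sum, blockCoeff_eq_sum]
    congr 1
    refine Fintype.sum_equiv (MulAction.toPerm g⁻¹) _ _ fun φ => ?_
    simp only [MulAction.toPerm_apply, hAinv]
    have h1 : ((g⁻¹ • φ : IrrCharacter N) : N → ℂ) 1 = (φ : N → ℂ) 1 :=
      congrArg (φ : N → ℂ) (Subtype.ext (show g⁻¹⁻¹ * ((1 : N) : G) * g⁻¹ = ((1 : N) : G) by simp))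
    have h2 : ((g⁻¹ • φ : IrrCharacter N) : N → ℂ) n = (φ : N → ℂ) m :=
      congrArg (φ : N → ℂ) (Subtype.ext (show g⁻¹⁻¹ * (n : G) * g⁻¹ = (m : G) by rw [hm, inv_inv]))
    rw [h1, h2]
  let c : G → localRing M := fun x =>
    if hx : x ∈ N then ⟨Cfsg.blockCoeff A ⟨x, hx⟩, memLocalRing_blockCoeff hA _⟩ else 0
  have hc : ∀ g h : G, c (h * g * h⁻¹) = c g := by
    intro g h
    simp only [c]
    by_cases hg : g ∈ N
    · rw [dif_pos hg, dif_pos (Subgroup.Normal.conj_mem ‹N.Normal› g hg h)]
      exact Subtype.ext (hconj h ⟨g, hg⟩ ⟨h * g * h⁻¹, _⟩ rfl)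
    · rw [dif_neg hg, dif_neg (fun hh => hg (by
        have := Subgroup.Normal.conj_mem ‹N.Normal› _ hh h⁻¹
        simpa [mul_assoc] using this))]
  let z : Ctr (localRing M) G := ⟨ofFun c, mem_ctr_iff.2 fun g h => by simp [hc]⟩
  have hval : ∀ (φ : IrrCharacter G) (η : IrrCharacter N) (f : ℂ),
      (∀ n : N, (φ : G → ℂ) n = f * (η : N → ℂ) n) →
      (omegaO M φ z : ℂ) = if η ∈ A then 1 else 0 := by
    intro φ η f hf
    have hf0 : f ≠ 0 := by
      intro h0
      have := hf 1
      rw [h0, zero_mul, OneMemClass.coe_one] at this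
      exact Characters.irr_one_ne_zero φ.2 this
    rw [coe_omegaO, omega_apply, ← omega_setIdemC A η, omega_apply]
    simp only [z, toC, coeff_mapCtr, coeff_ofFun, coeff_setIdemC, c]
    have h1 := hf 1
    rw [OneMemClass.coe_one] at h1
    rw [h1, ← Finset.sum_filter_add_sum_filter_not Finset.univ (· ∈ N),
      Finset.sum_eq_zero (s := Finset.univ.filter fun x => x ∉ N) (fun x hx => by
        rw [dif_neg (Finset.mem_filter.1 hx).2, map_zero, zero_mul]), add_zero,
      Finset.sum_subtype (Finset.univ.filter (· ∈ N)) (p := (· ∈ N)) (by simp)]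
    have : ∀ n : N, (localRing M).subtype
        (if hx : (n : G) ∈ N then ⟨Cfsg.blockCoeff A ⟨n, hx⟩, memLocalRing_blockCoeff hA _⟩ else 0) *
          (φ : G → ℂ) n = f * (Cfsg.blockCoeff A n * (η : N → ℂ) n) := fun n => by
      rw [dif_pos n.2, hf n]
      show Cfsg.blockCoeff A n * _ = _
      ring
    rw [Finset.sum_congr rfl fun n _ => this n, ← Finset.mul_sum, mul_div_mul_left _ _ hf0]
  have h := DFunLike.congr_fun (omegaBar_eq_trivial hχ) (redCtr M z)
  rw [omegaBar_redCtr, omegaBar_redCtr, red_eq_red_iff, hval χ θ e hres,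
    hval (trivialIrr G) (trivialIrr N) 1 (fun n => by simp [trivialIrr]),
    if_pos (show trivialIrr N ∈ A by
      show trivialIrr N ∈ Cfsg.principalBlock M N
      rw [principalBlock_eq]; exact mem_blockOf_self _)] at h
  by_contra hne
  rw [if_neg (show θ ∉ A from hne), zero_sub] at h
  have h' := red_eq_red_iff.2 (show Cfsg.MemLocalIdeal M (((1 : localRing M) : ℂ) -
      ((0 : localRing M) : ℂ)) by
    have := memLocalIdeal_neg h
    rw [neg_neg] at this
    simpa using this)
  rw [map_one, map_zero] at h'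
  exact one_ne_zero h'

end CfsgLib.BlocksCharsC
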