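import Cfsg.Agent.BlocksCharsC.DerivedIndexP
import Cfsg.Agent.MinNormal.Factors
import Cfsg.Agent.PLocal.Cores
import Cfsg.Agent.LocalStructure.Tools
import Cfsg.Agent.S0081

/-!
# An abelian normal piece of index `p` in a Sylow subgroup
-/

set_option autoImplicit false
set_option linter.unusedSectionVars false
set_option linter.style.haveILetI false

namespace CfsgLib.BlocksCharsC

open Subgroup
open CfsgLib.MinNormal
open scoped commutatorElement

universe u

variable {G : Type u} [Group G] [Finite G] {p : ℕ} [hp : Fact p.Prime] (P : Sylow p G)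

/-- In the absence of a `p'`-core, normal subgroups of normal subgroups have order divisible by `p`. -/
theorem dvd_card_of_normal_normal (hcore : Cfsg.pPrimeCore p G = ⊥) (N T : Subgroup G) [N.Normal]
    (hle : T ≤ N) (hT : N ≤ Subgroup.normalizer (T : Set G)) (hne : T ≠ ⊥) : p ∣ Nat.card T := by
  by_contra hd
  haveI : (T.subgroupOf N).Normal :=
    (Subgroup.normal_subgroupOf_iff_le_normalizer hle).2 hT
  have h1 : T.subgroupOf N ≤ Cfsg.pPrimeCore p N := PLocal.le_pPrimeCore (by
    rw [Nat.card_congr (Subgroup.subgroupOfEquivOfLe hle).toEquiv]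
    exact PLocal.not_dvd_iff_coprime.2 hd)
  have h2 := (Subgroup.map_mono (f := N.subtype) h1).trans (PLocal.pPrimeCore_map_subtype_le N)
  rw [hcore, Subgroup.map_subgroupOf_eq_of_le hle, le_bot_iff] at h2
  exact hne h2

/-- A Sylow subgroup meets every minimal normal subgroup outside its Frattini subgroup. -/
theorem not_le_frattini (hcore : Cfsg.pPrimeCore p G = ⊥)
    (hcore' : (⁅(P : Subgroup G), (P : Subgroup G)⁆).normalCore = ⊥)
    (hidx : (_root_.commutator P).index = p ^ 2) (hnc : ¬ ∀ a b : P, a * b = b * a) (N : Subgroup G) [hN : N.Normal]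
    (hne : N ≠ ⊥) : ¬ N.subgroupOf (P : Subgroup G) ≤ frattini P := by
  intro hle
  have hNP : N ⊓ (P : Subgroup G) ≤ (frattini P).map (P : Subgroup G).subtype := fun x hx =>
    ⟨⟨x, hx.2⟩, hle (show (⟨x, hx.2⟩ : P).1 ∈ N from hx.1), rfl⟩
  obtain ⟨Q, K, hK, hKQ⟩ := Cfsg.Agent.S0081.result P N hNP
  have hKc : (Nat.card K).Coprime p := by
    rw [PLocal.not_dvd_iff_coprime, ← hKQ.index_eq_card]
    exact Sylow.not_dvd_index Q
  have hKbot : K = ⊥ := by
    have h1 := (Subgroup.map_mono (f := N.subtype) (PLocal.le_pPrimeCore hKc)).trans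
      (PLocal.pPrimeCore_map_subtype_le N)
    rw [hcore, le_bot_iff] at h1
    exact (Subgroup.map_eq_bot_iff_of_injective _ N.subtype_injective).1 h1
  subst hKbot
  have hQtop : (Q : Subgroup N) = ⊤ := Subgroup.isComplement'_bot_left.1 hKQ
  have hNp : IsPGroup p N := IsPGroup.of_equiv (hQtop ▸ Q.isPGroup')
    (Subgroup.topEquiv (G := N))
  have hNleP : N ≤ (P : Subgroup G) := IsPGroup.le_sylow_of_normal hNp P
  have hN' : N ≤ ⁅(P : Subgroup G), (P : Subgroup G)⁆ := by
    intro x hx
    obtain ⟨z, hz, rfl⟩ := hNP ⟨hx, hNleP hx⟩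
    rw [← map_subtype_commutator]
    exact ⟨z, frattini_le_commutator P.isPGroup' hidx hnc hz, rfl⟩
  exact hne (le_bot_iff.1 (hcore' ▸ Subgroup.normal_le_normalCore.2 hN'))

/-- Some minimal normal subgroup meets the Sylow subgroup in an abelian subgroup of index `p`. -/
theorem exists_abelian_index (hcore : Cfsg.pPrimeCore p G = ⊥)
    (hcore' : (⁅(P : Subgroup G), (P : Subgroup G)⁆).normalCore = ⊥)
    (hnas : ¬ ∃ S : Subgroup G, S.Normal ∧ IsSimpleGroup S ∧ ¬ IsMulCommutative S ∧
      Subgroup.centralizer (S : Set G) = ⊥)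
    (hidx : (_root_.commutator P).index = p ^ 2) (hnc : ¬ ∀ a b : P, a * b = b * a) :
    ∃ N : Subgroup G, N.Normal ∧ (N.subgroupOf (P : Subgroup G)).index = p ∧
      ∀ a b : N.subgroupOf (P : Subgroup G), a * b = b * a := by
  classical
  have hX : IsPGroup p P := P.isPGroup'
  haveI : Nontrivial G := by
    by_contra h
    rw [not_nontrivial_iff_subsingleton] at h
    exact hnc fun a b => Subtype.ext (Subsingleton.elim _ _)
  have hgen : ∀ M : Subgroup G, IsMinNormal M →
      ∃ y : P, M.subgroupOf (P : Subgroup G) ⊔ zpowers y = ⊤ ∧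
      _root_.commutator P ≤ M.subgroupOf (P : Subgroup G) ∧
      ((M.subgroupOf (P : Subgroup G)).index = 1 ∨ (M.subgroupOf (P : Subgroup G)).index = p) :=
    fun M hM => by
      haveI := hM.normal
      exact exists_generator_of_not_le hX hidx hnc _
        (not_le_frattini P hcore hcore' hidx hnc M hM.ne_bot)
  obtain ⟨N, hN, -⟩ := exists_isMinNormal_le (⊤ : Subgroup G) top_ne_bot
  haveI := hN.normal
  obtain ⟨y, hy, hyR, hidxR⟩ := hgen N hN
  set R : Subgroup P := N.subgroupOf (P : Subgroup G) with hRdef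
  haveI : R.Normal := Subgroup.normal_subgroupOf
  suffices hab : ∀ a ∈ R, ∀ b ∈ R, a * b = b * a by
    refine ⟨N, inferInstance, hidxR.resolve_left fun h1 => hnc ?_,
      fun a b => Subtype.ext (hab _ a.2 _ b.2)⟩
    exact fun a b => hab a (by rw [index_eq_one.1 h1]; exact mem_top _) b
      (by rw [index_eq_one.1 h1]; exact mem_top _)
  by_cases hNab : IsMulCommutative N
  · intro a ha b hb
    refine Subtype.ext ?_
    show (a : G) * b = b * a
    exact congrArg Subtype.val (hNab.is_comm.comm (⟨(a : G), ha⟩ : N) ⟨(b : G), hb⟩)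
  -- the centralizer of `N` is trivial
  have hCN : centralizer (N : Set G) = ⊥ := by
    by_contra hC
    obtain ⟨M, hM, hMC⟩ := exists_isMinNormal_le (centralizer (N : Set G)) hC
    obtain ⟨-, -, -, hM1⟩ := hgen M hM
    haveI := hM.normal
    set K := M.subgroupOf (P : Subgroup G)
    have hKR : K ⊓ R = ⊥ := by
      rw [eq_bot_iff]
      intro x hx
      exact Subgroup.mem_bot.2 (Subtype.ext (eq_one_of_commute_all hN hNab hx.2 fun m hm =>
        (mem_centralizer_iff.1 (hMC hx.1) m hm).symm))
    have hK : Nat.card K ≤ R.index := by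
      rw [index_eq_card]
      refine Nat.card_le_card_of_injective ((QuotientGroup.mk' R).comp K.subtype)
        ((injective_iff_map_eq_one _).2 fun k hk => ?_)
      have : (k : P) ∈ K ⊓ R := ⟨k.2, (QuotientGroup.eq_one_iff _).1 hk⟩
      rw [hKR, mem_bot] at this
      exact Subtype.ext this
    have hcard : Nat.card P ≤ p ^ 2 := by
      rw [← card_mul_index K, pow_two]
      refine Nat.mul_le_mul (hK.trans ?_) ?_
      · rcases hidxR with h | h <;> rw [h]
        exact hp.out.pos
      · rcases hM1 with h | h <;> rw [h]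
        exact hp.out.pos
    apply hnc
    refine fun a b => ?_
    obtain ⟨n, hn⟩ := IsPGroup.iff_card.1 hX
    have hn2 : n = 2 := by
      have h1 : n ≤ 2 := (Nat.pow_le_pow_iff_right hp.out.one_lt).1 (hn ▸ hcard)
      have h2 : p ^ 2 ∣ Nat.card P := hidx ▸ index_dvd_card _
      rw [hn, Nat.pow_dvd_pow_iff_le_right hp.out.one_lt] at h2
      omega
    subst hn2
    exact (IsPGroup.isMulCommutative_of_card_eq_prime_sq hn).is_comm.comm a b
  -- the centralizer of a factor inside `N`
  have hfac : ∀ T, IsFactor N T → N ⊓ centralizer (T : Set G) ≠ ⊥ := by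
    intro T hT hC
    have hTN : T = N := by
      refine le_antisymm hT.le fun n hn => ?_
      obtain ⟨t, ht, z, hzN, hz, rfl⟩ := exists_mul_decomp hN hT hn
      have : z ∈ N ⊓ centralizer (T : Set G) :=
        ⟨hzN, mem_centralizer_iff.2 fun u hu => (hz u hu).symm⟩
      rw [hC, mem_bot] at this
      rw [this, mul_one]; exact ht
    subst hTN
    exact hnas ⟨_, inferInstance, hT.isSimpleGroup hN, hNab, hCN⟩
  -- `R` is a Sylow subgroup of `N`
  obtain ⟨RN, hRN⟩ := LocalStructure.sylow_inf P (X := N)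
    (by rw [Subgroup.normalizer_eq_top_iff.2 (inferInstance : N.Normal)]; exact le_top)
  have hproj : ∀ T, IsFactor N T → ∃ π : N →* G, (∀ n, π n ∈ T) ∧ (∀ n : N, (n : G) ∈ T → π n = n) ∧
      (∀ n : N, (∀ u ∈ T, Commute (n : G) u) → π n = 1) ∧
      (∀ n : N, (π n)⁻¹ * (n : G) ∈ centralizer (T : Set G)) ∧
      (∀ n : N, (n : G) ∈ (P : Subgroup G) → π n ∈ (P : Subgroup G)) := by
    intro T hT
    have huniq : ∀ t ∈ T, ∀ t' ∈ T, ∀ z z' : G, (∀ u ∈ T, Commute z u) → (∀ u ∈ T, Commute z' u) →
        t * z = t' * z' → t = t' := by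
      intro t ht t' ht' z z' hz hz' h
      have h1 : t'⁻¹ * t = 1 := hT.eq_one_of_commute hN hNab (T.mul_mem (T.inv_mem ht') ht) fun u hu => by
        have : t'⁻¹ * t = z' * z⁻¹ := by
          rw [eq_mul_inv_iff_mul_eq, mul_assoc, h, inv_mul_cancel_left]
        rw [this]
        exact (hz' u hu).mul_left (hz u hu).inv_left
      exact (inv_mul_eq_one.1 h1).symm
    choose t ht z hzN hz htz using fun n : N => exists_mul_decomp hN hT n.2
    let π : N →* G := MonoidHom.mk' t fun a b => by
      refine huniq _ (ht _) _ (T.mul_mem (ht a) (ht b)) (z (a * b)) (z a * z b) (hz _)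
        (fun u hu => (hz a u hu).mul_left (hz b u hu)) ?_
      rw [← htz, Subgroup.coe_mul, htz a, htz b, mul_assoc, ← mul_assoc (z a),
        (hz a _ (ht b)).eq]
      group
    refine ⟨π, ht, fun n hn => ?_, fun n hn => ?_, fun n => ?_, fun n hn => ?_⟩
    · exact huniq _ (ht n) _ hn (z n) 1 (hz n) (fun u _ => Commute.one_left u)
        (by rw [← htz, mul_one])
    · exact huniq _ (ht n) _ T.one_mem (z n) n (hz n) hn (by rw [← htz, one_mul])
    · show (t n)⁻¹ * (n : G) ∈ _
      rw [htz n, inv_mul_cancel_left]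
      exact mem_centralizer_iff.2 fun u hu => (hz n u hu).symm
    · -- images of elements of the Sylow subgroup stay inside it
      let S : Subgroup N := ((RN : Subgroup N).map π).subgroupOf N
      have hπr : ∀ r : N, ∀ m : N, (r : G) * π m * (r : G)⁻¹ = π (r * m * r⁻¹) := by
        intro r m
        conv_lhs => rw [htz r]
        show t r * z r * t m * (t r * z r)⁻¹ = π (r * m * r⁻¹)
        rw [mul_assoc (t r) (z r), (hz r _ (ht m)).eq, map_mul, map_mul, map_inv]
        show _ = t r * t m * (t r)⁻¹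
        group
      have hSp : IsPGroup p S :=
        ((RN.isPGroup'.map π).comap_subtype (K := N))
      have hnorm : (RN : Subgroup N) ≤ Subgroup.normalizer (S : Set N) := by
        refine le_normalizer_of_conj_mem ?_
        rintro r hr s ⟨m, hm, hms⟩
        refine ⟨r * m * r⁻¹, (RN : Subgroup N).mul_mem ((RN : Subgroup N).mul_mem hr hm)
          ((RN : Subgroup N).inv_mem hr), ?_⟩
        rw [← hπr, hms]
        rfl
      have hle : S ≤ (RN : Subgroup N) :=
        le_sup_right.trans (RN.3 (IsPGroup.to_sup_of_normal_right' RN.isPGroup' hSp hnorm)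
          le_sup_left).le
      have hnR : n ∈ (RN : Subgroup N) := by rw [hRN]; exact ⟨hn, n.2⟩
      have h1 : (⟨π n, hT.le (ht n)⟩ : N) ∈ (RN : Subgroup N) := hle ⟨n, hnR, rfl⟩
      rw [hRN] at h1
      exact h1.1
  -- a normal subgroup of `N` meets the Sylow subgroup nontrivially
  have hmeet : ∀ T : Subgroup G, T ≤ N → N ≤ Subgroup.normalizer (T : Set G) → T ≠ ⊥ →
      ∃ x ∈ (P : Subgroup G), x ∈ T ∧ x ≠ 1 := by
    intro T hle hTn hne
    obtain ⟨x, hx⟩ := exists_prime_orderOf_dvd_card' (G := T) p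
      (dvd_card_of_normal_normal hcore N T hle hTn hne)
    set x' : N := ⟨(x : G), hle x.2⟩
    have hxo : orderOf x' = p := by
      rw [← Subgroup.orderOf_coe, ← hx, ← Subgroup.orderOf_coe x]
    obtain ⟨Q, hQ⟩ := (IsPGroup.of_card (n := 1) (G := zpowers x')
      (by rw [Nat.card_zpowers, hxo, pow_one])).exists_le_sylow
    obtain ⟨g, hg⟩ := MulAction.exists_smul_eq N Q RN
    have h1 : g * x' * g⁻¹ ∈ (RN : Subgroup N) := by
      rw [← hg, Sylow.smul_def, Sylow.pointwise_smul_def]
      exact ⟨x', hQ (mem_zpowers x'), rfl⟩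
    rw [hRN] at h1
    refine ⟨(g : G) * x * (g : G)⁻¹, h1.1,
      conj_mem_of_le_normalizer hTn g.2 x.2, fun hc => ?_⟩
    have hx1 : (x : G) = 1 := conj_eq_one_iff.1 hc
    rw [← Subgroup.orderOf_coe, hx1, orderOf_one] at hx
    exact hp.out.ne_one hx.symm
  -- no factor is normalized by the Sylow subgroup
  have hnofix : ∀ T, IsFactor N T → ¬ (P : Subgroup G) ≤ Subgroup.normalizer (T : Set G) := by
    intro T hT hfix
    obtain ⟨π, hπT, hπid, hπ1, hπC, hπP⟩ := hproj T hT
    set C := N ⊓ centralizer (T : Set G) with hC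
    let K₁ := T.subgroupOf (P : Subgroup G)
    let K₂ := C.subgroupOf (P : Subgroup G)
    haveI : K₁.Normal := ⟨fun x hx g => conj_mem_of_le_normalizer hfix g.2 hx⟩
    haveI : K₂.Normal := by
      refine ⟨fun x hx g => ⟨hN.normal.conj_mem _ hx.1 _, mem_centralizer_iff.2 fun u hu => ?_⟩⟩
      have h1 : (g : G)⁻¹ * u * g ∈ T := by
        have := conj_mem_of_le_normalizer hfix (inv_mem g.2) hu
        rwa [inv_inv] at this
      have h2 : (g : G)⁻¹ * u * g * (x : G) = (x : G) * ((g : G)⁻¹ * u * g) :=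
        mem_centralizer_iff.1 hx.2 _ h1
      show u * ((g : G) * x * (g : G)⁻¹) = (g : G) * x * (g : G)⁻¹ * u
      calc u * ((g : G) * x * (g : G)⁻¹) = g * ((g : G)⁻¹ * u * g * x) * (g : G)⁻¹ := by group
        _ = g * ((x : G) * ((g : G)⁻¹ * u * g)) * (g : G)⁻¹ := by rw [h2]
        _ = (g : G) * x * (g : G)⁻¹ * u := by group
    have hdisj : K₁ ⊓ K₂ = ⊥ := by
      rw [eq_bot_iff]
      intro x hx
      exact Subgroup.mem_bot.2 (Subtype.ext (hT.eq_one_of_commute hN hNab hx.1 fun u hu =>
        (mem_centralizer_iff.1 hx.2.2 u hu).symm))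
    have hsup : K₁ ⊔ K₂ = R := by
      refine le_antisymm (sup_le (fun x hx => hT.le hx) fun x hx => hx.1) fun x hx => ?_
      have hxP := hπP ⟨(x : G), hx⟩ x.2
      rw [show x = (⟨π ⟨(x : G), hx⟩, hxP⟩ : P) *
        ⟨(π ⟨(x : G), hx⟩)⁻¹ * (x : G), mul_mem (inv_mem hxP) x.2⟩ from
          Subtype.ext (by simp)]
      exact mul_mem (mem_sup_left (hπT _))
        (mem_sup_right ⟨N.mul_mem (N.inv_mem (hT.le (hπT _))) hx, hπC _⟩)
    have h1 : K₁ ≠ ⊥ := fun h => by
      obtain ⟨x, hxP, hxT, hx1⟩ := hmeet T hT.le hT.normal hT.ne_bot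
      have : (⟨x, hxP⟩ : P) ∈ K₁ := hxT
      rw [h, mem_bot] at this
      exact hx1 (congrArg Subtype.val this)
    have hCn : N ≤ Subgroup.normalizer (C : Set G) := by
      refine le_normalizer_of_conj_mem fun n hn c hc => ?_
      refine ⟨N.mul_mem (N.mul_mem hn hc.1) (N.inv_mem hn), mem_centralizer_iff.2 fun u hu => ?_⟩
      have h1 : n⁻¹ * u * n ∈ T := by
        have := conj_mem_of_le_normalizer hT.normal (N.inv_mem hn) hu
        rwa [inv_inv] at this
      have h2 := mem_centralizer_iff.1 hc.2 _ h1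
      calc u * (n * c * n⁻¹) = n * (n⁻¹ * u * n * c) * n⁻¹ := by group
        _ = n * (c * (n⁻¹ * u * n)) * n⁻¹ := by rw [h2]
        _ = n * c * n⁻¹ * u := by group
    have h2 : K₂ ≠ ⊥ := fun h => by
      obtain ⟨x, hxP, hxT, hx1⟩ := hmeet C inf_le_left hCn (hfac T hT)
      have : (⟨x, hxP⟩ : P) ∈ K₂ := hxT
      rw [h, mem_bot] at this
      exact hx1 (congrArg Subtype.val this)
    exact hnc (comm_of_two_factors hX hidx R hy K₁ K₂ h1 h2 hdisj hsup)
  -- the projection of `R` to each factor is commutative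
  have hproj_comm : ∀ T, IsFactor N T → ∀ a ∈ R, ∀ b ∈ R, (a : G) ∈ T → (b : G) ∈ T →
      a * b = b * a := by
    intro T hT
    obtain ⟨π, hπT, hπid, hπ1, hπC, hπP⟩ := hproj T hT
    have hidxp : R.index = p := hidxR.resolve_left fun h1 => by
      refine hnofix T hT fun g hg => hT.normal ?_
      exact (by rw [index_eq_one.1 h1]; exact mem_top _ : (⟨g, hg⟩ : P) ∈ R)
    have hfy : (y : G) ∉ Subgroup.normalizer (T : Set G) := fun h => hnofix T hT (by
      intro g hg
      have h2 : (⟨g, hg⟩ : P) ∈ R ⊔ zpowers y := hy ▸ mem_top _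
      have h3 : R ⊔ zpowers y ≤ (Subgroup.normalizer (T : Set G)).subgroupOf (P : Subgroup G) :=
        sup_le (fun r hr => hT.normal hr) (zpowers_le.2 h)
      exact h3 h2)
    have hyp : y ^ p ∈ R := by
      have := pow_index_mem R y
      rwa [hidxp] at this
    have hpow : ∀ i, 0 < i → i < p → (y : G) ^ i ∉ Subgroup.normalizer (T : Set G) := by
      intro i h0 hi h
      have hco : Nat.Coprime i p := ((hp.out.coprime_iff_not_dvd).2
        (Nat.not_dvd_of_pos_of_lt h0 hi)).symm
      have h2 : (y : G) ^ p ∈ Subgroup.normalizer (T : Set G) := hT.normal hyp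
      apply hfy
      have e : (1 : ℤ) = i * Nat.gcdA i p + p * Nat.gcdB i p := by
        rw [← Nat.gcd_eq_gcd_ab, hco.gcd_eq_one]; rfl
      rw [← zpow_one (y : G), e, zpow_add, zpow_mul, zpow_mul, zpow_natCast, zpow_natCast]
      exact mul_mem (zpow_mem h _) (zpow_mem h2 _)
    -- the part of the Sylow subgroup in `T`
    set R₁ : Subgroup P := T.subgroupOf (P : Subgroup G)
    let Rmap : R →* R₁ :=
      { toFun := fun r => ⟨⟨π ⟨((r : P) : G), r.2⟩, hπP _ (r : P).2⟩, hπT _⟩
        map_one' := Subtype.ext (Subtype.ext (map_one π))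
        map_mul' := fun a b => Subtype.ext (Subtype.ext
          (map_mul π ⟨((a : P) : G), a.2⟩ ⟨((b : P) : G), b.2⟩)) }
    let sh : ℕ → R →* R := fun i =>
      { toFun := fun r => ⟨y ^ i * r * (y ^ i)⁻¹, (inferInstance : R.Normal).conj_mem _ r.2 _⟩
        map_one' := Subtype.ext (by simp)
        map_mul' := fun a b => Subtype.ext (by simp [mul_assoc]) }
    let ψ : R →* Abelianization R₁ :=
      ∏ i ∈ Finset.range p, (Abelianization.of.comp Rmap).comp (sh i)
    have hψy : ∀ r : R, ψ (sh 1 r) = ψ r := by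
      intro r
      have hsh : ∀ i, sh i (sh 1 r) = sh (i + 1) r := fun i =>
        Subtype.ext (by simp [sh, pow_succ, mul_assoc])
      simp only [ψ, MonoidHom.finsetProd_apply, MonoidHom.comp_apply, hsh]
      have hper : Abelianization.of (Rmap (sh p r)) = Abelianization.of (Rmap (sh 0 r)) := by
        have : sh p r = ⟨y ^ p, hyp⟩ * sh 0 r * ⟨y ^ p, hyp⟩⁻¹ :=
          Subtype.ext (by simp [sh])
        rw [this, map_mul, map_mul, map_inv, map_mul, map_mul, map_inv, mul_inv_cancel_comm]
      set f := fun i => Abelianization.of (Rmap (sh i r))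
      show ∏ i ∈ Finset.range p, f (i + 1) = ∏ i ∈ Finset.range p, f i
      have h1 : (∏ i ∈ Finset.range p, f (i + 1)) * f 0 = (∏ i ∈ Finset.range p, f i) * f p := by
        rw [← Finset.prod_range_succ', Finset.prod_range_succ]
      rw [show f p = f 0 from hper] at h1
      exact mul_right_cancel h1
    have hψsurj : Function.Surjective ψ := by
      intro q
      induction q using QuotientGroup.induction_on with
      | H a =>
        refine ⟨⟨(a : P), hT.le a.2⟩, ?_⟩
        simp only [ψ, MonoidHom.finsetProd_apply, MonoidHom.comp_apply]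
        rw [Finset.prod_eq_single_of_mem 0 (Finset.mem_range.2 hp.out.pos) (fun i hi hi0 => ?_)]
        · refine congrArg Abelianization.of (Subtype.ext (Subtype.ext ?_))
          show π ⟨((y ^ 0 * (a : P) * (y ^ 0)⁻¹ : P) : G), _⟩ = ((a : P) : G)
          refine (hπid _ ?_).trans (by simp)
          show ((y ^ 0 * (a : P) * (y ^ 0)⁻¹ : P) : G) ∈ T
          rw [pow_zero, one_mul, inv_one, mul_one]
          exact a.2
        · rw [← map_one Abelianization.of]
          refine congrArg Abelianization.of (Subtype.ext (Subtype.ext ?_))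
          refine hπ1 _ fun u hu => ?_
          set gi : G := (y : G) ^ i
          have hne : T.map (MulAut.conj gi).toMonoidHom ≠ T := fun h => by
            refine hpow i (Nat.pos_of_ne_zero hi0) (Finset.mem_range.1 hi) ?_
            rw [Subgroup.mem_normalizer_iff]
            intro x
            conv_rhs => rw [← h]
            constructor
            · exact fun hx => ⟨x, hx, rfl⟩
            · rintro ⟨x', hx', he⟩
              rwa [← (MulAut.conj gi).injective (show MulAut.conj gi x' = MulAut.conj gi x from he)]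
          refine (hT.conj hN gi).commute hT hne ?_ hu
          exact ⟨((a : P) : G), a.2, by
            show gi * ((a : P) : G) * gi⁻¹ = _
            simp [sh, gi]⟩
    have hker : _root_.commutator P ≤ ψ.ker.map R.subtype := by
      set K := ψ.ker.map R.subtype with hKdef
      have hyK : ∀ r : R, (sh 1 r : P) * (r : P)⁻¹ ∈ K := fun r =>
        ⟨sh 1 r * r⁻¹, MonoidHom.mem_ker.2 (by rw [map_mul, hψy, map_inv, mul_inv_cancel]), rfl⟩
      have hRK : ∀ a ∈ R, ∀ b ∈ R, ⁅a, b⁆ ∈ K := fun a ha b hb =>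
        ⟨⁅(⟨a, ha⟩ : R), ⟨b, hb⟩⁆, MonoidHom.mem_ker.2 (by
          rw [map_commutatorElement, commutatorElement_eq_one_iff_mul_comm]; exact mul_comm _ _),
          rfl⟩
      haveI : K.Normal := by
        rw [← Subgroup.normalizer_eq_top_iff, eq_top_iff, ← hy, sup_le_iff, zpowers_le]
        refine ⟨le_normalizer_of_conj_mem ?_, ?_⟩
        · rintro r hr _ ⟨k, hk, rfl⟩
          exact ⟨⟨r, hr⟩ * k * ⟨r, hr⟩⁻¹, (inferInstance : ψ.ker.Normal).conj_mem k hk _, rfl⟩
        · rw [Subgroup.mem_normalizer_iff]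
          intro x
          constructor
          · rintro ⟨k, hk, rfl⟩
            exact ⟨sh 1 k, MonoidHom.mem_ker.2 ((hψy k).trans hk), by simp [sh]⟩
          · rintro ⟨k, hk, he⟩
            have hx : x ∈ R := by
              have := (inferInstance : R.Normal).conj_mem (y * x * y⁻¹) (he ▸ k.2) y⁻¹
              simpa [mul_assoc] using this
            refine ⟨⟨x, hx⟩, MonoidHom.mem_ker.2 ?_, rfl⟩
            rw [← hψy, show sh 1 ⟨x, hx⟩ = k from
              Subtype.ext (by simpa [sh] using he.symm)]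
            exact hk
      set q := QuotientGroup.mk' K
      have hcen : ∀ r ∈ R, q r ∈ center (P ⧸ K) := by
        intro r hr
        rw [mem_center_iff]
        intro g
        obtain ⟨g, rfl⟩ := QuotientGroup.mk'_surjective _ g
        have hle : R ⊔ zpowers y ≤ (centralizer ({q r} : Set (P ⧸ K))).comap q := by
          refine sup_le (fun a ha => ?_) (zpowers_le.2 ?_) <;>
            rw [mem_comap, mem_centralizer_singleton_iff, ← commutatorElement_eq_one_iff_mul_comm,
              ← map_commutatorElement]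
          · exact (QuotientGroup.eq_one_iff _).2 (hRK a ha r hr)
          · refine (QuotientGroup.eq_one_iff _).2 ?_
            simpa [sh, commutatorElement_def] using hyK ⟨r, hr⟩
        exact mem_centralizer_singleton_iff.1 (hle (hy ▸ mem_top g))
      rw [← QuotientGroup.ker_mk' K, commutator_eq_closure, closure_le]
      rintro _ ⟨a, b, rfl⟩
      refine MonoidHom.mem_ker.2 ?_
      rw [map_commutatorElement, commutatorElement_eq_one_iff_mul_comm]
      obtain ⟨r, hr, s, hs, rfl⟩ :=
        mem_sup_of_normal_left.1 (show a ∈ R ⊔ zpowers y from hy ▸ mem_top a)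
      obtain ⟨r', hr', s', hs', rfl⟩ :=
        mem_sup_of_normal_left.1 (show b ∈ R ⊔ zpowers y from hy ▸ mem_top b)
      obtain ⟨i, rfl⟩ := mem_zpowers_iff.1 hs
      obtain ⟨j, rfl⟩ := mem_zpowers_iff.1 hs'
      simp only [map_mul, map_zpow]
      exact (((show Commute (q r) (q r') from (mem_center_iff.1 (hcen r hr) _).symm).mul_right
        (mem_center_iff.1 (hcen r hr) _).symm).mul_left
        ((show Commute (q y ^ i) (q r') from mem_center_iff.1 (hcen r' hr') _).mul_right
          ((Commute.refl (q y)).zpow_zpow i j))).eq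
    have hidxA : (_root_.commutator R₁).index ≤ p := by
      have h1 := Nat.le_of_dvd Nat.card_pos (card_dvd_of_le hker)
      rw [card_map_of_injective R.subtype_injective] at h1
      have h2 := card_mul_index ψ.ker
      rw [index_ker, MonoidHom.range_eq_top.2 hψsurj, Subgroup.card_top] at h2
      have h3 := card_mul_index R
      have h4 := card_mul_index (_root_.commutator P)
      rw [hidxp, ← h4, hidx, ← h2] at h3
      have h5 : Nat.card (_root_.commutator P) * Nat.card (Abelianization R₁) ≤
          Nat.card ψ.ker * Nat.card (Abelianization R₁) := Nat.mul_le_mul_right _ h1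
      have h0 : 0 < Nat.card (_root_.commutator P) := Nat.card_pos
      rw [index_eq_card]
      have h6 : Nat.card ψ.ker * Nat.card (Abelianization R₁) =
          Nat.card (_root_.commutator P) * p := Nat.eq_of_mul_eq_mul_right hp.out.pos
            (h3.trans (by ring))
      exact Nat.le_of_mul_le_mul_left (h5.trans h6.le) h0
    intro a _ b _ haT hbT
    exact congrArg Subtype.val
      (comm_of_index_commutator_le (hX.to_subgroup R₁) hidxA ⟨a, haT⟩ ⟨b, hbT⟩)
  -- commutators project trivially to every factor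
  intro a ha b hb
  rw [← commutatorElement_eq_one_iff_mul_comm]
  obtain ⟨T₀, hT₀⟩ := exists_isFactor hN
  set c : N := ⁅(⟨(a : G), ha⟩ : N), ⟨(b : G), hb⟩⁆
  refine Subtype.ext (eq_one_of_commute_factors hN hNab hT₀
    (show (c : G) ∈ N from c.2) fun V hV v hv => ?_)
  obtain ⟨π, hπT, hπid, hπ1, hπC, hπP⟩ := hproj V hV
  have hc1 : π c = 1 := by
    rw [map_commutatorElement, commutatorElement_eq_one_iff_mul_comm]
    exact congrArg Subtype.val (hproj_comm V hV ⟨_, hπP _ a.2⟩ (hV.le (hπT _))
      ⟨_, hπP _ b.2⟩ (hV.le (hπT _)) (hπT _) (hπT _))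
  have := hπC c
  rw [hc1, inv_one, one_mul] at this
  exact (mem_centralizer_iff.1 this v hv).symm

end CfsgLib.BlocksCharsC
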