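import Cfsg.Prelude.Def_Characters
import Cfsg.Agent.Characters.Generalized
import Cfsg.Agent.CharactersDeep.LinearChar

/-!
# Characters of finite powers of a group
-/

set_option autoImplicit false
set_option linter.unusedSectionVars false
set_option linter.style.haveILetI false

namespace CfsgLib.BlocksCharsC

open CfsgLib.Characters
open scoped ComplexConjugate Classical

universe u v

variable {M : Type u} [Group M] [Fintype M] {X : Type v} [Fintype X]

/-- The product of the characters `φ x` in the coordinates `x`. -/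
noncomputable def prodChar (φ : X → M → ℂ) : (X → M) → ℂ := fun f => ∏ x, φ x (f x)

theorem isCharacter_prodChar {φ : X → M → ℂ} (h : ∀ x, Cfsg.IsCharacter M (φ x)) :
    Cfsg.IsCharacter (X → M) (prodChar φ) := by
  rw [show prodChar φ = ∏ x, fun f : X → M => φ x (f x) by
    funext f; simp [prodChar]]
  exact Finset.prod_induction _ (Cfsg.IsCharacter (X → M)) (fun _ _ => isCharacter_mul)
    isCharacter_one fun x _ => isCharacter_comp (Pi.evalMonoidHom (fun _ : X => M) x) (h x)

theorem classInner_prodChar (φ ψ : X → M → ℂ) :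
    Cfsg.classInner (prodChar φ) (prodChar ψ) = ∏ x, Cfsg.classInner (φ x) (ψ x) := by
  simp only [Cfsg.classInner, prodChar, map_prod, ← Finset.prod_mul_distrib]
  rw [Nat.card_fun, Nat.cast_pow, ← inv_pow, Finset.prod_mul_distrib, Finset.prod_const,
    Finset.card_univ, ← Nat.card_eq_fintype_card, Fintype.prod_sum]

theorem isIrr_prodChar {φ : X → M → ℂ} (h : ∀ x, Cfsg.IsIrrCharacter M (φ x)) :
    Cfsg.IsIrrCharacter (X → M) (prodChar φ) := by
  refine isIrr_of_classInner_self (isCharacter_prodChar fun x => isCharacter_of_isIrr (h x)) ?_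
  rw [classInner_prodChar, Finset.prod_eq_one fun x _ => classInner_isIrr_self (h x)]

theorem prodChar_injective {φ ψ : X → M → ℂ} (hφ : ∀ x, Cfsg.IsIrrCharacter M (φ x))
    (hψ : ∀ x, Cfsg.IsIrrCharacter M (ψ x)) (h : prodChar φ = prodChar ψ) : φ = ψ := by
  have h1 : ∏ x, Cfsg.classInner (φ x) (ψ x) = 1 := by
    rw [← classInner_prodChar, h, classInner_isIrr_self (isIrr_prodChar hψ)]
  funext x
  by_contra hne
  exact one_ne_zero (h1.symm.trans
    (Finset.prod_eq_zero (Finset.mem_univ x) (classInner_isIrr_ne (hφ x) (hψ x) hne)))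

/-- Every irreducible character of a power is a product of irreducible characters. -/
theorem exists_eq_prodChar {θ : (X → M) → ℂ} (hθ : Cfsg.IsIrrCharacter (X → M) θ) :
    ∃ φ : X → M → ℂ, (∀ x, Cfsg.IsIrrCharacter M (φ x)) ∧ θ = prodChar φ := by
  by_contra hno
  push Not at hno
  have hzero : ∀ Φ : X → Cfsg.IrrCharacter M,
      Cfsg.classInner θ (prodChar fun x => (Φ x : M → ℂ)) = 0 := fun Φ =>
    classInner_isIrr_ne hθ (isIrr_prodChar fun x => (Φ x).2) (hno _ fun x => (Φ x).2)
  let R : (X → M) → ℂ := fun f => if f = 1 then (Fintype.card (X → M) : ℂ) else 0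
  have hR : R = ∑ Φ : X → Cfsg.IrrCharacter M,
      (∏ x, (Φ x : M → ℂ) 1) • prodChar (fun x => (Φ x : M → ℂ)) := by
    funext f
    simp only [Finset.sum_apply, Pi.smul_apply, smul_eq_mul, prodChar,
      ← Finset.prod_mul_distrib]
    rw [← Fintype.prod_sum (fun x (χ : Cfsg.IrrCharacter M) => (χ : M → ℂ) 1 * (χ : M → ℂ) (f x))]
    simp only [sum_degree_mul, R]
    by_cases hf : f = 1
    · subst hf
      simp [Nat.card_eq_fintype_card]
    · obtain ⟨x, hx⟩ : ∃ x, f x ≠ 1 := by
        by_contra hc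
        push Not at hc
        exact hf (funext hc)
      rw [if_neg hf, Finset.prod_eq_zero (Finset.mem_univ x)]
      simp [hx]
  have h0 : Cfsg.classInner θ R = 0 := by
    rw [hR, classInner_sum_right, Finset.sum_eq_zero]
    intro Φ _
    rw [classInner_smul_right, hzero, mul_zero]
  refine irr_one_ne_zero hθ ?_
  rw [Cfsg.classInner, Finset.sum_eq_single 1 (fun f _ hf => by simp [R, hf]) (by simp)] at h0
  simpa [R, Fintype.card_ne_zero] using h0

theorem extendByZero_pi (H : X → Subgroup M) (lam : ∀ x, H x →* ℂˣ)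
    (Lam : Subgroup.pi Set.univ H →* ℂˣ)
    (hLam : ∀ k, Lam k = ∏ x, lam x ⟨(k : X → M) x, k.2 x (Set.mem_univ x)⟩) (f : X → M) :
    Cfsg.extendByZero (Subgroup.pi Set.univ H) (fun k => (Lam k : ℂ)) f =
      ∏ x, Cfsg.extendByZero (H x) (fun h => (lam x h : ℂ)) (f x) := by
  by_cases hf : f ∈ Subgroup.pi Set.univ H
  · rw [extendByZero_of_mem _ _ hf, hLam, Units.coe_prod]
    exact Finset.prod_congr rfl fun x _ =>
      (extendByZero_of_mem (H x) (fun h => (lam x h : ℂ)) (hf x (Set.mem_univ x))).symm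
  · obtain ⟨x, hx⟩ : ∃ x, f x ∉ H x := by
      by_contra hc
      push Not at hc
      exact hf fun x _ => hc x
    rw [extendByZero_of_not_mem _ _ hf, Finset.prod_eq_zero (Finset.mem_univ x)
      (extendByZero_of_not_mem (H x) _ hx)]

/-- Products of monomial characters are monomial. -/
theorem exists_prod_monomial (H : X → Subgroup M) (lam : ∀ x, H x →* ℂˣ) :
    ∃ Lam : Subgroup.pi Set.univ H →* ℂˣ,
      Cfsg.indFun (Subgroup.pi Set.univ H) (fun k => (Lam k : ℂ)) =
        prodChar (fun x => Cfsg.indFun (H x) (fun h => (lam x h : ℂ))) := by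
  let K := Subgroup.pi Set.univ H
  let ev : ∀ x, K →* H x := fun x =>
    { toFun := fun k => ⟨(k : X → M) x, k.2 x (Set.mem_univ x)⟩
      map_one' := rfl
      map_mul' := fun _ _ => rfl }
  let Lam : K →* ℂˣ := ∏ x, (lam x).comp (ev x)
  have hLam : ∀ k, Lam k = ∏ x, lam x ⟨(k : X → M) x, k.2 x (Set.mem_univ x)⟩ := fun k => by
    simp [Lam, ev, MonoidHom.finsetProd_apply]
  refine ⟨Lam, funext fun f => ?_⟩
  have hK : Nat.card K = ∏ x, Nat.card (H x) := by
    rw [← Nat.card_pi]
    exact Nat.card_congr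
      { toFun := fun k x => ev x k
        invFun := fun h => ⟨fun x => h x, fun x _ => (h x).2⟩
        left_inv := fun k => rfl
        right_inv := fun h => rfl }
  simp only [Cfsg.indFun, prodChar, Finset.prod_mul_distrib]
  rw [Fintype.prod_sum, show Nat.card ↥(Subgroup.pi Set.univ H) = _ from hK, Nat.cast_prod,
    Finset.prod_inv_distrib]
  congr 1
  exact Finset.sum_congr rfl fun a _ => extendByZero_pi H lam Lam hLam _

end CfsgLib.BlocksCharsC
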