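import Cfsg.Agent.ZStar.ThirdMain
import Cfsg.Agent.BlockPairs.ThirdMain
import Cfsg.Agent.BlocksCharsC.RegularSupport
import Cfsg.Agent.LocalStructure.Tools
import Cfsg.Agent.CharactersDeep.Gallagher
import Mathlib.GroupTheory.SchurZassenhaus

/-!
# The principal block idempotent on a normal subgroup

The coefficients of the principal block idempotent of `G` over a normal subgroup add up to a
local unit: this is the third main theorem at a Sylow subgroup.
-/

set_option autoImplicit false
set_option linter.unusedSectionVars false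
set_option linter.style.haveILetI false

namespace CfsgLib.BlocksCharsC

open Cfsg CfsgLib.Blocks CfsgLib.Characters
open CfsgLib.BlockPairs (GA br IsFixed IsBlock sblk gblk redC aug aug_br aug_eq_sum)
open scoped ComplexConjugate

universe u

/-- With a central Sylow subgroup the principal block idempotent is the average over the
`p`-complement. -/
theorem exists_principal_coeff {X : Type u} [Group X] [Finite X] {p : ℕ} [Fact p.Prime]
    {M : Ideal AlgInt} [M.IsPrime] (hM : Cfsg.IsPModular p M) (Q : Sylow p X)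
    (hQ : (Q : Subgroup X) ≤ Subgroup.center X) :
    ∃ K : Subgroup X, ¬ p ∣ Nat.card K ∧
      ∀ x : X, (x ∈ K → Cfsg.blockCoeff (Cfsg.principalBlock M X) x = (Nat.card K : ℂ)⁻¹) ∧
        (x ∉ K → Cfsg.blockCoeff (Cfsg.principalBlock M X) x = 0) := by
  classical
  haveI := Fintype.ofFinite X
  haveI hn : (Q : Subgroup X).Normal := by
    refine ⟨fun a ha g => ?_⟩
    rwa [Subgroup.mem_center_iff.1 (hQ ha) g, mul_inv_cancel_right]
  obtain ⟨K, hK⟩ := Subgroup.exists_right_complement'_of_coprime (N := (Q : Subgroup X))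
    (Sylow.card_coprime_index Q)
  have hKp : ¬ p ∣ Nat.card K := by
    rw [← hK.symm.index_eq_card]
    exact Sylow.not_dvd_index Q
  have hsup : (Q : Subgroup X) ⊔ K = ⊤ := hK.sup_eq_top
  haveI : K.Normal := by
    rw [← Subgroup.normalizer_eq_top_iff, eq_top_iff, ← hsup, sup_le_iff]
    refine ⟨fun a ha => ?_, Subgroup.le_normalizer⟩
    rw [Subgroup.mem_normalizer_iff]
    intro x
    rw [← Subgroup.mem_center_iff.1 (hQ ha) x, mul_inv_cancel_right]
  haveI := Fintype.ofFinite K
  refine ⟨K, hKp, ?_⟩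
  set B := Cfsg.principalBlock M X
  have hmem : ∀ χ : IrrCharacter X, χ ∈ B ↔ K ≤ PrincipalBlock.charKer χ := fun χ =>
    ⟨fun h => PrincipalBlock.le_charKer_of_mem hM K hKp h,
      fun h => PrincipalBlock.mem_principalBlock_of_ker hM K (Q : Subgroup X) ⊤ hKp Q.isPGroup'
        (by rw [sup_comm, hsup]) le_top h⟩
  have hind : ∀ χ : IrrCharacter X, Cfsg.classInner (Cfsg.indFun K (fun _ => 1)) (χ : X → ℂ) =
      if χ ∈ B then (χ : X → ℂ) 1 else 0 := by
    intro χ
    obtain ⟨d, -, hd⟩ := exists_degree_pos χ.2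
    rw [classInner_indFun K _ (isClassFunction_of_isIrr χ.2), Cfsg.classInner]
    simp only [one_mul, hmem]
    split_ifs with h
    · rw [Finset.sum_congr rfl (g := fun _ => conj ((χ : X → ℂ) 1)) fun k _ => by
          rw [PrincipalBlock.mem_charKer.1 (h k.2)],
        Finset.sum_const, Finset.card_univ, nsmul_eq_mul, ← Nat.card_eq_fintype_card, hd,
        Complex.conj_natCast, ← mul_assoc, inv_mul_cancel₀ natCard_ne_zero, one_mul]
    · rw [← map_sum]
      have h0 := PrincipalBlock.sum_normal_eq_zero K χ h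
      rw [← Finset.sum_filter, Finset.sum_subtype (p := (· ∈ K)) (Finset.univ.filter (· ∈ K))
        (by simp)] at h0
      rw [h0, map_zero, mul_zero]
  intro x
  have hval : Cfsg.blockCoeff B x = (Nat.card X : ℂ)⁻¹ * conj (Cfsg.indFun K (fun _ => 1) x) := by
    rw [blockCoeff_eq_sum, classFunction_expansion (isClassFunction_indFun K (fun _ => (1 : ℂ))),
      Finset.sum_apply, map_sum]
    congr 1
    refine Finset.sum_congr rfl fun χ _ => ?_
    obtain ⟨d, -, hd⟩ := exists_degree_pos χ.2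
    rw [Pi.smul_apply, smul_eq_mul, hind]
    split_ifs <;> simp [hd]
  constructor
  · intro hx
    rw [hval, OddOrderChar.indFun_normal_apply K (fun _ => (1 : ℂ)) ⟨x, hx⟩]
    simp only [OddOrderChar.conjBy, Finset.sum_const, Finset.card_univ, nsmul_eq_mul, mul_one,
      ← Nat.card_eq_fintype_card, map_mul, map_inv₀, Complex.conj_natCast]
    rw [mul_comm (Nat.card K : ℂ)⁻¹, ← mul_assoc, inv_mul_cancel₀ natCard_ne_zero, one_mul]
  · intro hx
    rw [hval, OddOrderChar.indFun_normal_eq_zero K _ hx, map_zero, mul_zero]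

variable {G : Type u} [Group G] [Finite G] {p : ℕ} [Fact p.Prime] {M : Ideal AlgInt} [M.IsPrime]

/-- The third main theorem at a Sylow subgroup. -/
theorem br_gblk_principal (hM : Cfsg.IsPModular p M) (S : Sylow p G) :
    br (S : Subgroup G) (gblk M (Cfsg.principalBlock M G)) = ZStar.pBlk M (S : Subgroup G) := by
  classical
  haveI := charP_res hM
  haveI := BlockPairs.isAlgClosed_res hM
  set b := gblk M (Cfsg.principalBlock M G)
  have hb : IsBlock (⊤ : Subgroup G) b :=
    BlockPairs.isBlock_gblk ZStar.isPBlock_principal_top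
  have hmem := BlockPairs.br_mem_cent_block (H := (⊤ : Subgroup G)) (P := (S : Subgroup G)) hb.mem
  have hidem := BlockPairs.br_idem (p := p) S.isPGroup' (hb.fixed.mono le_top) hb.idem
  have hhas := ZStar.blockHas_pBlk hM (Q := (S : Subgroup G)) S.isPGroup'
  have hsum := BlockPairs.sum_blocks_eq_one (F := Res M)
    (BlockPairs.cent (⊤ : Subgroup G) (S : Subgroup G))
  rw [← mul_one (br (S : Subgroup G) b), ← hsum, Finset.mul_sum,
    Finset.sum_eq_single (ZStar.pBlk M (S : Subgroup G))]
  · exact hhas.2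
  · intro e he hne
    have hpair : BlockPairs.IsPair p ⊤ (S : Subgroup G) e :=
      ⟨le_top, S.isPGroup', BlockPairs.mem_blocks.1 he⟩
    refine ((BlockPairs.mem_blocks.1 he).dichotomy hmem hidem).resolve_right fun h => hne ?_
    exact ZStar.eq_principal_of_blockHas hM ⟨hpair, h⟩
  · exact fun h => absurd (BlockPairs.mem_blocks.2 hhas.1.2.2) h

/-- The coefficients of the principal block idempotent over a normal subgroup add up to a unit. -/
theorem sum_blockCoeff_normal_ne_zero (hM : Cfsg.IsPModular p M) (N : Subgroup G) [N.Normal]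
    [Fintype N] :
    ∑ n : N, redC M (Cfsg.blockCoeff (Cfsg.principalBlock M G) (n : G)) ≠ 0 := by
  classical
  haveI := charP_res hM
  haveI := Fintype.ofFinite G
  obtain ⟨S⟩ : Nonempty (Sylow p G) := inferInstance
  set C := Subgroup.centralizer ((S : Subgroup G) : Set G) with hC
  obtain ⟨Q, hQ⟩ := LocalStructure.sylow_inf S (X := C) (fun x hx =>
    BlockPairs.normalizer_le_normalizer_centralizer _ (Subgroup.le_normalizer hx))
  have hQc : (Q : Subgroup C) ≤ Subgroup.center C := by
    intro x hx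
    rw [hQ] at hx
    rw [Subgroup.mem_center_iff]
    intro g
    exact Subtype.ext (Subgroup.mem_centralizer_iff.1 g.2 x hx.1).symm
  obtain ⟨K, hKp, hK⟩ := exists_principal_coeff hM Q hQc
  set b := gblk M (Cfsg.principalBlock M G)
  let a : GA (Res M) G := ofFun fun g => if g ∈ N then b.coeff g else 0
  have hacoeff : ∀ g, a.coeff g = if g ∈ N then b.coeff g else 0 := fun g => by simp [a]
  have hbfix : IsFixed (S : Subgroup G) b :=
    (BlockPairs.isBlock_gblk ZStar.isPBlock_principal_top).fixed.mono le_top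
  have hafix : IsFixed (S : Subgroup G) a := fun u hu => BlockPairs.ga_ext fun g => by
    rw [BlockPairs.conjA_coeff, hacoeff, hacoeff]
    have h1 : u⁻¹ * g * u ∈ N ↔ g ∈ N := by
      refine ⟨fun h => ?_, fun h => by simpa using ‹N.Normal›.conj_mem g h u⁻¹⟩
      have := ‹N.Normal›.conj_mem _ h u
      simpa [mul_assoc] using this
    have h2 : b.coeff (u⁻¹ * g * u) = b.coeff g := by
      have := congrArg (fun z : GA (Res M) G => z.coeff g) (hbfix u hu)
      simpa [BlockPairs.conjA_coeff] using this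
    simp only [h1, h2]
  have haug : aug a = ∑ n : N, redC M (Cfsg.blockCoeff (Cfsg.principalBlock M G) (n : G)) := by
    rw [aug_eq_sum]
    simp only [hacoeff, ← Finset.sum_filter]
    rw [Finset.sum_subtype (p := (· ∈ N)) (Finset.univ.filter (· ∈ N)) (by simp)]
    exact Finset.sum_congr rfl fun n _ => BlockPairs.gblk_coeff _ _
  rw [← haug, ← aug_br S.isPGroup' hafix, aug_eq_sum]
  have hval : ∀ g : G, (br (S : Subgroup G) a).coeff g =
      if g ∈ N ∧ ∃ h : g ∈ C, (⟨g, h⟩ : C) ∈ K then redC M (Nat.card K : ℂ)⁻¹ else 0 := by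
    intro g
    have hbr := congrArg (fun z : GA (Res M) G => z.coeff g) (br_gblk_principal hM S)
    simp only [ZStar.pBlk, BlockPairs.sblk_coeff, Cfsg.subgroupBlockCoeff] at hbr
    by_cases hgC : g ∈ C
    · rw [BlockPairs.br_coeff_mem _ _ hgC, hacoeff]
      rw [BlockPairs.br_coeff_mem _ _ hgC, dif_pos hgC] at hbr
      by_cases hgN : g ∈ N
      · rw [if_pos hgN, hbr]
        by_cases hgK : (⟨g, hgC⟩ : C) ∈ K
        · rw [(hK ⟨g, hgC⟩).1 hgK, if_pos ⟨hgN, hgC, hgK⟩]
        · rw [(hK ⟨g, hgC⟩).2 hgK, if_neg fun h => hgK h.2.2, BlockPairs.redC_zero]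
      · rw [if_neg hgN, if_neg fun h => hgN h.1]
    · rw [BlockPairs.br_coeff_not_mem _ _ hgC, if_neg fun h => hgC h.2.1]
  simp only [hval, ← Finset.sum_filter, Finset.sum_const, nsmul_eq_mul]
  let e : ((N.subgroupOf C) ⊓ K : Subgroup C) ≃
      {g : G // g ∈ N ∧ ∃ h : g ∈ C, (⟨g, h⟩ : C) ∈ K} :=
    { toFun := fun x => ⟨((x : C) : G), x.2.1, (x : C).2, x.2.2⟩
      invFun := fun g => ⟨⟨g.1, g.2.2.1⟩, g.2.1, g.2.2.2⟩
      left_inv := fun x => rfl
      right_inv := fun g => rfl }
  have hcard : ¬ p ∣ (Finset.univ.filter fun g : G =>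
      g ∈ N ∧ ∃ h : g ∈ C, (⟨g, h⟩ : C) ∈ K).card := by
    rw [← Fintype.card_subtype, ← Nat.card_eq_fintype_card, ← Nat.card_congr e]
    exact fun h => hKp (h.trans (Subgroup.card_dvd_of_le inf_le_right))
  refine mul_ne_zero (fun h => hcard ((CharP.cast_eq_zero_iff (Res M) p _).1 h)) fun h => ?_
  have hloc : Cfsg.MemLocalRing M (Nat.card K : ℂ)⁻¹ := by
    rw [← (hK 1).1 K.one_mem]
    haveI := Fintype.ofFinite C
    exact memLocalRing_blockCoeff (isBlockUnion_of_isPBlock (ZStar.isPBlock_principal C)) _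
  rw [BlockPairs.redC_of_mem hloc, red_eq_zero_iff] at h
  have h2 : Cfsg.MemLocalIdeal M ((Nat.card K : ℂ)⁻¹ * (Nat.card K : ℂ)) :=
    memLocalIdeal_mul_right h (natCast_mem (localRing M) _)
  rw [inv_mul_cancel₀ natCard_ne_zero] at h2
  exact not_memLocalIdeal_one h2

/-- A character of `p'`-degree of the principal block over an extendible one. -/
theorem exists_principal_over (hM : Cfsg.IsPModular p M) [Fintype G] (N : Subgroup G) [N.Normal]
    [Fintype N] (P : Sylow p G) {θ : IrrCharacter N} (hθ : θ ∈ Cfsg.principalBlock M N)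
    (hdeg : ¬ p ∣ Cfsg.charDegree (θ : N → ℂ))
    (H : Subgroup G) (hH : H = N ⊔ (P : Subgroup G)) (hNH : N ≤ H) (η : IrrCharacter H)
    (hη : ∀ n : N, (η : H → ℂ) (Subgroup.inclusion hNH n) = (θ : N → ℂ) n) :
    ∃ χ : IrrCharacter G, χ ∈ Cfsg.principalBlock M G ∧ ¬ p ∣ Cfsg.charDegree (χ : G → ℂ) ∧
      Cfsg.classInner (fun n : N => (χ : G → ℂ) n) (θ : N → ℂ) ≠ 0 := by
  classical
  haveI := charP_res hM
  haveI := Fintype.ofFinite H
  set B := Cfsg.principalBlock M G
  have hB : IsBlockUnion M B := isBlockUnion_of_isPBlock ZStar.isPBlock_principal_top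
  set Φ := Cfsg.indFun H (η : H → ℂ)
  choose m hm using fun χ : IrrCharacter G =>
    classInner_character_irr (isCharacter_indFun H (isCharacter_of_isIrr η.2)) χ.2
  -- the projection of the induced character to the block
  have hT1 : ∑ g : G, Cfsg.blockCoeff B g * Φ g =
      ∑ χ : IrrCharacter G, if χ ∈ B then (χ : G → ℂ) 1 * m χ else 0 := by
    have h1 : ∀ χ : IrrCharacter G, (m χ : ℂ) =
        (Nat.card G : ℂ)⁻¹ * ∑ g : G, Φ g * conj ((χ : G → ℂ) g) := fun χ => (hm χ).symm
    simp only [blockCoeff_eq_sum, h1, Finset.mul_sum, Finset.sum_mul]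
    rw [Finset.sum_comm]
    refine Finset.sum_congr rfl fun χ _ => ?_
    split_ifs
    · exact Finset.sum_congr rfl fun g _ => by ring
    · simp
  have hreg : ∀ h : H, (h : G) ∉ N → Cfsg.blockCoeff B (h : G) = 0 := by
    intro h hh
    refine blockCoeff_eq_zero hM hB ?_
    by_contra hord
    apply hh
    obtain ⟨n, hn, u, hu, hnu⟩ := Subgroup.mem_sup_of_normal_left.1 (hH ▸ h.2 : (h : G) ∈ N ⊔ (P : Subgroup G))
    obtain ⟨k, hk⟩ := IsPGroup.iff_orderOf.1 P.isPGroup' ⟨u, hu⟩
    have h1 : ((h : G) : G ⧸ N) = (u : G ⧸ N) := by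
      rw [← hnu, QuotientGroup.mk_mul, (QuotientGroup.eq_one_iff n).2 hn, one_mul]
    have hd1 : orderOf ((h : G) : G ⧸ N) ∣ p ^ k := by
      rw [h1, ← hk, Subgroup.orderOf_mk]
      exact orderOf_map_dvd (QuotientGroup.mk' N) u
    have hd2 : orderOf ((h : G) : G ⧸ N) ∣ orderOf (h : G) :=
      orderOf_map_dvd (QuotientGroup.mk' N) _
    have hco : Nat.Coprime (p ^ k) (orderOf (h : G)) :=
      ((hM.1.coprime_iff_not_dvd).2 hord).pow_left k
    exact (QuotientGroup.eq_one_iff _).1 (orderOf_eq_one_iff.1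
      (Nat.eq_one_of_dvd_coprimes hco hd1 hd2))
  have hT2 : ∑ g : G, Cfsg.blockCoeff B g * Φ g =
      (H.index : ℂ) * ∑ n : N, Cfsg.blockCoeff B (n : G) * (θ : N → ℂ) n := by
    have h1 : ∀ x : G, ∑ g : G, Cfsg.blockCoeff B g *
        Cfsg.extendByZero H (η : H → ℂ) (x⁻¹ * g * x) =
        ∑ g : G, Cfsg.blockCoeff B g * Cfsg.extendByZero H (η : H → ℂ) g := by
      intro x
      refine Fintype.sum_equiv (MulAut.conj x⁻¹).toEquiv _ _ fun g => ?_
      simp only [MulEquiv.toEquiv_eq_coe, MulEquiv.coe_toEquiv, MulAut.conj_apply, inv_inv]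
      rw [blockCoeff_isConj B (g := g) (h := x⁻¹ * g * x) (isConj_iff.2 ⟨x⁻¹, by simp⟩)]
    have h2 : ∑ g : G, Cfsg.blockCoeff B g * Φ g = (Nat.card H : ℂ)⁻¹ *
        ∑ x : G, ∑ g : G, Cfsg.blockCoeff B g *
          Cfsg.extendByZero H (η : H → ℂ) (x⁻¹ * g * x) := by
      simp only [Φ, Cfsg.indFun, Finset.mul_sum]
      rw [Finset.sum_comm]
      exact Finset.sum_congr rfl fun x _ => Finset.sum_congr rfl fun g _ => by ring
    rw [h2, Finset.sum_congr rfl fun x _ => h1 x, Finset.sum_const, Finset.card_univ, nsmul_eq_mul,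
      ← Nat.card_eq_fintype_card, ← mul_assoc]
    congr 1
    · rw [← Subgroup.index_mul_card H, Nat.cast_mul, mul_comm (H.index : ℂ), ← mul_assoc,
        inv_mul_cancel₀ natCard_ne_zero, one_mul]
    · rw [Finset.sum_congr rfl fun g _ => mul_comm (Cfsg.blockCoeff B g) _,
        sum_subgroup_extendByZero H (η : H → ℂ) (Cfsg.blockCoeff B)]
      rw [← Finset.sum_filter_add_sum_filter_not Finset.univ (fun h : H => (h : G) ∈ N),
        Finset.sum_eq_zero (s := Finset.univ.filter fun h : H => ¬ (h : G) ∈ N) (fun h hh => by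
          rw [hreg h (Finset.mem_filter.1 hh).2, mul_zero]), add_zero]
      refine Finset.sum_bij (fun h hh => (⟨(h : G), (Finset.mem_filter.1 hh).2⟩ : N)) (fun h _ => Finset.mem_univ _)
        (fun a _ b _ hab => Subtype.ext (congrArg (fun z : N => (z : G)) hab))
        (fun n _ => ⟨Subgroup.inclusion hNH n, Finset.mem_filter.2 ⟨Finset.mem_univ _, n.2⟩,
          Subtype.ext rfl⟩) fun h hh => ?_
      rw [mul_comm, ← hη]
      rfl
  -- the central element cut out on `N`
  have hloc : ∀ g : G, Cfsg.MemLocalRing M (Cfsg.blockCoeff B g) := memLocalRing_blockCoeff hB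
  let z : Ctr (localRing M) N := ⟨ofFun fun n => ⟨Cfsg.blockCoeff B (n : G), hloc _⟩,
    mem_ctr_iff.2 fun n c => Subtype.ext (by
      simp only [coeff_ofFun]
      exact blockCoeff_conj _ (n : G) (c : G))⟩
  have hz : ∑ n : N, Cfsg.blockCoeff B (n : G) * (θ : N → ℂ) n =
      (θ : N → ℂ) 1 * (omegaO M θ z : ℂ) := by
    rw [coe_omegaO, omega_apply, mul_div_cancel₀ _ (irr_one_ne_zero θ.2)]
    exact Finset.sum_congr rfl fun n _ => by simp [z, toC]
  have hzne : red M (omegaO M θ z) ≠ 0 := by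
    rw [← omegaBar_redCtr, PrincipalBlock.mem_principalBlock_iff.1 hθ,
      PrincipalBlock.omegaBar_trivChar]
    intro h0
    refine sum_blockCoeff_normal_ne_zero hM N (Eq.trans ?_ h0)
    exact Finset.sum_congr rfl fun n _ => by
      rw [BlockPairs.redC_of_mem (hloc _)]; simp [z, redCtr, B]
  obtain ⟨dθ, hdθ0, hdθ⟩ := exists_degree_pos θ.2
  have hcdθ : Cfsg.charDegree (θ : N → ℂ) = dθ := by simp [Cfsg.charDegree, hdθ]
  choose d hd0 hd using fun χ : IrrCharacter G => exists_degree_pos χ.2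
  have hcd : ∀ χ : IrrCharacter G, Cfsg.charDegree (χ : G → ℂ) = d χ := fun χ => by simp [Cfsg.charDegree, hd χ]
  obtain ⟨χ, hχB, hχp, hχm⟩ : ∃ χ, χ ∈ B ∧ ¬ p ∣ d χ ∧ m χ ≠ 0 := by
    by_contra hno
    push Not at hno
    have hidx : ¬ p ∣ H.index := fun h =>
      Sylow.not_dvd_index P (h.trans (Subgroup.index_dvd_of_le (hH ▸ le_sup_right)))
    have h1 : (((∑ χ : IrrCharacter G, if χ ∈ B then d χ * m χ else 0 : ℕ) : localRing M) : ℂ) =
        (((H.index * dθ : ℕ) : localRing M) * omegaO M θ z : localRing M) := by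
      rw [Subring.coe_mul]
      simp only [SubringClass.coe_natCast]
      push_cast
      rw [mul_assoc, ← hdθ, ← hz, ← hT2, hT1]
      exact Finset.sum_congr rfl fun χ _ => by split_ifs <;> simp [hd]
    have h2 := congrArg (red M) (Subtype.ext h1)
    rw [map_natCast, map_mul, map_natCast,
      (CharP.cast_eq_zero_iff (Res M) p _).2 (Finset.dvd_sum fun χ _ => ?_), eq_comm,
      mul_eq_zero, or_iff_left hzne, CharP.cast_eq_zero_iff (Res M) p, hM.1.dvd_mul] at h2
    · rw [hcdθ] at hdeg
      exact h2.elim hidx hdeg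
    · split_ifs with hχ
      · rcases em (p ∣ d χ) with hp' | hp'
        · exact dvd_mul_of_dvd_left hp' _
        · rw [hno χ hχ hp', mul_zero]; exact dvd_zero p
      · exact dvd_zero p
  refine ⟨χ, hχB, (hcd χ).symm ▸ hχp, ?_⟩
  -- down to `N`
  obtain ⟨c, hc⟩ := exists_nat_coeff (isCharacter_restrict H (isCharacter_of_isIrr χ.2))
  have hcη : c η ≠ 0 := by
    intro h0
    apply hχm
    have h1 := hm χ
    rw [classInner_indFun H _ (isClassFunction_of_isIrr χ.2), classInner_conj_symm, hc,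
      classInner_irr_coeff (fun ψ => (c ψ : ℂ)) η, h0, Nat.cast_zero, map_zero] at h1
    exact_mod_cast h1.symm
  have hexp : (fun n : N => (χ : G → ℂ) n) = ∑ ψ : IrrCharacter H,
      (c ψ : ℂ) • fun n : N => (ψ : H → ℂ) (Subgroup.inclusion hNH n) := by
    funext n
    have := congrFun hc (Subgroup.inclusion hNH n)
    simp only [Finset.sum_apply, Pi.smul_apply, smul_eq_mul] at this ⊢
    exact this
  choose k hk using fun ψ : IrrCharacter H => classInner_character_irr
    (isCharacter_comp (Subgroup.inclusion hNH) (isCharacter_of_isIrr ψ.2)) θ.2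
  have hkη : k η = 1 := by
    have := hk η
    rw [funext hη, classInner_isIrr_self θ.2] at this
    exact_mod_cast this.symm
  rw [hexp, classInner_sum_left, Finset.sum_congr rfl (g := fun ψ => ((c ψ * k ψ : ℕ) : ℂ))
    fun ψ _ => by rw [classInner_smul_left, hk, Nat.cast_mul], ← Nat.cast_sum, Nat.cast_ne_zero]
  intro h0
  have := Finset.sum_eq_zero_iff.1 h0 η (Finset.mem_univ _)
  rw [hkη, mul_one] at this
  exact hcη this

end CfsgLib.BlocksCharsC
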