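import Cfsg.Agent.BlocksCharsC.InvariantIrr
import Cfsg.Agent.BlocksCharsC.DetExtension
import Mathlib.Data.ZMod.Basic

/-!
# Parity arguments for real characters and determinant exponents
-/

set_option autoImplicit false

namespace CfsgLib.BlocksCharsC

open CfsgLib.Characters
open scoped ComplexConjugate

universe u

/-- An invariant `ℕ`-valued function with odd sum is odd at a fixed point of an involution. -/
theorem exists_fixed_odd_of_involution {α : Type*} [Fintype α] (τ : α → α)
    (hτ : ∀ a, τ (τ a) = a) (f : α → ℕ) (hf : ∀ a, f (τ a) = f a) (hodd : Odd (∑ a, f a)) :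
    ∃ a, τ a = a ∧ Odd (f a) := by
  classical
  by_contra hcon
  push Not at hcon
  have h : ∑ a, (f a : ZMod 2) = 0 := by
    refine Finset.sum_involution (fun a _ => τ a) ?_ ?_ ?_ ?_
    · intro a _
      rw [hf, CharTwo.add_self_eq_zero]
    · intro a _ ha h
      exact ha ((ZMod.natCast_eq_zero_iff_even).2 (Nat.not_odd_iff_even.1 (hcon a h)))
    · exact fun a _ => Finset.mem_univ _
    · exact fun a _ => hτ a
  rw [← Nat.cast_sum, ZMod.natCast_eq_zero_iff_even] at h
  exact (Nat.not_odd_iff_even.2 h) hodd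

variable {G : Type u} [Group G] [Finite G]

theorem isIrrCharacter_conj {χ : G → ℂ} (h : Cfsg.IsIrrCharacter G χ) :
    Cfsg.IsIrrCharacter G (fun g => conj (χ g)) := by
  haveI := Fintype.ofFinite G
  refine isIrr_of_classInner_self (isCharacter_conj (isCharacter_of_isIrr h)) ?_
  rw [classInner_conj_conj, classInner_isIrr_self h, map_one]

/-- Complex conjugation on irreducible characters. -/
noncomputable def conjIrr (χ : Cfsg.IrrCharacter G) : Cfsg.IrrCharacter G :=
  ⟨fun g => conj ((χ : G → ℂ) g), isIrrCharacter_conj χ.2⟩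

theorem conjIrr_conjIrr (χ : Cfsg.IrrCharacter G) : conjIrr (conjIrr χ) = χ :=
  Subtype.ext (funext fun _ => Complex.conj_conj _)

theorem real_of_conjIrr_eq {χ : Cfsg.IrrCharacter G} (h : conjIrr χ = χ) (g : G) :
    conj ((χ : G → ℂ) g) = (χ : G → ℂ) g :=
  congrFun (congrArg Subtype.val h) g

/-- A bound on the orders of linear characters bounds the determinant exponent. -/
theorem detExp_of_hom {o : ℕ} (h : ∀ (f : G →* ℂˣ) (g : G), f g ^ o = 1) {χ : G → ℂ}
    (hχ : Cfsg.IsCharacter G χ) : DetExp o χ := by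
  obtain ⟨n, ρ, rfl⟩ := hχ
  refine ⟨n, ρ, rfl, fun g => ?_⟩
  have := congrArg Units.val (h ((LinearMap.det.comp ρ).toHomUnits) g)
  simpa [MonoidHom.coe_toHomUnits] using this

/-- The abelianization bounds the determinant exponent. -/
theorem hom_pow_card_abelianization (f : G →* ℂˣ) (g : G) :
    f g ^ Nat.card (Abelianization G) = 1 := by
  rw [← Abelianization.lift_apply_of f g, ← map_pow, pow_card_eq_one', map_one]

/-- Inversion is the Galois conjugation with exponent `#G - 1`. -/
theorem exists_coprime_pow_eq_inv :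
    ∃ k : ℕ, Nat.Coprime k (Nat.card G) ∧ ∀ g : G, g ^ k = g⁻¹ := by
  refine ⟨2 * Nat.card G - 1, ?_, fun g => ?_⟩
  · have h := Nat.card_pos (α := G)
    refine Nat.coprime_of_dvd fun q hq h1 h2 => hq.ne_one (Nat.dvd_one.1 ?_)
    have := Nat.dvd_sub (h2.mul_left 2) h1
    rwa [show 2 * Nat.card G - (2 * Nat.card G - 1) = 1 by omega] at this
  · have h := Nat.card_pos (α := G)
    refine eq_inv_of_mul_eq_one_left ?_
    rw [← pow_succ, Nat.sub_add_cancel (by omega), mul_comm, pow_mul, pow_card_eq_one', one_pow]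

theorem DetExp.conj [Fintype G] {o : ℕ} {χ : G → ℂ} (h : DetExp o χ) :
    DetExp o (fun g => (starRingEnd ℂ) (χ g)) := by
  obtain ⟨k, hk, hinv⟩ := exists_coprime_pow_eq_inv (G := G)
  have := h.pow hk
  simpa [hinv, character_inv h.isCharacter] using this

end CfsgLib.BlocksCharsC
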