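import Cfsg.Agent.BlocksCharsC.RealConstituents
import Cfsg.Agent.BlocksCharsC.InvariantIrr
import Cfsg.Agent.BlocksCharsC.CliffordInvariant
import Cfsg.Agent.BlocksCharsC.OrbitSum
import Cfsg.Agent.BlocksCharsC.Restriction
import Cfsg.Agent.Characters.FixedPoints
import Cfsg.Agent.OddOrderChar.AbelianInertia

/-!
# Real characters of odd degree: kernels, inflation and fixed constituents
-/

set_option autoImplicit false
set_option linter.style.haveILetI false
set_option linter.unusedSectionVars false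

namespace CfsgLib.BlocksCharsC

open CfsgLib.Characters
open scoped ComplexConjugate

universe u

variable {G : Type u} [Group G] [Finite G]

/-- A real-valued character of odd degree. -/
def IsRealOdd (χ : G → ℂ) : Prop := (∀ g, (χ g).im = 0) ∧ Odd (Cfsg.charDegree χ)

/-- The real irreducible characters of odd degree. -/
abbrev RealOddIrr (G : Type u) [Group G] : Type u :=
  {χ : Cfsg.IrrCharacter G // (∀ g : G, ((χ : G → ℂ) g).im = 0) ∧
    Odd (Cfsg.charDegree (χ : G → ℂ))}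

theorem conjIrr_eq_of_real {χ : Cfsg.IrrCharacter G} (h : ∀ g : G, ((χ : G → ℂ) g).im = 0) :
    conjIrr χ = χ :=
  Subtype.ext (funext fun g => Complex.conj_eq_iff_im.2 (h g))

theorem charDegree_conjIrr (χ : Cfsg.IrrCharacter G) :
    Cfsg.charDegree (conjIrr χ : G → ℂ) = Cfsg.charDegree (χ : G → ℂ) := by
  simp [Cfsg.charDegree, conjIrr]

/-- Inflation of real odd-degree characters. -/
theorem card_realOdd_of_surjective {H : Type u} [Group H] [Finite H] (π : G →* H)
    (hπ : Function.Surjective π) :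
    Nat.card (RealOddIrr H) = Nat.card {χ : RealOddIrr G //
      ∀ g : G, π g = 1 → (χ.1 : G → ℂ) g = (χ.1 : G → ℂ) 1} := by
  classical
  refine Nat.card_congr (Equiv.ofBijective (fun ψ : RealOddIrr H =>
    (⟨⟨⟨fun g => (ψ.1 : H → ℂ) (π g), isIrr_comp π hπ ψ.1.2⟩, fun g => ψ.2.1 (π g), by
      simpa only [Cfsg.charDegree, map_one] using ψ.2.2⟩, fun g hg => by
      show (ψ.1 : H → ℂ) (π g) = (ψ.1 : H → ℂ) (π 1)
      rw [hg, map_one]⟩ : {χ : RealOddIrr G //
      ∀ g : G, π g = 1 → (χ.1 : G → ℂ) g = (χ.1 : G → ℂ) 1})) ⟨?_, ?_⟩)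
  · intro ψ ψ' h
    refine Subtype.ext (Subtype.ext (funext fun x => ?_))
    obtain ⟨g, rfl⟩ := hπ x
    exact congrFun (congrArg (fun z => (z.1.1 : G → ℂ)) h) g
  · rintro ⟨χ, hχ⟩
    obtain ⟨f, hf, hfe⟩ := exists_irr_quotient π.ker χ.1.2 fun n hn => hχ n (MonoidHom.mem_ker.1 hn)
    let e : H ≃* G ⧸ π.ker := (QuotientGroup.quotientKerEquivOfSurjective π hπ).symm
    have he : ∀ g : G, e (π g) = (g : G ⧸ π.ker) := fun g => by
      simp only [e, MulEquiv.symm_apply_eq]
      rfl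
    refine ⟨⟨⟨fun x => f (e x), isIrr_comp e.toMonoidHom e.surjective hf⟩, fun x => ?_, ?_⟩,
      Subtype.ext (Subtype.ext (Subtype.ext (funext fun g => ?_)))⟩
    · obtain ⟨g, rfl⟩ := hπ x
      show (f (e (π g))).im = 0
      rw [he, ← hfe]
      exact χ.2.1 g
    · show Odd (Cfsg.charDegree fun x => f (e x))
      have h1 : f (e 1) = (χ.1 : G → ℂ) 1 := by rw [map_one]; exact (hfe 1).symm
      have h2 := χ.2.2
      simp only [Cfsg.charDegree] at h2 ⊢
      rwa [h1]
    · show f (e (π g)) = _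
      rw [he, hfe]

/-- A fixed constituent of odd weight, for the conjugation action of a `2`-subgroup. -/
theorem exists_fixed_constituent (N : Subgroup G) [hN : N.Normal] [Fintype N] {P : Subgroup G}
    (hP : IsPGroup 2 P) {χ : G → ℂ} (hχ : Cfsg.IsIrrCharacter G χ)
    (hodd : Odd (Cfsg.charDegree χ)) :
    ∃ (θ : Cfsg.IrrCharacter N) (m : ℕ),
      (∀ x ∈ P, ∀ n : N, (θ : N → ℂ) ⟨x * n * x⁻¹, hN.conj_mem n n.2 x⟩ = (θ : N → ℂ) n) ∧
      Cfsg.classInner (fun n : N => χ n) (θ : N → ℂ) = m ∧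
      Odd m ∧ Odd (Cfsg.charDegree (θ : N → ℂ)) := by
  classical
  haveI : Fact (Nat.Prime 2) := ⟨Nat.prime_two⟩
  haveI := Fintype.ofFinite G
  choose m hm using fun θ : Cfsg.IrrCharacter N =>
    classInner_character_irr (isCharacter_restrict N (isCharacter_of_isIrr hχ)) θ.2
  have hsum : Cfsg.charDegree χ = ∑ θ : Cfsg.IrrCharacter N, m θ * Cfsg.charDegree (θ : N → ℂ) := by
    have h := congrFun (character_expansion (isCharacter_restrict N (isCharacter_of_isIrr hχ))) 1
    rw [Finset.sum_apply, OneMemClass.coe_one, charDegree_spec (isCharacter_of_isIrr hχ)] at h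
    rw [← Nat.cast_inj (R := ℂ), h]
    push_cast
    refine Finset.sum_congr rfl fun θ _ => ?_
    rw [Pi.smul_apply, smul_eq_mul, hm, charDegree_spec (isCharacter_of_isIrr θ.2)]
  letI : MulAction G (Cfsg.IrrCharacter N) := irrConjAction N
  letI : MulAction P (Cfsg.IrrCharacter N) := MulAction.compHom _ P.subtype
  have hmP : ∀ (g : P) (θ : Cfsg.IrrCharacter N),
      (m (g • θ) : ℤ) * Cfsg.charDegree ((g • θ : Cfsg.IrrCharacter N) : N → ℂ) =
      m θ * Cfsg.charDegree (θ : N → ℂ) := by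
    intro g θ
    have h1 : Cfsg.charDegree ((g • θ : Cfsg.IrrCharacter N) : N → ℂ) =
        Cfsg.charDegree (θ : N → ℂ) :=
      congrArg (fun z : ℂ => ⌊z.re⌋₊) (congrArg (θ : N → ℂ) (Subtype.ext
        (show (g : G)⁻¹ * ((1 : N) : G) * g = ((1 : N) : G) by simp)))
    have h2 : m (g • θ) = m θ := by
      rw [← Nat.cast_inj (R := ℂ), ← hm, ← hm]
      simp only [Cfsg.classInner]
      congr 1
      let τ : N → N := fun n => ⟨(g : G)⁻¹ * n * g, by simpa using hN.conj_mem _ n.2 (g : G)⁻¹⟩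
      have hτ : Function.Bijective τ := Finite.injective_iff_bijective.1 fun a b h =>
        Subtype.ext (mul_left_cancel (mul_right_cancel (congrArg Subtype.val h)))
      refine Fintype.sum_bijective τ hτ _ _ fun n => ?_
      have e := isClassFunction_of_isIrr hχ (n : G) (g : G)⁻¹
      rw [inv_inv] at e
      show χ n * conj ((θ : N → ℂ) (τ n)) = χ (τ n) * conj ((θ : N → ℂ) (τ n))
      exact congrArg (· * _) e.symm
    rw [h1, h2]
  obtain ⟨θ, hθfix, hθm⟩ : ∃ θ : Cfsg.IrrCharacter N, (∀ g : P, g • θ = θ) ∧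
      ¬ 2 ∣ m θ * Cfsg.charDegree (θ : N → ℂ) := by
    by_contra hnone
    push Not at hnone
    have h := dvd_sum_sub_sum_fixed (R := ℤ) hP
      (fun θ : Cfsg.IrrCharacter N => (m θ : ℤ) * Cfsg.charDegree (θ : N → ℂ)) hmP
    have h2 : (2 : ℤ) ∣ ∑ θ ∈ Finset.univ.filter
        (fun θ : Cfsg.IrrCharacter N => θ ∈ MulAction.fixedPoints P (Cfsg.IrrCharacter N)),
        (m θ : ℤ) * Cfsg.charDegree (θ : N → ℂ) := Finset.dvd_sum fun θ hθ => by
      exact_mod_cast hnone θ (Finset.mem_filter.1 hθ).2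
    have h3 := dvd_add h h2
    rw [sub_add_cancel] at h3
    rw [hsum, Nat.odd_iff] at hodd
    have : 2 ∣ ∑ θ : Cfsg.IrrCharacter N, m θ * Cfsg.charDegree (θ : N → ℂ) := by exact_mod_cast h3
    omega
  rw [Nat.two_dvd_ne_zero, ← Nat.odd_iff, Nat.odd_mul] at hθm
  refine ⟨θ, m θ, fun x hx n => ?_, hm θ, hθm.1, hθm.2⟩
  have := congrFun (congrArg Subtype.val (hθfix ⟨x⁻¹, P.inv_mem hx⟩)) n
  refine Eq.trans (congrArg (θ : N → ℂ) (Subtype.ext ?_)) this
  exact (show x * (n : G) * x⁻¹ = x⁻¹⁻¹ * n * x⁻¹ by rw [inv_inv])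

/-- A real irreducible character of odd degree is trivial on every normal subgroup of odd order. -/
theorem realOdd_trivial_on_odd (N : Subgroup G) [hN : N.Normal] (hNodd : Odd (Nat.card N))
    {χ : Cfsg.IrrCharacter G} (hχ : ∀ g : G, ((χ : G → ℂ) g).im = 0)
    (hodd : Odd (Cfsg.charDegree (χ : G → ℂ))) {n : G} (hn : n ∈ N) :
    (χ : G → ℂ) n = (χ : G → ℂ) 1 := by
  classical
  haveI := Fintype.ofFinite G
  haveI := Fintype.ofFinite N
  choose m hm using fun θ : Cfsg.IrrCharacter N =>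
    classInner_character_irr (isCharacter_restrict N (isCharacter_of_isIrr χ.2)) θ.2
  have hsum : Cfsg.charDegree (χ : G → ℂ) =
      ∑ θ : Cfsg.IrrCharacter N, m θ * Cfsg.charDegree (θ : N → ℂ) := by
    have h := congrFun (character_expansion (isCharacter_restrict N (isCharacter_of_isIrr χ.2))) 1
    rw [Finset.sum_apply, OneMemClass.coe_one, charDegree_spec (isCharacter_of_isIrr χ.2)] at h
    rw [← Nat.cast_inj (R := ℂ), h]
    push_cast
    refine Finset.sum_congr rfl fun θ _ => ?_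
    rw [Pi.smul_apply, smul_eq_mul, hm, charDegree_spec (isCharacter_of_isIrr θ.2)]
  obtain ⟨θ, hθ, hθodd⟩ := exists_fixed_odd_of_involution
    (fun θ : Cfsg.IrrCharacter N => conjIrr θ) conjIrr_conjIrr
    (fun θ => m θ * Cfsg.charDegree (θ : N → ℂ)) (fun θ => by
      rw [charDegree_conjIrr]
      congr 1
      rw [← Nat.cast_inj (R := ℂ), ← hm, ← hm]
      have e := classInner_conj_conj (fun x : N => (χ : G → ℂ) x) (θ : N → ℂ)
      rw [show (fun x : N => conj ((χ : G → ℂ) x)) = fun x : N => (χ : G → ℂ) x from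
        funext fun x => Complex.conj_eq_iff_im.2 (hχ x)] at e
      refine e.trans ?_
      rw [hm, Complex.conj_natCast]) (hsum ▸ hodd)
  have hone : (θ : N → ℂ) = fun _ => 1 := eq_one_of_real_of_odd hNodd θ.2
    fun x => Complex.conj_eq_iff_im.1 (real_of_conjIrr_eq hθ x)
  have hm0 : m θ ≠ 0 := fun h => by simp [h] at hθodd
  have hne : Cfsg.classInner (fun x : N => (χ : G → ℂ) x) (fun _ => 1) ≠ 0 := by
    rw [← hone, hm θ, Nat.cast_ne_zero]; exact hm0
  have h1 := restrict_eq_smul_of_invariant (isIrr_one (G := N)) (fun _ _ => rfl) χ.2 hne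
  have e1 := h1 ⟨n, hn⟩
  have e2 := h1 1
  rw [OneMemClass.coe_one] at e2
  rw [e1, e2]

/-- Irreducible characters of an elementary abelian `2`-group are real linear characters. -/
theorem exists_hom_of_sq_eq_one {Q : Type u} [Group Q] [Finite Q] (hQ : ∀ q : Q, q ^ 2 = 1)
    (θ : Cfsg.IrrCharacter Q) :
    ∃ f : Q →* ℂˣ, (θ : Q → ℂ) = (fun q => (f q : ℂ)) ∧ ∀ q, f q ^ 2 = 1 := by
  haveI := Fintype.ofFinite Q
  have hcomm : ∀ x y : Q, x * y = y * x := fun x y => by
    have hinv : ∀ z : Q, z⁻¹ = z := fun z => inv_eq_of_mul_eq_one_right (by rw [← sq, hQ])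
    calc x * y = (x * y)⁻¹ := (hinv _).symm
      _ = y⁻¹ * x⁻¹ := mul_inv_rev x y
      _ = y * x := by rw [hinv, hinv]
  obtain ⟨f, hf⟩ := exists_hom_of_degree_one (isCharacter_of_isIrr θ.2)
    (CfsgLib.OddOrderChar.irr_degree_one_of_comm hcomm θ)
  exact ⟨f, hf, fun q => by rw [← map_pow, hQ, map_one]⟩

end CfsgLib.BlocksCharsC
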