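import Cfsg.Agent.BlocksCharsC.RealOddFiber
import Cfsg.Agent.Solvable.Basic
import Mathlib.GroupTheory.Solvable

/-!
# Real odd-degree characters of solvable groups and the Sylow 2-normalizer
-/

set_option autoImplicit false
set_option linter.style.haveILetI false
set_option linter.unusedSectionVars false

namespace CfsgLib.BlocksCharsC

open CfsgLib.Characters CfsgLib.OddOrderChar
open scoped ComplexConjugate Pointwise

universe u

/-- A relation picking out exactly one index splits the count. -/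
theorem card_eq_sum_of_existsUnique {X C : Type*} [Finite X] [Fintype C] (R : X → C → Prop)
    (h : ∀ x, ∃! c, R x c) : Nat.card X = ∑ c, Nat.card {x : X // R x c} := by
  choose φ hφ huniq using h
  rw [← Nat.card_sigma]
  refine Nat.card_congr
    ((Equiv.sigmaFiberEquiv φ).symm.trans (Equiv.sigmaCongrRight fun c => Equiv.subtypeEquivRight
      fun x => ⟨fun e => e ▸ hφ x, fun r => (huniq x c r).symm⟩))

section Solvable

variable {G : Type u} [Group G] [Finite G]

theorem exists_normal_odd_or_elementary [Group.IsSolvable G] [Nontrivial G] :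
    ∃ Q : Subgroup G, Q.Normal ∧ Q ≠ ⊥ ∧ (Odd (Nat.card Q) ∨ ∀ q ∈ Q, q ^ 2 = 1) := by
  obtain ⟨Q, hQ, hne, hmin⟩ := CfsgLib.Solvable.exists_minimal_normal (G := G)
  haveI := hQ
  obtain ⟨p, hp, hpow⟩ := CfsgLib.Solvable.exists_prime_pow_eq_one_of_minimal_normal hne hmin
  refine ⟨Q, hQ, hne, ?_⟩
  rcases hp.eq_two_or_odd' with rfl | hodd
  · exact Or.inr hpow
  · left
    haveI := Fact.mk hp
    obtain ⟨k, hk⟩ := IsPGroup.iff_card.1 (show IsPGroup p Q from fun x =>
      ⟨1, Subtype.ext (by rw [pow_one]; exact hpow x x.2)⟩)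
    rw [hk]
    exact hodd.pow

theorem card_quotient_lt {Q : Subgroup G} [Q.Normal] (hne : Q ≠ ⊥) :
    Nat.card (G ⧸ Q) < Nat.card G := by
  rw [Subgroup.card_eq_card_quotient_mul_card_subgroup Q]
  exact lt_mul_of_one_lt_right Nat.card_pos (Q.one_lt_card_iff_ne_bot.mpr hne)

theorem le_sylow_of_sq_eq_one {Q : Subgroup G} [Q.Normal] (P : Sylow 2 G)
    (hQ : ∀ q ∈ Q, q ^ 2 = 1) : Q ≤ (P : Subgroup G) := by
  haveI : Fact (Nat.Prime 2) := ⟨Nat.prime_two⟩
  have hQp : IsPGroup 2 Q := fun x => ⟨1, Subtype.ext (by rw [pow_one]; exact hQ x x.2)⟩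
  obtain ⟨R, hR⟩ := hQp.exists_le_sylow
  obtain ⟨g, hg⟩ := MulAction.exists_smul_eq G R P
  intro x hx
  rw [← hg, Sylow.coe_subgroup_smul, Subgroup.mem_pointwise_smul_iff_inv_smul_mem]
  refine hR ?_
  simpa [MulAut.smul_def] using ‹Q.Normal›.conj_mem x hx g⁻¹

end Solvable

section Fiber

variable {G : Type u} [Group G] [Fintype G] (Q : Subgroup G) [hQn : Q.Normal] [Fintype Q]
  (f : Q →* ℂˣ) (T : Subgroup G) [Fintype T]
  (hT : ∀ g, g ∈ T ↔ conjBy Q (fun q => (f q : ℂ)) g = fun q => (f q : ℂ)) (hQT : Q ≤ T)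

include hT in
theorem odd_multiplicity {χ : G → ℂ} (hχ : Cfsg.IsIrrCharacter G χ)
    (hodd : Odd (Cfsg.charDegree χ))
    (hne : Cfsg.classInner (fun q : Q => χ q) (fun q => (f q : ℂ)) ≠ 0) :
    ∃ m : ℕ, Cfsg.classInner (fun q : Q => χ q) (fun q => (f q : ℂ)) = m ∧ Odd m := by
  obtain ⟨m, hm⟩ := classInner_character_irr (isCharacter_restrict Q (isCharacter_of_isIrr hχ))
    (isIrr_linChar f)
  refine ⟨m, hm, ?_⟩
  have h := clifford_degree Q hχ (isIrr_linChar f) T hT hne
  rw [hm, map_one, Units.val_one, mul_one, charDegree_spec (isCharacter_of_isIrr hχ),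
    ← Nat.cast_mul, Nat.cast_inj] at h
  rw [h] at hodd
  exact (Nat.odd_mul.1 hodd).1

theorem odd_index_of_sylow_le (P : Sylow 2 G) (h : (P : Subgroup G) ≤ T) : Odd T.index := by
  haveI : Fact (Nat.Prime 2) := ⟨Nat.prime_two⟩
  exact (Nat.odd_iff.2 (Nat.two_dvd_ne_zero.1 P.not_dvd_index)).of_dvd_nat
    (Subgroup.index_dvd_of_le h)

include hT in
/-- A character of the fibre gives a sign character of the Sylow subgroup. -/
theorem exists_sign_lam_of_over (P : Sylow 2 G) (hQP : Q ≤ (P : Subgroup G))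
    (hf2 : ∀ q, f q ^ 2 = 1) (hfix : (P : Subgroup G) ≤ T)
    (x : {χ : RealOddIrr G //
      Cfsg.classInner (fun q : Q => (χ.1 : G → ℂ) q) (fun q => (f q : ℂ)) ≠ 0}) :
    ∃ lam : (P : Subgroup G) →* ℂˣ,
      (∀ q : Q, lam ⟨q, hQP q.2⟩ = f q) ∧ ∀ y, lam y ^ 2 = 1 := by
  obtain ⟨m, hm, hodd⟩ := odd_multiplicity Q f T hT x.1.1.2 x.1.2.2 x.2
  obtain ⟨lam, h1, h2⟩ := exists_linear_over Q (P : Subgroup G) P.isPGroup' hQP f hf2
    (fun z hz => (hT z).1 (hfix hz)) (isCharacter_of_isIrr x.1.1.2) hm hodd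
  exact ⟨lam, h1, h2 fun g => Complex.conj_eq_iff_im.2 (x.1.2.1 g)⟩

include hT in
/-- The fibre over a sign character that extends corresponds to the fibre over the trivial one. -/
theorem card_over (P : Sylow 2 G) (hQP : Q ≤ (P : Subgroup G))
    (hf2 : ∀ q, f q ^ 2 = 1) (hfix : (P : Subgroup G) ≤ T) (lam : (P : Subgroup G) →* ℂˣ)
    (hlam : ∀ q : Q, lam ⟨q, hQP q.2⟩ = f q) (hlam2 : ∀ y, lam y ^ 2 = 1) :
    Nat.card {χ : RealOddIrr G //
        Cfsg.classInner (fun q : Q => (χ.1 : G → ℂ) q) (fun q => (f q : ℂ)) ≠ 0} =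
      Nat.card {ψ : RealOddIrr T //
        ∀ q : Q, (ψ.1 : T → ℂ) ⟨q, hQT q.2⟩ = (ψ.1 : T → ℂ) 1} := by
  classical
  haveI : Fact (Nat.Prime 2) := ⟨Nat.prime_two⟩
  have hTodd : Odd T.index := odd_index_of_sylow_le T P hfix
  let Q' : Subgroup T := Q.subgroupOf T
  let P' : Subgroup T := (P : Subgroup G).subgroupOf T
  haveI : Q'.Normal := inferInstance
  have hidx : Odd P'.index :=
    (Nat.odd_iff.2 (Nat.two_dvd_ne_zero.1 P.not_dvd_index)).of_dvd_nat
      (Dvd.intro _ (Subgroup.relIndex_mul_index hfix))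
  obtain ⟨ν, hν, hν2'⟩ := exists_sign_extension Q' P' (fun x hx => hQP hx) hidx
    (f.comp (Subgroup.subgroupOfEquivOfLe hQT).toMonoidHom) (fun q => hf2 _)
    (fun t => funext fun q => congrFun ((hT (t : G)).1 t.2) ⟨((q : T) : G), q.2⟩)
    (lam.comp { toFun := fun y => ⟨((y : T) : G), y.2⟩, map_one' := rfl, map_mul' := fun _ _ => rfl })
    (fun q => hlam ⟨((q : T) : G), q.2⟩)
  have hν2 : ∀ t, ν t ^ 2 = 1 := hν2' fun y => hlam2 _
  have hνq : ∀ q : Q, ν ⟨q, hQT q.2⟩ = f q := fun q => hν ⟨⟨q, hQT q.2⟩, q.2⟩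
  have hνsq : ∀ t, ((ν t : ℂˣ) : ℂ) * (ν t : ℂ) = 1 := fun t => by
    rw [← Units.val_mul, ← sq, hν2, Units.val_one]
  have hνc : ∀ t, conj ((ν t : ℂˣ) : ℂ) = (ν t : ℂ) := fun t => by
    rcases mul_self_eq_one_iff.1 (hνsq t) with h | h <;> rw [h] <;> simp
  have hνre : ∀ t, ((ν t : ℂˣ) : ℂ).im = 0 := fun t => Complex.conj_eq_iff_im.1 (hνc t)
  have twist : ∀ ψ : T → ℂ, Cfsg.IsIrrCharacter T ψ →
      Cfsg.IsIrrCharacter T (fun t => (ν t : ℂ) * ψ t) := fun ψ hψ => by
    refine isIrr_of_classInner_self (isCharacter_mul (isCharacter_of_isIrr (isIrr_linChar ν))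
      (isCharacter_of_isIrr hψ)) ?_
    rw [← classInner_isIrr_self hψ]
    simp only [Cfsg.classInner, map_mul, hνc]
    congr 1
    refine Finset.sum_congr rfl fun t _ => ?_
    linear_combination (ψ t * conj (ψ t)) * hνsq t
  have hdeg : ∀ ψ : T → ℂ, Cfsg.charDegree (fun t => (ν t : ℂ) * ψ t) = Cfsg.charDegree ψ :=
    fun ψ => by simp [Cfsg.charDegree]
  let X := {χ : RealOddIrr G //
    Cfsg.classInner (fun q : Q => (χ.1 : G → ℂ) q) (fun q => (f q : ℂ)) ≠ 0}
  let Y := {ψ : RealOddIrr T // ∀ q : Q, (ψ.1 : T → ℂ) ⟨q, hQT q.2⟩ = (ψ.1 : T → ℂ) 1}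
  have hover : ∀ ψ : Y, IsOver Q f T hQT (fun t => (ν t : ℂ) * (ψ.1.1 : T → ℂ) t) := fun ψ q => by
    show (ν _ : ℂ) * (ψ.1.1 : T → ℂ) _ = (ν 1 : ℂ) * (ψ.1.1 : T → ℂ) 1 * _
    rw [ψ.2 q, hνq, map_one, Units.val_one, one_mul, mul_comm]
  let Φ : Y → X := fun ψ =>
    ⟨⟨⟨_, (indFun_over Q f T hT hQT (twist _ ψ.1.1.2) (hover ψ)).1⟩, fun g => by
        refine Complex.conj_eq_iff_im.1 ?_
        show conj (Cfsg.indFun T _ g) = _
        rw [indFun_conj]
        congr 1
        funext t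
        rw [map_mul, hνc, Complex.conj_eq_iff_im.2 (ψ.1.2.1 t)],
      by
        show Odd (Cfsg.charDegree (Cfsg.indFun T _))
        rw [charDegree_indFun T (isCharacter_of_isIrr (twist _ ψ.1.1.2)), hdeg]
        exact hTodd.mul ψ.1.2.2⟩,
      (indFun_over Q f T hT hQT (twist _ ψ.1.1.2) (hover ψ)).2.1⟩
  refine (Nat.card_eq_of_bijective Φ ⟨fun ψ ψ' h => ?_, fun x => ?_⟩).symm
  · have h' := congrArg (fun z : X => (z.1.1 : G → ℂ)) h
    have := (indFun_over Q f T hT hQT (twist _ ψ'.1.1.2) (hover ψ')).2.2 _ (twist _ ψ.1.1.2)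
      (hover ψ) h'
    refine Subtype.ext (Subtype.ext (Subtype.ext (funext fun t => ?_)))
    exact mul_left_cancel₀ (ν t).ne_zero (congrFun this t)
  · obtain ⟨ψ, hψ, hψov, hind⟩ := exists_over Q f T hT hQT x.1.1.2 x.2
    have hψreal : ∀ t, conj (ψ t) = ψ t := by
      refine congrFun ((indFun_over Q f T hT hQT hψ hψov).2.2 _ (isIrr_conj hψ) (fun q => ?_) ?_)
      · show conj (ψ _) = conj (ψ 1) * _
        rw [hψov q, map_mul, ← hνq, hνc]
      · rw [hind]
        funext g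
        rw [← indFun_conj, hind]
        exact Complex.conj_eq_iff_im.2 (x.1.2.1 g)
    have hψodd : Odd (Cfsg.charDegree ψ) := by
      have h := x.1.2.2
      rw [← hind, charDegree_indFun T (isCharacter_of_isIrr hψ)] at h
      exact (Nat.odd_mul.1 h).2
    refine ⟨⟨⟨⟨_, twist ψ hψ⟩, fun t => ?_, hdeg ψ ▸ hψodd⟩, fun q => ?_⟩, ?_⟩
    · show ((ν t : ℂ) * ψ t).im = 0
      rw [Complex.mul_im, hνre, Complex.conj_eq_iff_im.1 (hψreal t)]
      ring
    · show (ν _ : ℂ) * ψ _ = (ν 1 : ℂ) * ψ 1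
      rw [hψov q, ← hνq, map_one, Units.val_one, mul_left_comm, hνsq, mul_one, one_mul]
    · refine Subtype.ext (Subtype.ext (Subtype.ext ?_))
      show Cfsg.indFun T _ = _
      rw [show (fun t => (ν t : ℂ) * ((ν t : ℂ) * ψ t)) = ψ from
        funext fun t => by rw [← mul_assoc, hνsq, one_mul], hind]

end Fiber

/-- Real odd-degree characters of a solvable group and of its Sylow 2-normalizer. -/
theorem card_realOdd_normalizer {G : Type u} [Group G] [Finite G] [Group.IsSolvable G]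
    (P : Sylow 2 G) :
    Nat.card (RealOddIrr G) =
      Nat.card (RealOddIrr ↥(Subgroup.normalizer ((P : Subgroup G) : Set G))) := by
  classical
  induction hc : Nat.card G using Nat.strong_induction_on generalizing G with
  | _ n ih =>
  haveI : Fact (Nat.Prime 2) := ⟨Nat.prime_two⟩
  haveI := Fintype.ofFinite G
  set N : Subgroup G := Subgroup.normalizer ((P : Subgroup G) : Set G) with hNdef
  have htop : N = ⊤ → Nat.card (RealOddIrr G) = Nat.card (RealOddIrr N) := fun h => by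
    rw [card_realOdd_of_surjective N.subtype (fun x => ⟨⟨x, h ▸ Subgroup.mem_top x⟩, rfl⟩)]
    exact Nat.card_congr (Equiv.subtypeUnivEquiv fun χ g hg => by
      rw [show g = 1 from Subtype.ext hg])
  rcases subsingleton_or_nontrivial G with hs | hs
  · exact htop (Subgroup.eq_top_iff' N |>.2 fun x => Subsingleton.elim (1 : G) x ▸ one_mem N)
  obtain ⟨Q, hQn, hQne, hQ⟩ := exists_normal_odd_or_elementary (G := G)
  haveI := hQn
  rcases hQ with hQodd | hQ2
  · -- odd kernel
    set π := QuotientGroup.mk' Q with hπdef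
    have hπ : Function.Surjective π := QuotientGroup.mk'_surjective Q
    haveI : Group.IsSolvable (G ⧸ Q) := Group.isSolvable_of_surjective hπ
    have hIH := ih (Nat.card (G ⧸ Q)) (hc ▸ card_quotient_lt hQne) (G := G ⧸ Q)
      (P.mapSurjective hπ) rfl
    rw [Sylow.coe_mapSurjective] at hIH
    set Nb : Subgroup (G ⧸ Q) := Subgroup.normalizer (((P : Subgroup G).map π : Subgroup (G ⧸ Q)) : Set (G ⧸ Q))
    let φ : N →* Nb := (π.comp N.subtype).codRestrict Nb fun x =>
      Subgroup.le_normalizer_map π ⟨x, x.2, rfl⟩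
    have hφ : Function.Surjective φ := by
      rintro ⟨x, hx⟩
      obtain ⟨y, rfl⟩ := hπ x
      obtain ⟨k, hk, hky⟩ := exists_normalizer_lift P π hx
      refine ⟨⟨k * y, hky⟩, Subtype.ext ?_⟩
      show π (k * y) = π y
      rw [map_mul, MonoidHom.mem_ker.1 hk, one_mul]
    rw [card_realOdd_of_surjective φ hφ,
      card_realOdd_of_surjective π hπ] at hIH
    have hG : Nat.card {χ : RealOddIrr G // ∀ g : G, π g = 1 → (χ.1 : G → ℂ) g = (χ.1 : G → ℂ) 1} =
        Nat.card (RealOddIrr G) := Nat.card_congr (Equiv.subtypeUnivEquiv fun χ g hg =>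
      realOdd_trivial_on_odd Q hQodd χ.2.1 χ.2.2 ((QuotientGroup.eq_one_iff g).1 hg))
    have hN : Nat.card {χ : RealOddIrr N // ∀ g : N, φ g = 1 → (χ.1 : N → ℂ) g = (χ.1 : N → ℂ) 1} =
        Nat.card (RealOddIrr N) := Nat.card_congr (Equiv.subtypeUnivEquiv fun χ g hg => by
      refine realOdd_trivial_on_odd (Q.subgroupOf N) ?_ χ.2.1 χ.2.2
        ((QuotientGroup.eq_one_iff (g : G)).1 (congrArg Subtype.val hg))
      refine hQodd.of_dvd_nat ?_
      exact Subgroup.card_comap_dvd_of_injective Q N.subtype N.subtype_injective)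
    rw [hG, hN] at hIH
    exact hIH
  · -- elementary abelian normal `2`-subgroup
    haveI := Fintype.ofFinite Q
    haveI := Fintype.ofFinite N
    have hQP : Q ≤ (P : Subgroup G) := le_sylow_of_sq_eq_one P hQ2
    have hPN : (P : Subgroup G) ≤ N := Subgroup.le_normalizer
    have hQN : Q ≤ N := hQP.trans hPN
    let Q' : Subgroup N := Q.subgroupOf N
    haveI : Q'.Normal := inferInstance
    haveI := Fintype.ofFinite Q'
    let eQ : Q' ≃* Q := Subgroup.subgroupOfEquivOfLe hQN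
    let P' : Sylow 2 N := P.subtype hPN
    let Y := {θ : Cfsg.IrrCharacter Q // ∀ x ∈ (P : Subgroup G), conjBy Q (θ : Q → ℂ) x = θ}
    let st : Setoid Y :=
      { r := fun a b => ∃ x ∈ N, conjBy Q (a.1 : Q → ℂ) x = b.1
        iseqv := ⟨fun a => ⟨1, one_mem N, conjBy_one Q _⟩,
          fun {a b} ⟨x, hx, e⟩ => ⟨x⁻¹, inv_mem hx, by
            rw [← e, conjBy_mul, mul_inv_cancel, conjBy_one]⟩,
          fun {a b c} ⟨x, hx, e⟩ ⟨y, hy, e'⟩ => ⟨x * y, mul_mem hx hy, by
            rw [← conjBy_mul, e, e']⟩⟩ }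
    haveI : Fintype (Quotient st) := Fintype.ofFinite _
    let r : Quotient st → Y := Quotient.out
    have hQsq : ∀ q : Q, q ^ 2 = 1 := fun q => Subtype.ext (by simpa using hQ2 q q.2)
    choose F hF hF2 using fun c : Quotient st => exists_hom_of_sq_eq_one hQsq (r c).1
    have hGex : ∀ χ : RealOddIrr G, ∃! c, Cfsg.classInner (fun q : Q => (χ.1 : G → ℂ) q)
        ((r c).1 : Q → ℂ) ≠ 0 := by
      intro χ
      obtain ⟨θ, m, hθ, hm, hmodd, -⟩ := exists_fixed_constituent Q P.isPGroup' χ.1.2 χ.2.2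
      let y : Y := ⟨θ, fun x hx => funext fun n => hθ x hx n⟩
      refine ⟨Quotient.mk st y, ?_, fun c hc => ?_⟩
      · obtain ⟨x, -, hx⟩ := Quotient.exact (Quotient.out_eq (Quotient.mk st y))
        have hm' : Cfsg.classInner (fun q : Q => (χ.1 : G → ℂ) q) (θ : Q → ℂ) ≠ 0 := by
          rw [hm, Nat.cast_ne_zero]; exact hmodd.pos.ne'
        rwa [show (θ : Q → ℂ) = conjBy Q ((r _).1 : Q → ℂ) x from hx.symm,
          classInner_res_conjBy Q (isClassFunction_of_isIrr χ.1.2)] at hm'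
      · obtain ⟨g, hg⟩ := CfsgLib.CharactersDeep.Clifford.exists_conjBy_of_constituents Q χ.1.2
          (r c).1.2 θ.2 hc (by rw [hm, Nat.cast_ne_zero]; exact hmodd.pos.ne')
        obtain ⟨x, hx, hxe⟩ := exists_normalizer_conjBy Q P (r c).2 (g := g) (by
          rw [← hg]; exact fun z hz => funext fun n => hθ z hz n)
        rw [← Quotient.out_eq c]
        exact Quotient.sound ⟨x, hx, hxe.trans hg.symm⟩
    have hNconj : ∀ (θ : Q → ℂ) (x : N),
        conjBy Q' (fun z => θ (eQ z)) x = fun z => conjBy Q θ (x : G) (eQ z) :=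
      fun _ _ => rfl
    have hNex : ∀ χ : RealOddIrr N, ∃! c, Cfsg.classInner (fun q : Q' => (χ.1 : N → ℂ) q)
        (fun z => ((r c).1 : Q → ℂ) (eQ z)) ≠ 0 := by
      intro χ
      obtain ⟨θ', m, hθ, hm, hmodd, -⟩ := exists_fixed_constituent Q' P'.isPGroup' χ.1.2 χ.2.2
      let θ : Cfsg.IrrCharacter Q :=
        ⟨fun q => (θ' : Q' → ℂ) (eQ.symm q), isIrrCharacter_comp_mulEquiv θ'.2 eQ.symm⟩
      have hθθ' : (θ' : Q' → ℂ) = fun z => (θ : Q → ℂ) (eQ z) :=
        funext fun z => (congrArg (θ' : Q' → ℂ) (eQ.symm_apply_apply z)).symm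
      let y : Y := ⟨θ, fun x hx => funext fun n =>
        hθ ⟨x, hPN hx⟩ hx (eQ.symm n)⟩
      refine ⟨Quotient.mk st y, ?_, fun c hc => ?_⟩
      · obtain ⟨x, hx, hxe⟩ := Quotient.exact (Quotient.out_eq (Quotient.mk st y))
        have e1 : (θ' : Q' → ℂ) = conjBy Q' (fun z => ((r (Quotient.mk st y)).1 : Q → ℂ) (eQ z))
            ⟨x, hx⟩ := by
          rw [hθθ', hNconj]
          funext z
          exact (congrFun hxe (eQ z)).symm
        have hm' : Cfsg.classInner (fun q : Q' => (χ.1 : N → ℂ) q) (θ' : Q' → ℂ) ≠ 0 := by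
          rw [hm, Nat.cast_ne_zero]; exact hmodd.pos.ne'
        rwa [e1, classInner_res_conjBy Q' (isClassFunction_of_isIrr χ.1.2)] at hm'
      · obtain ⟨g, hg⟩ := CfsgLib.CharactersDeep.Clifford.exists_conjBy_of_constituents Q' χ.1.2
          (isIrrCharacter_comp_mulEquiv (r c).1.2 eQ) θ'.2 hc
          (by rw [hm, Nat.cast_ne_zero]; exact hmodd.pos.ne')
        rw [← Quotient.out_eq c]
        refine Quotient.sound ⟨g, g.2, ?_⟩
        funext q
        have := congrFun hg (eQ.symm q)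
        rw [hNconj] at this
        simp only [MulEquiv.apply_symm_apply] at this
        exact this.symm
    rw [card_eq_sum_of_existsUnique _ hGex, card_eq_sum_of_existsUnique _ hNex]
    refine Finset.sum_congr rfl fun c _ => ?_
    set f := F c with hfdef
    have hf2 := hF2 c
    simp only [hF c]
    -- stabilisers
    set T : Subgroup G := conjStab Q (fun q => (f q : ℂ)) with hTdef
    haveI := Fintype.ofFinite T
    have hQT : Q ≤ T := le_conjStab Q (isClassFunction_of_isIrr (isIrr_linChar f))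
    have hPT : (P : Subgroup G) ≤ T := fun x hx => by
      have := (r c).2 x hx
      rw [hF c] at this
      exact this
    let f' : Q' →* ℂˣ := f.comp eQ.toMonoidHom
    set T' : Subgroup N := conjStab Q' (fun z => (f' z : ℂ)) with hT'def
    haveI := Fintype.ofFinite T'
    have hQT' : Q' ≤ T' := le_conjStab Q' (isClassFunction_of_isIrr (isIrr_linChar f'))
    have hTT' : ∀ x : N, x ∈ T' ↔ (x : G) ∈ T := by
      intro x
      show conjBy Q' (fun z => ((f (eQ z) : ℂˣ) : ℂ)) x = _ ↔ conjBy Q _ (x : G) = _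
      rw [hNconj (fun q => (f q : ℂ)) x]
      exact ⟨fun h => funext fun q => by simpa [f'] using congrFun h (eQ.symm q),
        fun h => funext fun z => congrFun h (eQ z)⟩
    have hPT' : ((P' : Sylow 2 N) : Subgroup N) ≤ T' := fun x hx => (hTT' x).2 (hPT hx)
    have hQP' : Q' ≤ ((P' : Sylow 2 N) : Subgroup N) := fun x hx => hQP hx
    by_cases hE : ∃ lam : (P : Subgroup G) →* ℂˣ,
        (∀ q : Q, lam ⟨q, hQP q.2⟩ = f q) ∧ ∀ y, lam y ^ 2 = 1
    swap
    · have h1 : IsEmpty {χ : RealOddIrr G //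
          Cfsg.classInner (fun q : Q => (χ.1 : G → ℂ) q) (fun q => (f q : ℂ)) ≠ 0} :=
        ⟨fun x => hE (exists_sign_lam_of_over Q f T (fun _ => Iff.rfl) P hQP hf2 hPT x)⟩
      have h2 : IsEmpty {χ : RealOddIrr N //
          Cfsg.classInner (fun q : Q' => (χ.1 : N → ℂ) q) (fun z => (f (eQ z) : ℂ)) ≠ 0} :=
        ⟨fun x => hE (by
          obtain ⟨lam', hl1, hl2⟩ := exists_sign_lam_of_over Q' f' T' (fun _ => Iff.rfl) P' hQP'
            (fun z => hf2 _) hPT' x
          refine ⟨lam'.comp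
            { toFun := fun y => ⟨⟨(y : G), hPN y.2⟩, y.2⟩, map_one' := rfl,
              map_mul' := fun _ _ => rfl }, fun q => ?_, fun y => hl2 _⟩
          exact hl1 (eQ.symm q) |>.trans (congrArg f (eQ.apply_symm_apply q)))⟩
      rw [Nat.card_of_isEmpty, Nat.card_of_isEmpty]
    obtain ⟨lam, hlam, hlam2⟩ := hE
    rw [card_over Q f T (fun _ => Iff.rfl) hQT P hQP hf2 hPT lam hlam hlam2]
    rw [show (fun z : Q' => (f (eQ z) : ℂ)) = fun z => (f' z : ℂ) from rfl,
      card_over Q' f' T' (fun _ => Iff.rfl) hQT' P' hQP' (fun z => hf2 _) hPT'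
        (lam.comp { toFun := fun y => ⟨((y : N) : G), y.2⟩, map_one' := rfl,
                    map_mul' := fun _ _ => rfl })
        (fun z => hlam (eQ z)) (fun y => hlam2 _)]
    -- the quotient of the stabiliser
    let QT : Subgroup T := Q.subgroupOf T
    haveI : QT.Normal := inferInstance
    set π := QuotientGroup.mk' QT
    have hπ : Function.Surjective π := QuotientGroup.mk'_surjective QT
    haveI : Group.IsSolvable (T ⧸ QT) := Group.isSolvable_of_surjective hπ
    let PT : Sylow 2 T := P.subtype hPT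
    have hQTne : QT ≠ ⊥ := fun h => hQne ((Subgroup.eq_bot_iff_forall Q).2 fun q hq => by
      have : (⟨q, hQT hq⟩ : T) ∈ (⊥ : Subgroup T) := h ▸ hq
      exact congrArg Subtype.val (Subgroup.mem_bot.1 this))
    have hIH := ih (Nat.card (T ⧸ QT))
      (hc ▸ (card_quotient_lt hQTne).trans_le (Subgroup.card_le_card_group T)) (G := T ⧸ QT)
      (PT.mapSurjective hπ) rfl
    rw [Sylow.coe_mapSurjective] at hIH
    set Nb : Subgroup (T ⧸ QT) :=
      Subgroup.normalizer (((PT : Subgroup T).map π : Subgroup (T ⧸ QT)) : Set (T ⧸ QT))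
    have hmem : ∀ x : T', (⟨((x : N) : G), (hTT' x).1 x.2⟩ : T) ∈
        Subgroup.normalizer ((PT : Subgroup T) : Set T) := by
      intro x
      rw [Subgroup.mem_normalizer_iff]
      intro z
      exact Subgroup.mem_normalizer_iff.1 (x : N).2 (z : G)
    let j : T' →* T := { toFun := fun x => ⟨((x : N) : G), (hTT' x).1 x.2⟩, map_one' := rfl,
                         map_mul' := fun _ _ => rfl }
    let φ : T' →* Nb := (π.comp j).codRestrict Nb fun x =>
      Subgroup.le_normalizer_map π ⟨j x, hmem x, rfl⟩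
    have hφ : Function.Surjective φ := by
      rintro ⟨x, hx⟩
      obtain ⟨y, rfl⟩ := hπ x
      obtain ⟨k, hk, hky⟩ := exists_normalizer_lift PT π hx
      have hN : ((k * y : T) : G) ∈ N := by
        rw [hNdef, Subgroup.mem_normalizer_iff]
        intro z
        refine ⟨fun hz => (Subgroup.mem_normalizer_iff.1 hky ⟨z, hPT hz⟩).1 hz, fun hz => ?_⟩
        have hzT : z ∈ T := by
          have := T.mul_mem (T.mul_mem (T.inv_mem (k * y).2) (hPT hz)) (k * y).2
          simpa [mul_assoc] using this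
        exact (Subgroup.mem_normalizer_iff.1 hky ⟨z, hzT⟩).2 hz
      refine ⟨⟨⟨_, hN⟩, (hTT' _).2 (k * y).2⟩, Subtype.ext ?_⟩
      show π (k * y) = π y
      rw [map_mul, MonoidHom.mem_ker.1 hk, one_mul]
    rw [card_realOdd_of_surjective φ hφ, card_realOdd_of_surjective π hπ] at hIH
    refine Eq.trans ?_ (hIH.trans ?_)
    · refine Nat.card_congr (Equiv.subtypeEquivRight fun ψ => ⟨fun h g hg => ?_, fun h q => ?_⟩)
      · exact h ⟨(g : G), (QuotientGroup.eq_one_iff g).1 hg⟩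
      · exact h ⟨q, hQT q.2⟩ ((QuotientGroup.eq_one_iff (N := QT) _).2 q.2)
    · refine Nat.card_congr (Equiv.subtypeEquivRight fun ψ => ⟨fun h z => ?_, fun h g hg => ?_⟩)
      · exact h ⟨(z : N), hQT' z.2⟩ (Subtype.ext ((QuotientGroup.eq_one_iff (N := QT) _).2 z.2))
      · exact h ⟨(g : N), (QuotientGroup.eq_one_iff (N := QT) (j g)).1 (congrArg Subtype.val hg)⟩

end CfsgLib.BlocksCharsC
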