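import Cfsg.Agent.BlocksCharsC.RealOdd
import Cfsg.Agent.CharactersDeep.Clifford
import Cfsg.Agent.CharactersDeep.LinearChar
import Cfsg.Agent.OddOrderChar.Clifford
import Mathlib.GroupTheory.Transfer

/-!
# Odd-degree characters over a linear character of a normal elementary abelian `2`-subgroup

Sylow lifting, sign extensions by transfer and the Clifford bijection on real odd-degree characters.
-/

set_option autoImplicit false
set_option linter.style.haveILetI false
set_option linter.unusedSectionVars false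

namespace CfsgLib.BlocksCharsC

open CfsgLib.Characters CfsgLib.OddOrderChar
open scoped ComplexConjugate Pointwise

universe u

variable {G : Type u} [Group G] [Finite G]

/-- Two Sylow subgroups inside a subgroup are conjugate by one of its elements. -/
theorem exists_conj_of_le {p : ℕ} [Fact p.Prime] (P R : Sylow p G) (J : Subgroup G)
    (hP : (P : Subgroup G) ≤ J) (hR : (R : Subgroup G) ≤ J) :
    ∃ j ∈ J, ∀ y : G, y ∈ (R : Subgroup G) ↔ j * y * j⁻¹ ∈ (P : Subgroup G) := by
  obtain ⟨j, hj⟩ := MulAction.exists_smul_eq J (R.subtype hR) (P.subtype hP)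
  refine ⟨j, j.2, fun y => ?_⟩
  have h : ∀ z : J, z ∈ (R.subtype hR : Subgroup J) ↔ j * z * j⁻¹ ∈ (P.subtype hP : Subgroup J) := by
    intro z
    rw [← hj, Sylow.coe_subgroup_smul, Subgroup.mem_pointwise_smul_iff_inv_smul_mem]
    simp [MulAut.smul_def, mul_assoc]
  simp only [Sylow.coe_subtype, Subgroup.mem_subgroupOf] at h
  constructor
  · intro hy
    exact (h ⟨y, hR hy⟩).1 hy
  · intro hy
    have hyJ : y ∈ J := by
      have := J.mul_mem (J.mul_mem (J.inv_mem j.2) (hP hy)) j.2
      simpa [mul_assoc] using this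
    exact (h ⟨y, hyJ⟩).2 hy

/-- Elements normalizing the image of a Sylow subgroup lift to normalizing elements. -/
theorem exists_normalizer_lift {p : ℕ} [Fact p.Prime] (P : Sylow p G) {H : Type*} [Group H]
    (π : G →* H) {x : G}
    (hx : π x ∈ Subgroup.normalizer (((P : Subgroup G).map π : Subgroup H) : Set H)) :
    ∃ k ∈ π.ker, k * x ∈ Subgroup.normalizer ((P : Subgroup G) : Set G) := by
  set J : Subgroup G := (P : Subgroup G) ⊔ π.ker with hJdef
  have hJ : J = ((P : Subgroup G).map π).comap π := by rw [Subgroup.comap_map_eq]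
  have hxJ : ((MulAut.conj x • P : Sylow p G) : Subgroup G) ≤ J := by
    intro y hy
    rw [Sylow.pointwise_smul_def, Subgroup.mem_pointwise_smul_iff_inv_smul_mem] at hy
    rw [hJ, Subgroup.mem_comap]
    have h1 : π (x⁻¹ * y * x) ∈ (P : Subgroup G).map π :=
      Subgroup.mem_map_of_mem π (by simpa [MulAut.smul_def, mul_assoc] using hy)
    have h2 := ((Subgroup.mem_normalizer_iff.1 hx) (π (x⁻¹ * y * x))).1 h1
    simpa [mul_assoc] using h2
  obtain ⟨j, hj, hjP⟩ := exists_conj_of_le P (MulAut.conj x • P) J le_sup_left hxJ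
  have hj' : j ∈ (((P : Subgroup G) : Set G) * (π.ker : Set G) : Set G) := by
    rw [← Subgroup.mul_normal]; exact hj
  obtain ⟨y, hy, k, hk, rfl⟩ := hj'
  simp only at hjP
  refine ⟨k, hk, ?_⟩
  have hP : ∀ z : G, y * z * y⁻¹ ∈ (P : Subgroup G) ↔ z ∈ (P : Subgroup G) := fun z =>
    ((Subgroup.mem_normalizer_iff.1 ((P : Subgroup G).le_normalizer hy)) z).symm
  rw [Subgroup.mem_normalizer_iff]
  intro z
  have h := hjP (x * z * x⁻¹)
  rw [Sylow.pointwise_smul_def, Subgroup.mem_pointwise_smul_iff_inv_smul_mem,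
    show y * k * (x * z * x⁻¹) * (y * k)⁻¹ = y * (k * x * z * (k * x)⁻¹) * y⁻¹ by group, hP] at h
  refine Iff.trans ?_ h
  simp [MulAut.smul_def, mul_assoc]

section Over

variable (Q : Subgroup G) [hQn : Q.Normal]

/-- The stabiliser of a function on a normal subgroup. -/
def conjStab (μ : Q → ℂ) : Subgroup G where
  carrier := {g | conjBy Q μ g = μ}
  one_mem' := conjBy_one Q μ
  mul_mem' := fun {a b} (ha : conjBy Q μ a = μ) (hb : conjBy Q μ b = μ) => by
    show conjBy Q μ (a * b) = μ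
    rw [← conjBy_mul, ha, hb]
  inv_mem' := fun {a} (ha : conjBy Q μ a = μ) => by
    show conjBy Q μ a⁻¹ = μ
    conv_lhs => rw [← ha]
    rw [conjBy_mul, mul_inv_cancel, conjBy_one]

theorem mem_conjStab {μ : Q → ℂ} {g : G} : g ∈ conjStab Q μ ↔ conjBy Q μ g = μ := Iff.rfl

theorem le_conjStab {μ : Q → ℂ} (hμ : Cfsg.IsClassFunction Q μ) : Q ≤ conjStab Q μ := fun x hx => by
  funext h
  exact (congrArg μ (Subtype.ext (by simp)) : μ _ = μ (⟨x, hx⟩ * h * ⟨x, hx⟩⁻¹)).trans
    (hμ h ⟨x, hx⟩)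

/-- Two Sylow-invariant conjugate functions are conjugate under the normalizer. -/
theorem exists_normalizer_conjBy {p : ℕ} [Fact p.Prime] (P : Sylow p G) {μ : Q → ℂ} {g : G}
    (h1 : ∀ x ∈ (P : Subgroup G), conjBy Q μ x = μ)
    (h2 : ∀ x ∈ (P : Subgroup G), conjBy Q (conjBy Q μ g) x = conjBy Q μ g) :
    ∃ x ∈ Subgroup.normalizer ((P : Subgroup G) : Set G), conjBy Q μ x = conjBy Q μ g := by
  have hle : ((MulAut.conj g • P : Sylow p G) : Subgroup G) ≤ conjStab Q μ := by
    intro y hy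
    rw [Sylow.pointwise_smul_def, Subgroup.mem_pointwise_smul_iff_inv_smul_mem] at hy
    have hy' : g⁻¹ * y * g ∈ (P : Subgroup G) := by simpa [MulAut.smul_def, mul_assoc] using hy
    show conjBy Q μ y = μ
    have h := congrArg (fun f => conjBy Q f g⁻¹) (h2 _ hy')
    simp only [conjBy_mul] at h
    rw [show g * (g⁻¹ * y * g) * g⁻¹ = y by group, mul_inv_cancel, conjBy_one] at h
    exact h
  obtain ⟨t, ht, htP⟩ := exists_conj_of_le P (MulAut.conj g • P) (conjStab Q μ) (fun x hx => h1 x hx) hle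
  refine ⟨t * g, ?_, ?_⟩
  · rw [Subgroup.mem_normalizer_iff]
    intro z
    have h := htP (g * z * g⁻¹)
    rw [Sylow.pointwise_smul_def, Subgroup.mem_pointwise_smul_iff_inv_smul_mem,
      show t * (g * z * g⁻¹) * t⁻¹ = t * g * z * (t * g)⁻¹ by group] at h
    refine Iff.trans ?_ h
    simp [MulAut.smul_def, mul_assoc]
  · rw [← conjBy_mul, mem_conjStab Q |>.1 ht]

/-- An odd multiplicity over a linear character gives a linear character of the `2`-group `P`. -/
theorem exists_linear_over [Fintype Q] (P : Subgroup G) (hP : IsPGroup 2 P) (hQP : Q ≤ P)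
    (f : Q →* ℂˣ) (hf2 : ∀ q, f q ^ 2 = 1)
    (hfix : ∀ x ∈ P, conjBy Q (fun q => (f q : ℂ)) x = fun q => (f q : ℂ))
    {χ : G → ℂ} (hχ : Cfsg.IsCharacter G χ) {m : ℕ}
    (hm : Cfsg.classInner (fun q : Q => χ q) (fun q => (f q : ℂ)) = m) (hodd : Odd m) :
    ∃ lam : P →* ℂˣ, (∀ q : Q, lam ⟨q, hQP q.2⟩ = f q) ∧
      ((∀ g, conj (χ g) = χ g) → ∀ y, lam y ^ 2 = 1) := by
  classical
  haveI : Fact (Nat.Prime 2) := ⟨Nat.prime_two⟩
  haveI := Fintype.ofFinite G
  haveI := Fintype.ofFinite P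
  have hfc : ∀ q, conj ((f q : ℂˣ) : ℂ) = (f q : ℂ) := fun q => by
    have h := congrArg Units.val (hf2 q)
    rw [Units.val_pow_eq_pow_val, Units.val_one, sq_eq_one_iff] at h
    rcases h with h | h <;> simp [h]
  choose a ha using fun ν : Cfsg.IrrCharacter P =>
    classInner_character_irr (isCharacter_restrict P hχ) ν.2
  let ι : Q →* P := Subgroup.inclusion hQP
  choose b hb using fun ν : Cfsg.IrrCharacter P =>
    classInner_character_irr (isCharacter_comp ι (isCharacter_of_isIrr ν.2)) (isIrr_linChar f)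
  have hab : ∑ ν : Cfsg.IrrCharacter P, a ν * b ν = m := by
    rw [← Nat.cast_inj (R := ℂ), ← hm]
    have hexp := character_expansion (isCharacter_restrict P hχ)
    have : (fun q : Q => χ q) = ∑ ν : Cfsg.IrrCharacter P,
        (a ν : ℂ) • fun q : Q => (ν : P → ℂ) (ι q) := by
      funext q
      have := congrFun hexp (ι q)
      simp only [Finset.sum_apply, Pi.smul_apply, ha] at this ⊢
      exact this
    rw [this, classInner_sum_left]
    push_cast
    exact Finset.sum_congr rfl fun ν _ => by rw [classInner_smul_left, hb]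
  obtain ⟨ν, hνodd, hνreal⟩ : ∃ ν : Cfsg.IrrCharacter P, Odd (a ν * b ν) ∧
      ((∀ g, conj (χ g) = χ g) → conjIrr ν = ν) := by
    by_cases hreal : ∀ g, conj (χ g) = χ g
    · obtain ⟨ν, h1, h2⟩ := exists_fixed_odd_of_involution
        (fun ν : Cfsg.IrrCharacter P => conjIrr ν) conjIrr_conjIrr (fun ν => a ν * b ν) (fun ν => by
          have h1 : a (conjIrr ν) = a ν := by
            rw [← Nat.cast_inj (R := ℂ), ← ha, ← ha]
            have e' := classInner_conj_conj (fun y : P => χ y) (ν : P → ℂ)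
            rw [show (fun y : P => conj (χ y)) = fun y : P => χ y from funext fun y => hreal y] at e'
            refine e'.trans ?_
            rw [ha]
            exact Complex.conj_natCast _
          have h2 : b (conjIrr ν) = b ν := by
            rw [← Nat.cast_inj (R := ℂ), ← hb, ← hb]
            have e' := classInner_conj_conj (fun q : Q => (ν : P → ℂ) (ι q)) (fun q => (f q : ℂ))
            rw [show (fun q : Q => conj ((f q : ℂˣ) : ℂ)) = fun q => (f q : ℂ) from funext hfc] at e'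
            refine e'.trans ?_
            rw [hb, Complex.conj_natCast]
          rw [h1, h2]) (hab ▸ hodd)
      exact ⟨ν, h2, fun _ => h1⟩
    · by_contra hno
      push Not at hno
      refine (Nat.not_odd_iff_even.2 ?_) hodd
      rw [← hab, even_iff_two_dvd]
      refine Finset.dvd_sum fun ν _ => ?_
      by_contra h
      exact hreal (hno ν (Nat.odd_iff.2 (Nat.two_dvd_ne_zero.1 h))).1
  obtain ⟨-, hbodd⟩ := Nat.odd_mul.1 hνodd
  -- the restriction of `ν` is a multiple of `f`
  let Q' : Subgroup P := Q.subgroupOf P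
  haveI : Q'.Normal := inferInstance
  haveI := Fintype.ofFinite Q'
  let e : Q' ≃* Q := Subgroup.subgroupOfEquivOfLe hQP
  have hμ' : Cfsg.IsIrrCharacter Q' (fun y => (f (e y) : ℂ)) :=
    isIrr_linChar (f.comp e.toMonoidHom)
  have hb' : Cfsg.classInner (fun y : Q' => (ν : P → ℂ) y) (fun y => (f (e y) : ℂ)) = (b ν : ℂ) := by
    rw [← hb]
    simp only [Cfsg.classInner]
    rw [Nat.card_congr e.toEquiv]
    congr 1
    exact Fintype.sum_equiv e.toEquiv _ _ fun y => rfl
  have hinvQ : ∀ (g : P) (n : Q'), (fun y => (f (e y) : ℂ))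
      ⟨g * n * g⁻¹, Subgroup.Normal.conj_mem inferInstance _ n.2 g⟩ = (f (e n) : ℂ) := fun g n =>
    congrFun (hfix g g.2) (e n)
  have hνres := restrict_eq_smul_of_invariant hμ' hinvQ ν.2
    (by rw [hb', Nat.cast_ne_zero]; exact hbodd.pos.ne')
  have hd : Cfsg.charDegree (ν : P → ℂ) = b ν := by
    have h1 := hνres 1
    rw [hb', OneMemClass.coe_one, charDegree_spec (isCharacter_of_isIrr ν.2)] at h1
    simp only [map_one, Units.val_one, mul_one, Nat.cast_inj] at h1
    exact h1
  have hν1 : Cfsg.charDegree (ν : P → ℂ) = 1 := by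
    obtain ⟨n, ρ, hρ, hνρ⟩ := ν.2
    haveI := hρ
    have hdvd : Cfsg.charDegree (ν : P → ℂ) ∣ Nat.card P := by
      rw [← hνρ, show Cfsg.charDegree ρ.character = Module.finrank ℂ (Fin n → ℂ) by
        simp [Cfsg.charDegree]]
      exact finrank_dvd_card ρ
    obtain ⟨k, hk⟩ := IsPGroup.iff_card.1 hP
    rw [hk, Nat.dvd_prime_pow Nat.prime_two] at hdvd
    obtain ⟨i, -, hi⟩ := hdvd
    rcases Nat.eq_zero_or_pos i with rfl | hi0
    · simpa using hi
    · rw [← hd, hi, Nat.odd_pow_iff hi0.ne'] at hbodd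
      exact absurd hbodd (by decide)
  obtain ⟨w, hw⟩ := exists_hom_of_degree_one (isCharacter_of_isIrr ν.2)
    (by rw [charDegree_spec (isCharacter_of_isIrr ν.2), hν1, Nat.cast_one])
  refine ⟨w, fun q => Units.ext ?_, fun hreal y => ?_⟩
  · have h := hνres (e.symm q)
    rw [hb', ← hd, hν1, Nat.cast_one, one_mul, e.apply_symm_apply, hw] at h
    exact h
  · have h1 : conj ((w y : ℂˣ) : ℂ) = ((w y : ℂˣ) : ℂ) := by
      have := real_of_conjIrr_eq (hνreal hreal) y
      rwa [hw] at this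
    have hnorm : ‖((w y : ℂˣ) : ℂ)‖ = 1 :=
      Complex.norm_eq_one_of_pow_eq_one (n := orderOf y)
        (by rw [← Units.val_pow_eq_pow_val, ← map_pow, pow_orderOf_eq_one, map_one, Units.val_one])
        (orderOf_pos y).ne'
    apply Units.ext
    rw [Units.val_pow_eq_pow_val, Units.val_one, sq]
    conv_lhs => arg 1; rw [← h1]
    rw [mul_comm, Complex.mul_conj, Complex.normSq_eq_norm_sq, hnorm]
    simp

/-- A linear character of a subgroup of odd index extends an invariant sign character of `Q`. -/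
theorem exists_sign_extension (P : Subgroup G) (hQP : Q ≤ P) (hidx : Odd P.index)
    (f : Q →* ℂˣ) (hf2 : ∀ q, f q ^ 2 = 1)
    (hinv : ∀ g : G, conjBy Q (fun q => (f q : ℂ)) g = fun q => (f q : ℂ))
    (lam : P →* ℂˣ) (hlam : ∀ q : Q, lam ⟨q, hQP q.2⟩ = f q) :
    ∃ ν : G →* ℂˣ, (∀ q : Q, ν q = f q) ∧ ((∀ y, lam y ^ 2 = 1) → ∀ g, ν g ^ 2 = 1) := by
  classical
  haveI := Fintype.ofFinite G
  refine ⟨MonoidHom.transfer lam, fun q => ?_, fun h g => ?_⟩
  · letI : Fintype (Quotient (MulAction.orbitRel (Subgroup.zpowers (q : G)) (G ⧸ P))) :=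
      Fintype.ofFinite _
    rw [MonoidHom.transfer_eq_prod_quotient_orbitRel_zpowers_quot]
    have hfix : ∀ c : G ⧸ P, (q : G) • c = c := by
      intro c
      obtain ⟨a, rfl⟩ := QuotientGroup.mk_surjective c
      rw [MulAction.Quotient.smul_coe, QuotientGroup.eq, smul_eq_mul]
      have h1 : a⁻¹ * (q : G)⁻¹ * a ∈ Q := by
        simpa using hQn.conj_mem _ (Q.inv_mem q.2) a⁻¹
      rw [mul_inv_rev]
      exact hQP h1
    have hper : ∀ c : G ⧸ P, Function.minimalPeriod ((q : G) • ·) c = 1 := fun c =>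
      Function.minimalPeriod_eq_one_iff_isFixedPt.2 (hfix c)
    have hterm : ∀ c : Quotient (MulAction.orbitRel (Subgroup.zpowers (q : G)) (G ⧸ P)),
        lam ⟨c.out.out⁻¹ * (q : G) ^ Function.minimalPeriod ((q : G) • ·) c.out * c.out.out,
          QuotientGroup.out_conj_pow_minimalPeriod_mem P (q : G) c.out⟩ = f q := by
      intro c
      have h1 : c.out.out⁻¹ * (q : G) * c.out.out ∈ Q := by
        simpa using hQn.conj_mem _ q.2 c.out.out⁻¹
      have h2 : f ⟨_, h1⟩ = f q := Units.ext (by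
        have := congrFun (hinv c.out.out⁻¹) q
        rw [conjBy_apply] at this
        refine Eq.trans ?_ this
        exact congrArg (fun z : Q => (f z : ℂ)) (Subtype.ext (by simp)))
      rw [← h2, ← hlam ⟨_, h1⟩]
      congr 1
      exact Subtype.ext (show c.out.out⁻¹ * (q : G) ^ _ * c.out.out = c.out.out⁻¹ * q * c.out.out by
        rw [hper, pow_one])
    rw [Finset.prod_congr rfl fun c _ => hterm c, Finset.prod_const, Finset.card_univ]
    have hcard : Fintype.card (Quotient (MulAction.orbitRel (Subgroup.zpowers (q : G)) (G ⧸ P))) =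
        P.index := by
      rw [← Nat.card_eq_fintype_card, Subgroup.index]
      refine (Nat.card_eq_of_bijective Quotient.mk'' ⟨fun c d hcd => ?_, Quotient.mk''_surjective⟩).symm
      obtain ⟨⟨z, hz⟩, hzd⟩ := MulAction.orbitRel_apply.1 (Quotient.eq''.1 hcd)
      rw [← hzd]
      exact MulAction.mem_stabilizer_iff.1
        ((Subgroup.zpowers_le.2 (MulAction.mem_stabilizer_iff.2 (hfix d)) :
          Subgroup.zpowers (q : G) ≤ MulAction.stabilizer G d) hz)
    rw [hcard]
    obtain ⟨r, hr⟩ := hidx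
    rw [hr, pow_succ, pow_mul, hf2, one_pow, one_mul]
  · letI : Fintype (Quotient (MulAction.orbitRel (Subgroup.zpowers g) (G ⧸ P))) := Fintype.ofFinite _
    rw [MonoidHom.transfer_eq_prod_quotient_orbitRel_zpowers_quot, ← Finset.prod_pow]
    exact Finset.prod_eq_one fun c _ => h _

variable [Fintype G] [Fintype Q]

theorem indFun_conj (T : Subgroup G) (ψ : T → ℂ) (g : G) :
    conj (Cfsg.indFun T ψ g) = Cfsg.indFun T (fun t => conj (ψ t)) g := by
  simp only [Cfsg.indFun, map_mul, map_inv₀, Complex.conj_natCast, map_sum]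
  congr 1
  refine Finset.sum_congr rfl fun x _ => ?_
  by_cases hx : x⁻¹ * g * x ∈ T
  · rw [CfsgLib.OddOrderChar.extendByZero_of_mem T ψ hx, CfsgLib.OddOrderChar.extendByZero_of_mem T _ hx]
  · rw [extendByZero_of_notMem T ψ hx, extendByZero_of_notMem T _ hx, map_zero]

theorem charDegree_indFun (T : Subgroup G) {ψ : T → ℂ} (hψ : Cfsg.IsCharacter T ψ) :
    Cfsg.charDegree (Cfsg.indFun T ψ) = T.index * Cfsg.charDegree ψ := by
  rw [Cfsg.charDegree, CfsgLib.Characters.indFun_one, charDegree_spec hψ, ← Nat.cast_mul, Complex.natCast_re,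
    Nat.floor_natCast]

variable (f : Q →* ℂˣ)

/-- Over a linear character inside the stabiliser. -/
def IsOver (T : Subgroup G) (hQT : Q ≤ T) (ψ : T → ℂ) : Prop :=
  ∀ q : Q, ψ ⟨q, hQT q.2⟩ = ψ 1 * (f q : ℂ)

variable (T : Subgroup G) [Fintype T]
  (hT : ∀ g, g ∈ T ↔ conjBy Q (fun q => (f q : ℂ)) g = fun q => (f q : ℂ)) (hQT : Q ≤ T)

include hT in
/-- Induction from the stabiliser of the characters over the linear character. -/
theorem indFun_over {ψ : T → ℂ} (hψ : Cfsg.IsIrrCharacter T ψ) (hov : IsOver Q f T hQT ψ) :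
    Cfsg.IsIrrCharacter G (Cfsg.indFun T ψ) ∧
      Cfsg.classInner (fun q : Q => Cfsg.indFun T ψ q) (fun q => (f q : ℂ)) ≠ 0 ∧
      ∀ ψ' : T → ℂ, Cfsg.IsIrrCharacter T ψ' → IsOver Q f T hQT ψ' →
        Cfsg.indFun T ψ' = Cfsg.indFun T ψ → ψ' = ψ := by
  haveI := Fintype.ofFinite (Q.subgroupOf T)
  have hinner : ∀ φ : T → ℂ, IsOver Q f T hQT φ → Cfsg.classInner (fun x : Q.subgroupOf T => φ x)
      (onSubgroupOf Q T fun q => (f q : ℂ)) = φ 1 := by
    intro φ hφ
    have hQT' := inertia_le Q (isClassFunction_of_isIrr (isIrr_linChar f)) T hT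
    rw [show (fun x : Q.subgroupOf T => φ x) = onSubgroupOf Q T (fun q => φ 1 * (f q : ℂ)) from
      funext fun x => hφ ⟨_, x.2⟩, classInner_onSubgroupOf Q T hQT',
      show (fun q : Q => φ 1 * (f q : ℂ)) = φ 1 • fun q : Q => (f q : ℂ) from rfl,
      classInner_smul_left, classInner_isIrr_self (isIrr_linChar f), mul_one]
  have hne : Cfsg.classInner (fun x : Q.subgroupOf T => ψ x)
      (onSubgroupOf Q T fun q => (f q : ℂ)) ≠ 0 := by
    rw [hinner ψ hov]; exact irr_one_ne_zero hψ
  obtain ⟨h1, h2, h3⟩ := clifford_correspondence Q T (isIrr_linChar f) hT hψ hne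
  exact ⟨h1, by rw [h2]; exact hne, fun ψ' h h' => h3 ψ' h (by rw [hinner ψ' h']; exact irr_one_ne_zero h)⟩

include hT in
/-- Every character over the linear character comes from the stabiliser. -/
theorem exists_over {χ : G → ℂ} (hχ : Cfsg.IsIrrCharacter G χ)
    (hne : Cfsg.classInner (fun q : Q => χ q) (fun q => (f q : ℂ)) ≠ 0) :
    ∃ ψ : T → ℂ, Cfsg.IsIrrCharacter T ψ ∧ IsOver Q f T hQT ψ ∧ Cfsg.indFun T ψ = χ := by
  obtain ⟨ψ, e, he, hψ, hind, hres, -⟩ :=
    CfsgLib.CharactersDeep.Clifford.exists_induced_from_inertia Q (isIrr_linChar f) T hT hQT hχ hne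
  refine ⟨ψ, hψ, fun q => ?_, hind⟩
  have h1 := congrFun hres 1
  have h2 := congrFun hres q
  simp only [Pi.smul_apply, smul_eq_mul, map_one, Units.val_one, mul_one] at h1 h2
  rw [h2, ← h1]
  rfl

end Over

end CfsgLib.BlocksCharsC
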