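import Cfsg.Agent.BlocksCharsC.RegularSupport
import Mathlib.NumberTheory.Basic
import Mathlib.GroupTheory.Perm.Cycle.Type

/-!
# The automorphisms `g ↦ g ^ k` of `p`-power period acting on irreducible characters

`k` acts as `c ≡ 1 (mod p)` on `p`-elements and trivially on `p'`-elements.
-/

set_option autoImplicit false

namespace CfsgLib.BlocksCharsC

open Cfsg

universe u

variable {G : Type u} [Group G] [Finite G] {p k c : ℕ} [hp : Fact p.Prime]

/-- Hypotheses on the exponent `k`. -/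
structure SigmaExp (p k c : ℕ) (G : Type u) [Group G] : Prop where
  pElem : ∀ g : G, (∃ j : ℕ, orderOf g = p ^ j) → g ^ k = g ^ c
  regular : ∀ g : G, Nat.Coprime (orderOf g) p → g ^ k = g
  congr : (p : ℤ) ∣ (c : ℤ) - 1

theorem SigmaExp.coprime (h : SigmaExp p k c G) : Nat.Coprime k (Nat.card G) := by
  refine Nat.coprime_of_dvd fun q hq hqk hqG => ?_
  haveI := Fact.mk hq
  obtain ⟨g, hg⟩ := exists_prime_orderOf_dvd_card' q hqG
  have hgk : g ^ k = 1 := by
    obtain ⟨r, rfl⟩ := hqk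
    rw [pow_mul, ← hg, pow_orderOf_eq_one, one_pow]
  by_cases hqp : q = p
  · subst hqp
    have hc := h.pElem g ⟨1, by rw [hg, pow_one]⟩
    rw [hgk, eq_comm, ← orderOf_dvd_iff_pow_eq_one, hg] at hc
    have h1 : (q : ℤ) ∣ (c : ℤ) - ((c : ℤ) - 1) := dvd_sub (Int.natCast_dvd_natCast.2 hc) h.congr
    rw [sub_sub_cancel] at h1
    exact hq.ne_one (Nat.dvd_one.1 (Int.natCast_dvd_natCast.1 (by exact_mod_cast h1)))
  · have hc := h.regular g (hg ▸ (Nat.coprime_primes hq hp.out).2 hqp)
    rw [hgk] at hc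
    exact hq.ne_one (hg ▸ orderOf_eq_one_iff.2 hc.symm)

theorem SigmaExp.pow_pow (h : SigmaExp p k c G) (g : G) :
    g ^ (k ^ (p ^ (Nat.card G).factorization p)) = g := by
  set a := (Nat.card G).factorization p
  set m := p ^ a
  -- on `p`-elements
  have hP : ∀ x : G, (∃ j : ℕ, orderOf x = p ^ j) → x ^ (k ^ m) = x := by
    intro x hx
    have hpow : ∀ i : ℕ, x ^ (k ^ i) = x ^ (c ^ i) := by
      intro i
      induction i with
      | zero => simp
      | succ i ih =>
        have hx' : ∃ j : ℕ, orderOf (x ^ (c ^ i)) = p ^ j := by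
          obtain ⟨j, hj⟩ := hx
          obtain ⟨l, -, hl⟩ := (Nat.dvd_prime_pow hp.out).1 (hj ▸ orderOf_pow_dvd (x := x) (c ^ i))
          exact ⟨l, hl⟩
        rw [pow_succ, pow_mul, ih, h.pElem _ hx', ← pow_mul, ← pow_succ]
    rw [hpow]
    obtain ⟨j, hj⟩ := hx
    have hja : j ≤ a := (Nat.Prime.pow_dvd_iff_le_factorization hp.out Nat.card_pos.ne').1
      (hj ▸ orderOf_dvd_natCard x)
    have h1 : ((p ^ j : ℕ) : ℤ) ∣ (c : ℤ) ^ m - 1 := by
      have := dvd_sub_pow_of_dvd_sub h.congr a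
      rw [one_pow] at this
      refine dvd_trans ?_ this
      push_cast
      exact pow_dvd_pow _ (by omega)
    conv_rhs => rw [← pow_one x]
    rw [pow_eq_pow_iff_modEq, hj]
    rw [← Int.natCast_modEq_iff, Int.modEq_comm, Int.modEq_iff_dvd]
    push_cast
    simpa using h1
  -- on `p'`-elements
  have hR : ∀ x : G, Nat.Coprime (orderOf x) p → ∀ i : ℕ, x ^ (k ^ i) = x := by
    intro x hx i
    induction i with
    | zero => simp
    | succ i ih => rw [pow_succ, pow_mul, ih, h.regular x hx]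
  set n := orderOf g with hn
  have hn0 : n ≠ 0 := (orderOf_pos g).ne'
  set d := (g ^ (k ^ m)) * g⁻¹ with hd
  have hcomm : Commute (g ^ (k ^ m)) g⁻¹ := ((Commute.refl g).pow_left _).inv_right
  have h1 : d ^ (n / p ^ n.factorization p) = 1 := by
    rw [hd, hcomm.mul_pow, ← pow_mul, mul_comm (k ^ m), pow_mul, inv_pow]
    rw [hP _ ?_, mul_inv_cancel]
    rw [orderOf_pow_of_dvd (Nat.ordCompl_pos p hn0).ne' (Nat.ordCompl_dvd n p),
      Nat.div_div_self (Nat.ordProj_dvd n p) hn0]
    exact ⟨_, rfl⟩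
  have h2 : d ^ (p ^ n.factorization p) = 1 := by
    rw [hd, hcomm.mul_pow, ← pow_mul, mul_comm (k ^ m), pow_mul, inv_pow]
    rw [hR _ ?_, mul_inv_cancel]
    rw [orderOf_pow_of_dvd (pow_ne_zero _ hp.out.ne_zero) (Nat.ordProj_dvd n p)]
    exact (Nat.coprime_ordCompl hp.out hn0).symm
  have h3 := pow_gcd_eq_one.mpr ⟨h1, h2⟩
  rw [Nat.Coprime.gcd_eq_one ((Nat.coprime_ordCompl hp.out hn0).symm.pow_right _), pow_one, hd,
    mul_inv_eq_one] at h3
  exact h3

/-- The permutation of the irreducible characters given by `g ↦ g ^ k`. -/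
noncomputable def sigmaPerm (hk : Nat.Coprime k (Nat.card G)) : Equiv.Perm (IrrCharacter G) :=
  Equiv.ofBijective (fun χ : IrrCharacter G =>
      (⟨fun g => (χ : G → ℂ) (g ^ k), GaloisConj.isIrrCharacter_pow χ.2 hk⟩ : IrrCharacter G))
    (Finite.injective_iff_bijective.1 fun χ ψ h => Subtype.ext (funext fun g => by
      obtain ⟨x, rfl⟩ := ((Nat.Coprime.symm hk).pow_left_bijective).2 g
      exact congrFun (congrArg Subtype.val h) x))

theorem sigmaPerm_apply (hk : Nat.Coprime k (Nat.card G)) (χ : IrrCharacter G) (g : G) :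
    (sigmaPerm hk χ : G → ℂ) g = (χ : G → ℂ) (g ^ k) := rfl

theorem sigmaPerm_pow_apply (hk : Nat.Coprime k (Nat.card G)) (i : ℕ) (χ : IrrCharacter G) (g : G) :
    ((sigmaPerm hk ^ i) χ : G → ℂ) g = (χ : G → ℂ) (g ^ (k ^ i)) := by
  induction i generalizing g with
  | zero => simp
  | succ i ih =>
    rw [pow_succ', Equiv.Perm.mul_apply, sigmaPerm_apply, ih, ← pow_mul, ← pow_succ']

/-- Counting fixed characters modulo `p` in a stable set. -/
theorem card_fixed_modEq (h : SigmaExp p k c G) (s : IrrCharacter G → Prop)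
    (hs : ∀ χ, s χ → s (sigmaPerm h.coprime χ)) :
    Nat.card {χ : IrrCharacter G // s χ ∧ ∀ g : G, (χ : G → ℂ) (g ^ k) = (χ : G → ℂ) g} ≡
      Nat.card {χ : IrrCharacter G // s χ} [MOD p] := by
  classical
  haveI := Fintype.ofFinite (IrrCharacter G)
  let τ := sigmaPerm h.coprime
  have hiff : ∀ χ, s χ ↔ s (τ χ) := by
    refine fun χ => ⟨hs χ, fun hh => ?_⟩
    have hper : ∀ i, s (τ χ) → s ((τ ^ i) (τ χ)) := fun i => by
      induction i with
      | zero => exact id
      | succ i ih => intro h0; rw [pow_succ', Equiv.Perm.mul_apply]; exact hs _ (ih h0)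
    have hinv := hper (p ^ (Nat.card G).factorization p - 1) hh
    rw [← Equiv.Perm.mul_apply, ← pow_succ, Nat.sub_add_cancel (Nat.one_le_pow _ _ hp.out.pos)] at hinv
    convert hinv
    exact Subtype.ext (funext fun g => by rw [sigmaPerm_pow_apply, h.pow_pow])
  let σ : Equiv.Perm {χ : IrrCharacter G // s χ} := τ.subtypePerm fun χ => (hiff χ).symm
  have hσ : σ ^ p ^ (Nat.card G).factorization p = 1 := by
    rw [Equiv.Perm.subtypePerm_pow]
    refine Equiv.ext fun χ => Subtype.ext (Subtype.ext (funext fun g => ?_))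
    rw [Equiv.Perm.subtypePerm_apply, sigmaPerm_pow_apply, h.pow_pow]
    rfl
  have := Equiv.Perm.card_compl_support_modEq hσ
  rw [← Nat.card_eq_fintype_card] at this
  refine Nat.ModEq.trans (Nat.ModEq.symm ?_) this
  rw [← Fintype.card_coe, ← Nat.card_eq_fintype_card]
  refine Eq.congr_left (congrArg (· % p) ?_) |>.2 rfl
  refine Nat.card_congr ⟨fun x => ⟨x.1.1, x.1.2, ?_⟩, fun x => ⟨⟨x.1, x.2.1⟩, ?_⟩,
    fun x => rfl, fun x => rfl⟩
  · have hx := x.2
    rw [Finset.mem_compl, Equiv.Perm.mem_support, not_not, Subtype.ext_iff,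
      Equiv.Perm.subtypePerm_apply] at hx
    exact fun g => congrFun (congrArg Subtype.val hx) g
  · rw [Finset.mem_compl, Equiv.Perm.mem_support, not_not]
    exact Subtype.ext (Subtype.ext (funext x.2.2))

end CfsgLib.BlocksCharsC
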