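import Cfsg.Agent.BlocksCharsC.SmallCentralizer

/-!
# At most `p²` characters of degree prime to `p`

The two bounds needed by `SmallCent.count_le`: a quotient of order prime to `p`, and a quotient
with a Sylow subgroup of order `p`.
-/

set_option autoImplicit false
set_option linter.style.haveILetI false
set_option linter.unusedSectionVars false

namespace CfsgLib.BlocksCharsC.SmallCent

open Cfsg CfsgLib.Blocks CfsgLib.BlockPairing
open scoped ComplexConjugate

universe u

variable {X : Type u} [Group X] [Fintype X] {p : ℕ} [hp : Fact p.Prime] {M : Ideal AlgInt}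
  [M.IsPrime]

open Classical in
/-- A group of order prime to `p` has only the principal character in its principal block. -/
theorem block_trivial (hM : Cfsg.IsPModular p M) (hX : ¬ p ∣ Nat.card X) :
    (Cfsg.principalBlock M X).toFinset = {PrincipalBlock.trivChar X} := by
  refine Finset.eq_singleton_iff_unique_mem.2
    ⟨Set.mem_toFinset.2 PrincipalBlock.trivChar_mem, fun χ hχ => ?_⟩
  have h := PrincipalBlock.le_charKer_of_mem hM (⊤ : Subgroup X) (by
    rwa [Subgroup.card_top]) (Set.mem_toFinset.1 hχ)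
  have hc : ∀ g : X, (χ : X → ℂ) g = (χ : X → ℂ) 1 :=
    fun g => PrincipalBlock.mem_charKer.1 (h (Subgroup.mem_top g))
  by_contra hne
  have h1 := Characters.classInner_isIrr_ne χ.2 (PrincipalBlock.trivChar X).2
    (fun he => hne (Subtype.ext he))
  rw [Cfsg.classInner, mul_eq_zero] at h1
  have h2 := h1.resolve_left (inv_ne_zero Characters.natCard_ne_zero)
  rw [Finset.sum_congr rfl fun g _ => by rw [hc g]] at h2
  simp [PrincipalBlock.trivChar] at h2
  exact Characters.irr_one_ne_zero χ.2 h2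

open Classical in
theorem blockRank_le_card_toFinset (B : Set (IrrCharacter X)) :
    Cfsg.blockRank p B ≤ B.toFinset.card := by
  rw [Cfsg.blockRank]
  refine le_trans ?_ (Finset.card_image_le
    (f := fun χ : IrrCharacter X => Cfsg.pRegularPart p (χ : X → ℂ)))
  refine le_trans (le_of_eq ?_) (finrank_span_finset_le_card (R := ℂ) _)
  rw [Finset.coe_image, Set.coe_toFinset]
  rfl

/-- Numbers congruent modulo `p`, `e` of them with `e t + 1 = p`. -/
theorem form_bound {ι : Type*} (A : Finset ι) (v : ι → ℤ) {t : ℕ} (hp' : A.card * t + 1 = p)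
    (ht : 0 < t) (hcong : ∀ a ∈ A, ∀ a' ∈ A, (p : ℤ) ∣ v a - v a')
    (hne : ∃ a ∈ A, v a ≠ 0) :
    ((p * A.card : ℕ) : ℤ) ≤ ∑ a ∈ A, v a ^ 2 + (t : ℤ) * (∑ a ∈ A, v a) ^ 2 := by
  classical
  obtain ⟨a₀, ha₀, hv₀⟩ := hne
  set e : ℤ := (A.card : ℤ) with he
  have he1 : 1 ≤ e := by
    have := Finset.card_pos.2 ⟨a₀, ha₀⟩; omega
  have hpt : e * (t : ℤ) + 1 = (p : ℤ) := by
    rw [he]; exact_mod_cast hp'
  have hpe : e + 1 ≤ (p : ℤ) := by
    have : (1 : ℤ) ≤ t := by exact_mod_cast ht
    nlinarith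
  push_cast
  rw [← he]
  by_cases hconst : ∀ a ∈ A, v a = v a₀
  · rw [Finset.sum_congr rfl fun a ha => by rw [hconst a ha], Finset.sum_const,
      Finset.sum_congr rfl fun a ha => hconst a ha, Finset.sum_const, nsmul_eq_mul, nsmul_eq_mul,
      ← he]
    have h1 : 1 ≤ v a₀ ^ 2 := by have := sq_pos_iff.2 hv₀; omega
    calc (p : ℤ) * e ≤ (p : ℤ) * e * v a₀ ^ 2 := le_mul_of_one_le_right (by positivity) h1
      _ = e * v a₀ ^ 2 + (t : ℤ) * (e * v a₀) ^ 2 := by rw [← hpt]; ring
  · push Not at hconst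
    obtain ⟨a₁, ha₁, hv₁⟩ := hconst
    have h := RootSquares.pairs_bound A v (fun i j => (v i - v j) ^ 2) (L := (p : ℤ) ^ 2)
      (fun _ _ => sq_nonneg _) (fun _ _ => by ring)
      (fun i hi j hj hij => by
        obtain ⟨k, hk⟩ := hcong i hi j hj
        rw [hk, mul_pow]
        refine le_mul_of_one_le_right (sq_nonneg _) ?_
        have : k ≠ 0 := by rintro rfl; exact hij (sub_eq_zero.1 (by rw [hk, mul_zero]))
        have := sq_pos_iff.2 this
        omega)
      ⟨a₁, ha₁, a₀, ha₀, hv₁⟩
    rw [← RootSquares.sum_sq_sub_sq, ← he] at h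
    set T := ∑ a ∈ A, v a with hT
    by_cases hT0 : T = 0
    · have hd : (p : ℤ) ∣ v a₀ := by
        have h1 : (p : ℤ) ∣ e * v a₀ - T := by
          rw [hT, he, ← nsmul_eq_mul, ← Finset.sum_const, ← Finset.sum_sub_distrib]
          exact Finset.dvd_sum fun a ha => hcong a₀ ha₀ a ha
        rw [hT0, sub_zero] at h1
        refine ((Nat.prime_iff_prime_int.1 hp.out).dvd_or_dvd h1).resolve_left fun h2 => ?_
        have := Int.le_of_dvd (by omega) h2
        omega
      obtain ⟨k, hk⟩ := hd
      have hk1 : 1 ≤ k ^ 2 := by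
        have : k ≠ 0 := by rintro rfl; exact hv₀ (by rw [hk, mul_zero])
        have := sq_pos_iff.2 this
        omega
      calc (p : ℤ) * e ≤ (p : ℤ) ^ 2 * k ^ 2 := by nlinarith
        _ = v a₀ ^ 2 := by rw [hk]; ring
        _ ≤ ∑ a ∈ A, v a ^ 2 := Finset.single_le_sum (fun a _ => sq_nonneg (v a)) ha₀
        _ ≤ _ := le_add_of_nonneg_right (by positivity)
    · have hT1 : 1 ≤ T ^ 2 := by have := sq_pos_iff.2 hT0; omega
      refine le_of_mul_le_mul_left ?_ (show (0 : ℤ) < e by omega)
      nlinarith [mul_nonneg (mul_nonneg (sub_nonneg.2 he1) (show (0 : ℤ) ≤ (p : ℤ) by positivity))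
        (show (0 : ℤ) ≤ (p : ℤ) - e - 1 by omega)]

open Classical in
/-- The bound for a quotient with a Sylow subgroup of order `p`. -/
theorem exists_bound (hM : Cfsg.IsPModular p M) (hX : (Nat.card X).factorization p = 1) :
    ∃ e : ℕ, 0 < e ∧ Cfsg.blockRank p (Cfsg.principalBlock M X) ≤ e ∧
      ∀ w : IrrCharacter X → ℤ, IsSpecial p (Cfsg.principalBlock M X).toFinset w →
        (∃ ψ ∈ (Cfsg.principalBlock M X).toFinset, w ψ ≠ 0) →
        ((p * e : ℕ) : ℤ) ≤ ∑ ψ ∈ (Cfsg.principalBlock M X).toFinset, w ψ ^ 2 := by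
  let P : Sylow p X := default
  have hP : Nat.card (P : Subgroup X) = p := by
    rw [Sylow.card_eq_multiplicity, hX, pow_one]
  obtain ⟨x, hxP, hx⟩ := BlocksCyclic.exists_generator hP
  obtain ⟨θ, hθ, hθC⟩ := BlocksCyclic.exists_theta hP hxP hx
  obtain ⟨t, A, u, ε, δ, hpt, hui, huA, hB, hA, hδ, hrel⟩ :=
    DefectOne.principal_columns hM P hP hxP hx hθ hθC
  have hp1 := hp.out.one_lt
  have he : 0 < A.card := Nat.pos_of_ne_zero fun h => by rw [h, zero_mul] at hpt; omega
  have ht : 0 < t := Nat.pos_of_ne_zero fun h => by rw [h, mul_zero] at hpt; omega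
  have hBeq : (Cfsg.principalBlock M X).toFinset = A ∪ Finset.univ.image u := by
    ext χ; simp [hB]
  have hdisj : Disjoint A (Finset.univ.image u) := Finset.disjoint_right.2 fun χ hχ => by
    obtain ⟨q, -, rfl⟩ := Finset.mem_image.1 hχ
    exact huA q
  refine ⟨A.card, he, ?_, fun w hw hne => ?_⟩
  · -- the rank
    set S := Submodule.span ℂ
      ((A.image fun χ : IrrCharacter X => Cfsg.pRegularPart p (χ : X → ℂ) : Finset (X → ℂ)) :
        Set (X → ℂ)) with hS
    refine le_trans (Submodule.finrank_mono (t := S) ?_)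
      ((finrank_span_finset_le_card _).trans Finset.card_image_le)
    rw [Submodule.span_le]
    rintro _ ⟨χ, hχ, rfl⟩
    rcases (hB χ).1 hχ with hχA | ⟨q, rfl⟩
    · exact Submodule.subset_span (Finset.mem_coe.2 (Finset.mem_image_of_mem _ hχA))
    · have key : Cfsg.pRegularPart p (u q : X → ℂ) =
          ∑ a ∈ A, (-(δ q : ℂ) * (ε a : ℂ)) • Cfsg.pRegularPart p (a : X → ℂ) := by
        funext g
        simp only [Finset.sum_apply, Pi.smul_apply, smul_eq_mul]
        by_cases hg : p ∣ orderOf g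
        · have hg' : ¬ Cfsg.IsPRegular p g := not_not.2 hg
          simp [Cfsg.pRegularPart, hg']
        have hg' : Cfsg.IsPRegular p g := hg
        simp only [Cfsg.pRegularPart, if_pos hg']
        have h := hrel (fun ψ => (ψ : X → ℂ) g) (fun g' hg'' => by
          have hu := sum_union_mul_conj_eq_zero hM (isBlockUnion_of_isPBlock
            (BlocksCharsC.isPBlock_principalBlock (M := M) (G := X))) hg (y := g'⁻¹)
            (by rwa [orderOf_inv])
          refine Eq.trans (Finset.sum_congr rfl fun ψ _ => ?_) hu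
          rw [Characters.character_inv (Characters.isCharacter_of_isIrr ψ.2), Complex.conj_conj]) q
        have hδ2 : (δ q : ℂ) * (δ q : ℂ) = 1 := by
          rcases hδ q with h' | h' <;> simp [h']
        simp only [mul_assoc, ← Finset.mul_sum]
        linear_combination (δ q : ℂ) * h - (u q : X → ℂ) g * hδ2
      show Cfsg.pRegularPart p (u q : X → ℂ) ∈ S
      rw [key]
      exact Submodule.sum_mem _ fun a ha => Submodule.smul_mem _ _
        (Submodule.subset_span (Finset.mem_coe.2 (Finset.mem_image_of_mem _ ha)))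
  · have hr : ∀ q, w (u q) ^ 2 = (∑ a ∈ A, ε a * w a) ^ 2 := by
      intro q
      have h := hrel (fun ψ => (w ψ : ℂ)) (fun g hg => by
        rw [← Finset.sum_filter]
        refine Eq.trans (Finset.sum_congr ?_ fun _ _ => rfl) (hw.2 g hg)
        ext ψ; simp) q
      have h' : ∑ a ∈ A, ε a * w a + δ q * w (u q) = 0 := by exact_mod_cast h
      rw [eq_neg_of_add_eq_zero_left h', neg_sq, mul_pow]
      rcases hδ q with h2 | h2 <;> rw [h2] <;> ring
    have hA0 : ∃ a ∈ A, ε a * w a ≠ 0 := by
      by_contra! h0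
      obtain ⟨ψ, hψ, hψ0⟩ := hne
      rw [hBeq, Finset.mem_union, Finset.mem_image] at hψ
      rcases hψ with hψ | ⟨q, -, rfl⟩
      · rcases (hA ψ hψ).1 with h | h <;> have := h0 ψ hψ <;> rw [h] at this <;>
          exact hψ0 (by linarith)
      · have := hr q
        rw [Finset.sum_eq_zero h0, zero_pow two_ne_zero, sq_eq_zero_iff] at this
        exact hψ0 this
    have hcong : ∀ a ∈ A, ∀ a' ∈ A, (p : ℤ) ∣ ε a * w a - ε a' * w a' := by
      intro a ha a' ha'
      have haB : a ∈ (Cfsg.principalBlock M X).toFinset := by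
        rw [hBeq]; exact Finset.mem_union_left _ ha
      have haB' : a' ∈ (Cfsg.principalBlock M X).toFinset := by
        rw [hBeq]; exact Finset.mem_union_left _ ha'
      obtain ⟨u₁, hu₁⟩ := hw.1 a haB a' haB'
      obtain ⟨v₁, hv₁⟩ := Int.modEq_iff_dvd.1 (hA a ha).2
      obtain ⟨v₂, hv₂⟩ := Int.modEq_iff_dvd.1 (hA a' ha').2
      have h1 : ε a * ε a = 1 := by rcases (hA a ha).1 with h | h <;> rw [h] <;> norm_num
      have h2 : ε a' * ε a' = 1 := by rcases (hA a' ha').1 with h | h <;> rw [h] <;> norm_num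
      refine ⟨ε a * ε a' * (u₁ + w a * v₂ - w a' * v₁), ?_⟩
      linear_combination (ε a * ε a') * hu₁ + (ε a * ε a' * w a) * hv₂ -
        (ε a * ε a' * w a') * hv₁ + ε a' * w a' * h1 - ε a * w a * h2
    refine le_trans (form_bound A (fun a => ε a * w a) hpt ht hcong hA0) ?_
    rw [hBeq, Finset.sum_union hdisj, Finset.sum_image fun _ _ _ _ h => hui h]
    refine add_le_add (le_of_eq (Finset.sum_congr rfl fun a ha => ?_)) (le_of_eq ?_)
    · rcases (hA a ha).1 with h | h <;> simp [h]
    · rw [Finset.sum_congr rfl fun q _ => hr q, Finset.sum_const, Finset.card_univ,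
        Fintype.card_fin, nsmul_eq_mul]

variable {G : Type u} [Group G] [Fintype G]

open Classical in
/-- At most `p²` characters of degree prime to `p` in the principal block. -/
theorem card_le_sq (hM : Cfsg.IsPModular p M)
    (hx : ∃ x : G, (∃ k : ℕ, orderOf x = p ^ k) ∧
      (Nat.card (Subgroup.centralizer ({x} : Set G))).factorization p ≤ 2) :
    Nat.card {χ : IrrCharacter G // χ ∈ Cfsg.principalBlock M G ∧
      ¬ p ∣ Cfsg.charDegree (χ : G → ℂ)} ≤ p ^ 2 := by
  by_cases hG : p ∣ Nat.card G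
  swap
  · rw [Nat.card_eq_fintype_card, Fintype.card_subtype]
    refine le_trans (Finset.card_le_card (t := (Cfsg.principalBlock M G).toFinset) fun χ hχ => ?_) ?_
    · exact Set.mem_toFinset.2 (Finset.mem_filter.1 hχ).2.1
    · rw [block_trivial hM hG, Finset.card_singleton]
      exact Nat.one_le_pow _ _ hp.out.pos
  -- a nonidentity element
  obtain ⟨x, k, hk, hd⟩ : ∃ (x : G) (k : ℕ), orderOf x = p ^ (k + 1) ∧
      (Nat.card (Subgroup.centralizer ({x} : Set G))).factorization p ≤ 2 := by
    obtain ⟨x, ⟨k, hk⟩, hd⟩ := hx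
    cases k with
    | succ k => exact ⟨x, k, hk, hd⟩
    | zero =>
      rw [pow_zero, orderOf_eq_one_iff] at hk
      obtain ⟨y, hy⟩ := exists_prime_orderOf_dvd_card' p hG
      refine ⟨y, 0, by rw [hy, zero_add, pow_one], le_trans ?_ hd⟩
      exact (Nat.factorization_le_iff_dvd Nat.card_pos.ne' Nat.card_pos.ne').2
        (Subgroup.card_dvd_of_le (fun g _ => Subgroup.mem_centralizer_singleton_iff.2
          (by rw [hk, mul_one, one_mul]))) p
  haveI := Fintype.ofFinite (Subgroup.centralizer ({x} : Set G))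
  set Q := Subgroup.zpowers (selfCent x) with hQ
  haveI hQn : Q.Normal := ⟨fun a ha g => by
    have hc : Q ≤ Subgroup.center _ := Subgroup.zpowers_le.2 selfCent_mem_center
    rwa [Subgroup.mem_center_iff.1 (hc ha) g, mul_inv_cancel_right]⟩
  haveI := Fintype.ofFinite (Subgroup.centralizer ({x} : Set G) ⧸ Q)
  set d := (Nat.card (Subgroup.centralizer ({x} : Set G))).factorization p with hdd
  have hQcard : Nat.card Q = p ^ (k + 1) := by
    rw [hQ, Nat.card_zpowers, ← Subgroup.orderOf_coe]; exact hk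
  have hs : (Nat.card (Subgroup.centralizer ({x} : Set G) ⧸ Q)).factorization p + (k + 1) = d := by
    rw [hdd, Subgroup.card_eq_card_quotient_mul_card_subgroup Q, hQcard,
      Nat.factorization_mul Nat.card_pos.ne' (pow_ne_zero _ hp.out.ne_zero), Finsupp.add_apply,
      Nat.Prime.factorization_pow hp.out, Finsupp.single_eq_same]
  rcases Nat.eq_zero_or_pos
    ((Nat.card (Subgroup.centralizer ({x} : Set G) ⧸ Q)).factorization p) with h0 | hpos
  · have hXp : ¬ p ∣ Nat.card (Subgroup.centralizer ({x} : Set G) ⧸ Q) := fun h =>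
      (hp.out.factorization_pos_of_dvd Nat.card_pos.ne' h).ne' h0
    refine count_le hM hk hdd.symm hQ 1 1 one_pos
      ((blockRank_le_card_toFinset _).trans (le_of_eq ?_)) (fun w _ hne => ?_) ?_
    · rw [block_trivial hM hXp, Finset.card_singleton]
    · rw [block_trivial hM hXp] at hne ⊢
      obtain ⟨ψ, hψ, hw0⟩ := hne
      rw [Finset.mem_singleton] at hψ
      subst hψ
      rw [Finset.sum_singleton]
      have := sq_pos_iff.2 hw0
      push_cast
      omega
    · rw [mul_one, one_mul, ← pow_add]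
      exact Nat.pow_le_pow_right hp.out.pos (by omega)
  · have h1 : (Nat.card (Subgroup.centralizer ({x} : Set G) ⧸ Q)).factorization p = 1 := by omega
    obtain ⟨e, he, hR, hL⟩ := exists_bound (X := Subgroup.centralizer ({x} : Set G) ⧸ Q) hM h1
    refine count_le hM hk hdd.symm hQ (p * e) e (Nat.mul_pos hp.out.pos he) hR hL ?_
    have hk0 : k = 0 := by omega
    have hd2 : d = 2 := by omega
    rw [hk0, hd2]
    exact le_of_eq (by ring)

end CfsgLib.BlocksCharsC.SmallCent
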