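import Cfsg.Agent.BlockPairing.Subsections
import Cfsg.Agent.BlockPairs.Contributions
import Cfsg.Agent.BlocksCharsC.CliffordInvariant

/-!
# The contribution form of a subsection

For a p-element `x` and a union `A` of blocks of `C(x)` the form
`secInner p x A χ ψ` is the regular inner product of the `A`-parts of `c ↦ χ (x c)` and
`c ↦ ψ (x c)`.  As a matrix it is a projection of trace `blockRank p A`.
-/

set_option autoImplicit false
set_option linter.style.haveILetI false
set_option linter.unusedSectionVars false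

namespace CfsgLib.BlocksCharsC

open Cfsg CfsgLib.Blocks CfsgLib.BlockPairing
open scoped ComplexConjugate

universe u

section Form

variable {H : Type u} [Group H] [Fintype H] {p : ℕ}

theorem regInner_conj (φ ψ : H → ℂ) : conj (regInner p φ ψ) = regInner p ψ φ := by
  simp only [regInner, map_mul, map_inv₀, map_natCast, map_sum]
  congr 1
  exact Finset.sum_congr rfl fun g _ => by split_ifs <;> simp [mul_comm]

theorem regInner_sum_left {ι : Type*} (s : Finset ι) (c : ι → ℂ) (f : ι → H → ℂ) (ψ : H → ℂ) :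
    regInner p (fun g => ∑ i ∈ s, c i * f i g) ψ = ∑ i ∈ s, c i * regInner p (f i) ψ := by
  simp only [regInner, Finset.mul_sum]
  rw [Finset.sum_comm]
  refine Finset.sum_congr rfl fun g _ => ?_
  split_ifs
  · simp
  · rw [Finset.sum_mul, Finset.mul_sum]
    exact Finset.sum_congr rfl fun i _ => by ring

theorem regInner_sum_right {ι : Type*} (s : Finset ι) (c : ι → ℂ) (f : ι → H → ℂ) (φ : H → ℂ) :
    regInner p φ (fun g => ∑ i ∈ s, c i * f i g) = ∑ i ∈ s, conj (c i) * regInner p φ (f i) := by
  rw [← regInner_conj, regInner_sum_left, map_sum]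
  exact Finset.sum_congr rfl fun i _ => by rw [map_mul, regInner_conj]

theorem regInner_congr_left {φ φ' : H → ℂ} (ψ : H → ℂ) (h : ∀ g, ¬ p ∣ orderOf g → φ g = φ' g) :
    regInner p φ ψ = regInner p φ' ψ := by
  simp only [regInner]
  congr 1
  exact Finset.sum_congr rfl fun g _ => by split_ifs with hg <;> simp [h g, *]

theorem regInner_congr_right {ψ ψ' : H → ℂ} (φ : H → ℂ) (h : ∀ g, ¬ p ∣ orderOf g → ψ g = ψ' g) :
    regInner p φ ψ = regInner p φ ψ' := by
  simp only [regInner]
  congr 1
  exact Finset.sum_congr rfl fun g _ => by split_ifs with hg <;> simp [h g, *]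

theorem sum_regInner_mul_regInner [Fact p.Prime] (φ ψ : IrrCharacter H) :
    ∑ lam : IrrCharacter H, regInner p (φ : H → ℂ) lam * regInner p (lam : H → ℂ) ψ =
      regInner p (φ : H → ℂ) ψ := by
  have hc : Cfsg.IsClassFunction H (Cfsg.pRegularPart p (φ : H → ℂ)) :=
    BlockPairing.isClassFunction_pRegularPart p (Characters.isClassFunction_of_isIrr φ.2)
  have hexp := Characters.classFunction_expansion hc
  have h1 : regInner p (fun g => ∑ lam : IrrCharacter H, regInner p (φ : H → ℂ) lam *
      (lam : H → ℂ) g) ψ = regInner p (φ : H → ℂ) ψ := by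
    refine regInner_congr_left _ fun g hg => ?_
    have := congrFun hexp g
    rw [BlockPairing.pRegularPart_apply, if_neg hg, Finset.sum_apply] at this
    simp only [Pi.smul_apply, smul_eq_mul, BlockPairing.classInner_pRegularPart] at this
    exact this.symm
  rwa [regInner_sum_left] at h1

end Form

variable {G : Type u} [Group G] [Fintype G] {p : ℕ} {x : G}
  [Fintype (Subgroup.centralizer ({x} : Set G))]

/-- The coefficient of `ξ` in the translate of `χ` by `x`. -/
noncomputable def secCoef (x : G) [Fintype (Subgroup.centralizer ({x} : Set G))] (χ : G → ℂ)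
    (ξ : IrrCharacter (Subgroup.centralizer ({x} : Set G))) : ℂ :=
  Cfsg.classInner (fun c : Subgroup.centralizer ({x} : Set G) => χ (x * (c : G))) (ξ : Subgroup.centralizer ({x} : Set G) → ℂ)

open Classical in
/-- The `A`-part of the translate of `χ`. -/
noncomputable def secVal (x : G) [Fintype (Subgroup.centralizer ({x} : Set G))]
    (A : Set (IrrCharacter (Subgroup.centralizer ({x} : Set G)))) (χ : G → ℂ) :
    Subgroup.centralizer ({x} : Set G) → ℂ :=
  fun y => ∑ ξ ∈ A.toFinset, secCoef x χ ξ * (ξ : Subgroup.centralizer ({x} : Set G) → ℂ) y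

/-- The contribution form of `(x, A)`. -/
noncomputable def secInner (p : ℕ) (x : G) [Fintype (Subgroup.centralizer ({x} : Set G))]
    (A : Set (IrrCharacter (Subgroup.centralizer ({x} : Set G)))) (χ ψ : G → ℂ) : ℂ :=
  regInner p (secVal x A χ) (secVal x A ψ)

theorem secInner_conj (A : Set (IrrCharacter (Subgroup.centralizer ({x} : Set G)))) (χ ψ : G → ℂ) :
    conj (secInner p x A χ ψ) = secInner p x A ψ χ :=
  regInner_conj _ _

omit [Fintype (Subgroup.centralizer ({x} : Set G))] in
/-- Column orthogonality on a p-section is that of the centralizer. -/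
theorem sum_translate_mul_conj [Fact p.Prime] [Fintype (Subgroup.centralizer ({x} : Set G))]
    (hx : ∃ k, orderOf x = p ^ k) {h y : Subgroup.centralizer ({x} : Set G)}
    (hh : ¬ p ∣ orderOf h) (hy : ¬ p ∣ orderOf y) :
    ∑ χ : IrrCharacter G, (χ : G → ℂ) (x * (h : G)) * conj ((χ : G → ℂ) (x * (y : G))) =
      ∑ η : IrrCharacter (Subgroup.centralizer ({x} : Set G)), (η : Subgroup.centralizer ({x} : Set G) → ℂ) h * conj ((η : Subgroup.centralizer ({x} : Set G) → ℂ) y) := by
  let H := Subgroup.centralizer ({x} : Set G)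
  have hcx : ∀ c : H, Commute x (c : G) := fun c =>
    (Subgroup.mem_centralizer_singleton_iff.1 c.2).symm
  by_cases hc : IsConj h y
  · obtain ⟨c, rfl⟩ := isConj_iff.1 hc
    have hG : IsConj (x * (h : G)) (x * ((c * h * c⁻¹ : H) : G)) := by
      refine isConj_iff.2 ⟨(c : G), ?_⟩
      push_cast
      rw [← mul_assoc (c : G) x, (hcx c).eq.symm]
      group
    rw [Characters.sum_irr_mul_conj_of_isConj hG, Characters.sum_irr_mul_conj_of_isConj hc]
    congr 1
    refine Nat.card_congr ⟨fun g => ⟨⟨g.1, ?_⟩, ?_⟩, fun g => ⟨(g.1 : G), ?_⟩,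
      fun g => rfl, fun g => rfl⟩
    · have hg := Subgroup.mem_centralizer_singleton_iff.1 g.2
      have h1 := isPPart_conj (isPPart_of_mul (hcx h) hx (by rwa [Subgroup.orderOf_coe])) (g.1 : G)
      rw [hg, mul_inv_cancel_right] at h1
      have h2 := isPPart_unique (Fact.out : p.Prime) h1
        (isPPart_of_mul (hcx h) hx (by rwa [Subgroup.orderOf_coe]))
      exact Subgroup.mem_centralizer_singleton_iff.2 (mul_inv_eq_iff_eq_mul.1 h2)
    · refine Subgroup.mem_centralizer_singleton_iff.2 (Subtype.ext ?_)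
      have hg := Subgroup.mem_centralizer_singleton_iff.1 g.2
      have hgx : (g.1 : G) * x = x * g.1 := by
        have h1 := isPPart_conj (isPPart_of_mul (hcx h) hx (by rwa [Subgroup.orderOf_coe])) (g.1 : G)
        rw [hg, mul_inv_cancel_right] at h1
        have h2 := isPPart_unique (Fact.out : p.Prime) h1
          (isPPart_of_mul (hcx h) hx (by rwa [Subgroup.orderOf_coe]))
        exact mul_inv_eq_iff_eq_mul.1 h2
      rw [← mul_assoc, hgx, mul_assoc, mul_assoc] at hg
      exact mul_left_cancel hg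
    · refine Subgroup.mem_centralizer_singleton_iff.2 ?_
      have hg := congrArg Subtype.val (Subgroup.mem_centralizer_singleton_iff.1 g.2)
      push_cast at hg
      rw [← mul_assoc, (hcx g.1).eq.symm, mul_assoc, hg, ← mul_assoc]
  · rw [Characters.sum_irr_mul_conj_of_not_isConj hc,
      Characters.sum_irr_mul_conj_of_not_isConj]
    intro hcj
    obtain ⟨c, hc'⟩ := isConj_iff.1 hcj
    have h1 := isPPart_conj (isPPart_of_mul (hcx h) hx (by rwa [Subgroup.orderOf_coe])) c
    rw [hc'] at h1
    have h2 := isPPart_unique (Fact.out : p.Prime) h1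
      (isPPart_of_mul (hcx y) hx (by rwa [Subgroup.orderOf_coe]))
    have hcm : c ∈ H := Subgroup.mem_centralizer_singleton_iff.2 (mul_inv_eq_iff_eq_mul.1 h2)
    refine hc (isConj_iff.2 ⟨⟨c, hcm⟩, Subtype.ext ?_⟩)
    push_cast
    have h3 : x * (c * (h : G) * c⁻¹) = x * (y : G) := by
      rw [← hc']
      conv_lhs => arg 1; rw [← h2]
      group
    exact mul_left_cancel h3

variable {M : Ideal AlgInt} [M.IsPrime] [Fact p.Prime] (hM : Cfsg.IsPModular p M)
  {A : Set (IrrCharacter (Subgroup.centralizer ({x} : Set G)))} (hA : IsBlockUnion M A)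

/-- The regular inner product with the translate. -/
noncomputable def secReg (p : ℕ) (x : G) [Fintype (Subgroup.centralizer ({x} : Set G))] (χ : G → ℂ)
    (ξ : IrrCharacter (Subgroup.centralizer ({x} : Set G))) : ℂ :=
  regInner p (fun c : Subgroup.centralizer ({x} : Set G) => χ (x * (c : G))) (ξ : Subgroup.centralizer ({x} : Set G) → ℂ)

include hM hA

open Classical in
theorem sum_regInner_mul_apply {f : Subgroup.centralizer ({x} : Set G) → ℂ}
    (hf : Cfsg.IsClassFunction (Subgroup.centralizer ({x} : Set G)) f)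
    {y : Subgroup.centralizer ({x} : Set G)} (hy : ¬ p ∣ orderOf y) :
    ∑ ξ ∈ A.toFinset, regInner p f (ξ : Subgroup.centralizer ({x} : Set G) → ℂ) * (ξ : Subgroup.centralizer ({x} : Set G) → ℂ) y =
      ∑ ξ ∈ A.toFinset, Cfsg.classInner f (ξ : Subgroup.centralizer ({x} : Set G) → ℂ) * (ξ : Subgroup.centralizer ({x} : Set G) → ℂ) y := by
  have h := sum_union_regInner_mul hM hA hf hy
  rw [← Finset.sum_filter, ← Finset.sum_filter] at h
  convert h using 2 <;> (ext; simp)

open Classical in
theorem secVal_eq {χ : G → ℂ} (hχ : Cfsg.IsClassFunction G χ)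
    {y : Subgroup.centralizer ({x} : Set G)} (hy : ¬ p ∣ orderOf y) :
    secVal x A χ y = ∑ ξ ∈ A.toFinset, secReg p x χ ξ * (ξ : Subgroup.centralizer ({x} : Set G) → ℂ) y :=
  (sum_regInner_mul_apply hM hA (isClassFunction_translate χ hχ x) hy).symm

open Classical in
theorem secVal_fix (χ : G → ℂ) (ψ : IrrCharacter (Subgroup.centralizer ({x} : Set G))) :
    ∑ η ∈ A.toFinset, regInner p (secVal x A χ) (η : Subgroup.centralizer ({x} : Set G) → ℂ) * regInner p (η : Subgroup.centralizer ({x} : Set G) → ℂ) (ψ : Subgroup.centralizer ({x} : Set G) → ℂ) =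
      regInner p (secVal x A χ) (ψ : Subgroup.centralizer ({x} : Set G) → ℂ) := by
  have hcl : Cfsg.IsClassFunction (Subgroup.centralizer ({x} : Set G)) (secVal x A χ) := fun a c =>
    Finset.sum_congr rfl fun ξ _ => by rw [Characters.isClassFunction_of_isIrr ξ.2]
  rw [← regInner_sum_left]
  refine regInner_congr_left _ fun y hy => ?_
  rw [sum_regInner_mul_apply hM hA hcl hy]
  refine Finset.sum_congr rfl fun η hη => ?_
  congr 1
  have e : secVal x A χ = ∑ ξ : IrrCharacter (Subgroup.centralizer ({x} : Set G)),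
      (if ξ ∈ A then secCoef x χ ξ else 0) • (ξ : Subgroup.centralizer ({x} : Set G) → ℂ) := by
    funext z
    simp only [secVal, Finset.sum_apply, Pi.smul_apply, smul_eq_mul, ite_mul, zero_mul]
    rw [← Finset.sum_filter]
    congr 1
    ext; simp
  rw [e, Characters.classInner_irr_coeff, if_pos (Set.mem_toFinset.1 hη)]

omit hA in
/-- Orthogonality of the translates. -/
theorem sum_secReg_mul_conj (hx : ∃ k, orderOf x = p ^ k)
    (ξ η : IrrCharacter (Subgroup.centralizer ({x} : Set G))) :
    ∑ χ : IrrCharacter G, secReg p x (χ : G → ℂ) ξ * conj (secReg p x (χ : G → ℂ) η) =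
      regInner p (η : Subgroup.centralizer ({x} : Set G) → ℂ) (ξ : Subgroup.centralizer ({x} : Set G) → ℂ) := by
  classical
  let K := Subgroup.centralizer ({x} : Set G)
  have hkey : ∀ h k : K, ¬ p ∣ orderOf h → ¬ p ∣ orderOf k →
      ∑ χ : IrrCharacter G, (χ : G → ℂ) (x * (h : G)) * conj ((χ : G → ℂ) (x * (k : G))) =
        ∑ lam : IrrCharacter K, (lam : K → ℂ) h * conj ((lam : K → ℂ) k) := fun h k hh hk =>
    sum_translate_mul_conj hx hh hk
  have hrhs : regInner p (η : K → ℂ) ξ =
      ∑ lam : IrrCharacter K, regInner p (lam : K → ℂ) ξ * conj (regInner p (lam : K → ℂ) η) := by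
    rw [← sum_regInner_mul_regInner η ξ]
    exact Finset.sum_congr rfl fun lam _ => by rw [regInner_conj, mul_comm]
  rw [hrhs]
  simp only [secReg, regInner, map_mul, map_inv₀, map_natCast, map_sum, Finset.mul_sum,
    Finset.sum_mul]
  rw [Finset.sum_comm]
  conv_rhs => rw [Finset.sum_comm]
  refine Finset.sum_congr rfl fun k _ => ?_
  rw [Finset.sum_comm]
  conv_rhs => rw [Finset.sum_comm]
  refine Finset.sum_congr rfl fun h _ => ?_
  by_cases hh : p ∣ orderOf h
  · simp [hh]
  by_cases hk : p ∣ orderOf k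
  · simp [hk]
  simp only [hh, hk, if_false, map_mul, Complex.conj_conj]
  have e := hkey h k hh hk
  calc ∑ χ : IrrCharacter G, (Nat.card K : ℂ)⁻¹ * ((χ : G → ℂ) (x * (h : G)) * conj ((ξ : K → ℂ) h)) *
        ((Nat.card K : ℂ)⁻¹ * (conj ((χ : G → ℂ) (x * (k : G))) * (η : K → ℂ) k))
      = ((Nat.card K : ℂ)⁻¹ * (Nat.card K : ℂ)⁻¹ * conj ((ξ : K → ℂ) h) * (η : K → ℂ) k) *
          ∑ χ : IrrCharacter G, (χ : G → ℂ) (x * (h : G)) * conj ((χ : G → ℂ) (x * (k : G))) := by
        rw [Finset.mul_sum]; exact Finset.sum_congr rfl fun χ _ => by ring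
    _ = _ := by
        rw [e, Finset.mul_sum]; exact Finset.sum_congr rfl fun lam _ => by ring

open Classical in
theorem secInner_eq {χ : G → ℂ} (hχ : Cfsg.IsClassFunction G χ) (φ : Subgroup.centralizer ({x} : Set G) → ℂ) :
    regInner p (secVal x A χ) φ = ∑ ξ ∈ A.toFinset, secReg p x χ ξ * regInner p (ξ : Subgroup.centralizer ({x} : Set G) → ℂ) φ := by
  rw [← regInner_sum_left]
  exact regInner_congr_left _ fun y hy => secVal_eq hM hA hχ hy

/-- The form is idempotent. -/
theorem sum_secInner_mul (hx : ∃ k, orderOf x = p ^ k) (φ ψ : IrrCharacter G) :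
    ∑ χ : IrrCharacter G, secInner p x A (φ : G → ℂ) χ * secInner p x A (χ : G → ℂ) ψ =
      secInner p x A (φ : G → ℂ) ψ := by
  classical
  have hc := fun χ : IrrCharacter G => Characters.isClassFunction_of_isIrr χ.2
  have hl : ∀ χ : IrrCharacter G, secInner p x A (φ : G → ℂ) χ =
      ∑ η ∈ A.toFinset, conj (secReg p x (χ : G → ℂ) η) * regInner p (secVal x A (φ : G → ℂ)) η := by
    intro χ
    rw [secInner, ← regInner_sum_right]
    exact regInner_congr_right _ fun y hy => secVal_eq hM hA (hc χ) hy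
  have hr : ∀ χ : IrrCharacter G, secInner p x A (χ : G → ℂ) ψ =
      ∑ ξ ∈ A.toFinset, secReg p x (χ : G → ℂ) ξ * regInner p (ξ : Subgroup.centralizer ({x} : Set G) → ℂ) (secVal x A (ψ : G → ℂ)) :=
    fun χ => secInner_eq hM hA (hc χ) _
  rw [Finset.sum_congr rfl fun χ _ => congrArg₂ (fun a b : ℂ => a * b) (hl χ) (hr χ)]
  simp only [Finset.sum_mul, Finset.mul_sum]
  rw [Finset.sum_comm]
  simp_rw [Finset.sum_comm (s := (Finset.univ : Finset (IrrCharacter G)))]
  rw [Finset.sum_comm]
  have h3 : ∀ η ξ : IrrCharacter (Subgroup.centralizer ({x} : Set G)),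
      ∑ χ : IrrCharacter G, conj (secReg p x (χ : G → ℂ) η) * regInner p (secVal x A (φ : G → ℂ)) η *
        (secReg p x (χ : G → ℂ) ξ * regInner p (ξ : Subgroup.centralizer ({x} : Set G) → ℂ) (secVal x A (ψ : G → ℂ))) =
      regInner p (secVal x A (φ : G → ℂ)) η * regInner p (η : Subgroup.centralizer ({x} : Set G) → ℂ) (ξ : Subgroup.centralizer ({x} : Set G) → ℂ) *
        regInner p (ξ : Subgroup.centralizer ({x} : Set G) → ℂ) (secVal x A (ψ : G → ℂ)) := by
    intro η ξ
    rw [← sum_secReg_mul_conj hM hx ξ η, Finset.mul_sum, Finset.sum_mul]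
    exact Finset.sum_congr rfl fun χ _ => by ring
  simp only [h3]
  rw [Finset.sum_comm]
  simp only [← Finset.sum_mul, secVal_fix hM hA]
  rw [secInner, regInner_congr_right _ fun y hy => secVal_eq hM hA (hc ψ) hy]
  rw [regInner_sum_right]
  -- the last projection
  have h4 : ∀ ξ : IrrCharacter (Subgroup.centralizer ({x} : Set G)),
      regInner p (ξ : Subgroup.centralizer ({x} : Set G) → ℂ) (secVal x A (ψ : G → ℂ)) =
        ∑ η ∈ A.toFinset, conj (secReg p x (ψ : G → ℂ) η) * regInner p (ξ : Subgroup.centralizer ({x} : Set G) → ℂ) (η : Subgroup.centralizer ({x} : Set G) → ℂ) := fun ξ => by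
    rw [← regInner_sum_right]
    exact regInner_congr_right _ fun y hy => secVal_eq hM hA (hc ψ) hy
  simp only [h4, Finset.mul_sum]
  rw [Finset.sum_comm]
  refine Finset.sum_congr rfl fun η _ => ?_
  rw [← secVal_fix hM hA (φ : G → ℂ) η, Finset.mul_sum]
  exact Finset.sum_congr rfl fun ξ _ => by ring

open Classical in
/-- The trace of the form. -/
theorem sum_secInner_self (hx : ∃ k, orderOf x = p ^ k) :
    ∑ χ : IrrCharacter G, secInner p x A (χ : G → ℂ) χ = (Cfsg.blockRank p A : ℂ) := by
  have hc := fun χ : IrrCharacter G => Characters.isClassFunction_of_isIrr χ.2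
  have hl : ∀ χ : IrrCharacter G, secInner p x A (χ : G → ℂ) χ =
      ∑ ξ ∈ A.toFinset, ∑ η ∈ A.toFinset, secReg p x (χ : G → ℂ) ξ *
        conj (secReg p x (χ : G → ℂ) η) * regInner p (ξ : Subgroup.centralizer ({x} : Set G) → ℂ) (η : Subgroup.centralizer ({x} : Set G) → ℂ) := by
    intro χ
    rw [secInner, secInner_eq hM hA (hc χ)]
    refine Finset.sum_congr rfl fun ξ _ => ?_
    rw [regInner_congr_right _ fun y hy => secVal_eq hM hA (hc χ) hy, regInner_sum_right,
      Finset.mul_sum]
    exact Finset.sum_congr rfl fun η _ => by ring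
  simp only [hl]
  rw [Finset.sum_comm]
  simp_rw [Finset.sum_comm (s := (Finset.univ : Finset (IrrCharacter G))), ← Finset.sum_mul,
    sum_secReg_mul_conj hM hx]
  rw [BlockPairing.blockRank_eq_sum hM hA, ← Finset.sum_filter]
  refine Finset.sum_congr (by ext; simp) fun ξ hξ => ?_
  have h5 : ∀ η ∈ A.toFinset, regInner p (η : Subgroup.centralizer ({x} : Set G) → ℂ) ξ *
      regInner p (ξ : Subgroup.centralizer ({x} : Set G) → ℂ) η = regInner p (ξ : Subgroup.centralizer ({x} : Set G) → ℂ) η * regInner p (η : Subgroup.centralizer ({x} : Set G) → ℂ) ξ :=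
    fun _ _ => mul_comm _ _
  rw [Finset.sum_congr rfl h5]
  refine Eq.trans ?_ (sum_regInner_mul_regInner ξ ξ)
  refine Finset.sum_subset (Finset.subset_univ _) fun η _ hη => ?_
  have hb : η ∉ Cfsg.blockOf M (ξ : Subgroup.centralizer ({x} : Set G) → ℂ) := fun h =>
    hη (Set.mem_toFinset.2 (hA ξ (by simpa using hξ) h))
  rw [Contributions.regInner_eq_zero hM (isPBlock_blockOf ξ) (mem_blockOf_self ξ) hb, zero_mul]

/-- Only the characters of the induced block have a nonzero `A`-part. -/
theorem secVal_eq_zero (hx : ∃ k, orderOf x = p ^ k) {B : Set (IrrCharacter G)}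
    (hB : Cfsg.IsPBlock M B) (hsub : A ⊆ overSet M _ B (isBlockUnion_of_isPBlock hB))
    {χ : IrrCharacter G} (hχ : χ ∉ B) {y : Subgroup.centralizer ({x} : Set G)}
    (hy : ¬ p ∣ orderOf y) : secVal x A (χ : G → ℂ) y = 0 := by
  classical
  let K := Subgroup.centralizer ({x} : Set G)
  set U := overSet M K B (isBlockUnion_of_isPBlock hB)
  set f : K → ℂ := fun c => (χ : G → ℂ) (x * (c : G)) with hf
  have hfc : Cfsg.IsClassFunction K f :=
    isClassFunction_translate _ (Characters.isClassFunction_of_isIrr χ.2) x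
  have hU : ∀ z : K, ¬ p ∣ orderOf z → Cfsg.blockPart U f z = 0 := fun z hz => by
    rw [blockPart_overSet hM hx hB χ hz, if_neg hχ]
  rw [secVal_eq hM hA (Characters.isClassFunction_of_isIrr χ.2) hy]
  refine Finset.sum_eq_zero fun ξ hξ => mul_eq_zero_of_left ?_ _
  have hfU : ∀ z : K, ¬ p ∣ orderOf z → f z = ∑ η ∈ (Uᶜ).toFinset,
      Cfsg.classInner f (η : K → ℂ) * (η : K → ℂ) z := fun z hz => by
    rw [← blockPart_add_compl U hfc z, hU z hz, zero_add, Cfsg.blockPart, finsum_irr_mem,
      show (Fintype.ofFinite K) = ‹Fintype K› from Subsingleton.elim _ _, ← Finset.sum_filter]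
    exact Finset.sum_congr (by ext; simp) fun _ _ => rfl
  show regInner p f (ξ : K → ℂ) = 0
  rw [regInner_congr_left _ hfU, regInner_sum_left]
  refine Finset.sum_eq_zero fun η hη => ?_
  have hb : ξ ∉ Cfsg.blockOf M (η : K → ℂ) := fun h =>
    (Set.mem_toFinset.1 hη) (isBlockUnion_overSet K _ ξ (hsub (Set.mem_toFinset.1 hξ))
      (mem_blockOf.2 (sameBlock_symm (mem_blockOf.1 h))))
  rw [Contributions.regInner_eq_zero hM (isPBlock_blockOf η) (mem_blockOf_self η) hb, mul_zero]

end CfsgLib.BlocksCharsC
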