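import Cfsg.Agent.BlocksCharsC.SubsectionTwo
import Cfsg.Agent.BlocksCharsC.SubsectionMajor

/-!
# Averaged contributions of a major subsection for the prime two

The averaged diagonal contribution is a multiple of four at positive height, and outside the block
all contributions vanish.
-/

set_option autoImplicit false
set_option linter.style.haveILetI false
set_option linter.unusedSectionVars false

namespace CfsgLib.BlocksCharsC

open Cfsg CfsgLib.Blocks CfsgLib.BlockPairing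
open scoped ComplexConjugate

universe u

variable {G : Type u} [Group G] [Fintype G] {x : G}
  [Fintype (Subgroup.centralizer ({x} : Set G))] {M : Ideal AlgInt} [M.IsPrime]
  (hM : Cfsg.IsPModular 2 M) {b : Set (IrrCharacter (Subgroup.centralizer ({x} : Set G)))}
  {ζ : ℂ} {k : ℕ} (hk : orderOf x = 2 ^ k) (hζ : IsPrimitiveRoot ζ (2 * 2 ^ k))
  {B : Set (IrrCharacter G)} (hB : Cfsg.IsPBlock M B)
  (hind : Cfsg.IsInducedBlock M (Subgroup.centralizer ({x} : Set G)) b B)

include hM hk hζ hB hind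

theorem avgContrib_eq_zero {χ : IrrCharacter G} (hχ : χ ∉ B) : avgContrib ζ k x b χ = 0 := by
  have hsub : b ⊆ overSet M _ B (isBlockUnion_of_isPBlock hB) := by
    intro ξ hξ
    obtain ⟨φ, hφ⟩ := isPBlock_nonempty hB
    show omegaBar M ξ (resCtr _ (idemBar M B (isBlockUnion_of_isPBlock hB))) ≠ 0
    rw [(isInducedBlock_iff _ hind.1 hB hξ hφ).1 hind (idemBar M B _), omegaBar_idemBar, if_pos hφ]
    exact one_ne_zero
  have h : secInner 2 x b (χ : G → ℂ) χ = 0 := by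
    rw [secInner, regInner]
    refine mul_eq_zero_of_right _ (Finset.sum_eq_zero fun y _ => ?_)
    split_ifs with hy
    · rfl
    · rw [secVal_eq_zero hM (isBlockUnion_of_isPBlock hind.1) ⟨k, hk⟩ hB hsub hχ hy, zero_mul]
  rw [avgContrib, subContrib, h, mul_zero]
  exact_mod_cast cyEps_natCast hζ 0

variable (hd : Cfsg.blockDefect 2 b = Cfsg.blockDefect 2 B)
include hd

theorem four_dvd_avgContrib {χ : IrrCharacter G} (hχ : χ ∈ B)
    (h0 : Cfsg.blockHeight 2 B (χ : G → ℂ) ≠ 0) : (4 : ℤ) ∣ avgContrib ζ k x b χ := by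
  set h := Cfsg.blockHeight 2 B (χ : G → ℂ) with hh
  set S := secSum 2 x b (χ : G → ℂ) χ
  obtain ⟨n, hn⟩ : ∃ n, Cfsg.charDegree (χ : G → ℂ) =
      2 ^ (Cfsg.charDegree (χ : G → ℂ)).factorization 2 * n :=
    ⟨_, (Nat.ordProj_mul_ordCompl_eq_self _ 2).symm⟩
  obtain ⟨m, hm, hmp⟩ : ∃ m, Nat.card G = 2 ^ (Nat.card G).factorization 2 * m ∧ ¬ 2 ∣ m :=
    ⟨_, (Nat.ordProj_mul_ordCompl_eq_self _ 2).symm,
      Nat.not_dvd_ordCompl Nat.prime_two Nat.card_pos.ne'⟩
  have hha := Contributions.height_add (p := 2) χ hχ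
  rw [← hh] at hha
  have hm0 : (m : ℂ) ≠ 0 := Nat.cast_ne_zero.2 fun h1 => hmp (h1 ▸ dvd_zero 2)
  set c := subContrib 2 x b (χ : G → ℂ) χ with hc
  have hmc : ((m : ℤ) : ℂ) * c = 2 * (((2 ^ (h - 1) * n : ℕ) : ℂ) * S) := by
    rw [hc, subContrib_eq hM hind hd hk χ χ, defScale, ← charDegree_cast, hn, hm]
    push_cast
    have h2 : (2 : ℂ) ^ Cfsg.blockDefect 2 B * (2 : ℂ) ^ (Cfsg.charDegree (χ : G → ℂ)).factorization 2 =
        2 * (2 : ℂ) ^ (h - 1) * (2 : ℂ) ^ (Nat.card G).factorization 2 := by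
      rw [← pow_add, ← pow_succ', ← pow_add]
      congr 1
      omega
    field_simp
    linear_combination ((n : ℂ) * S) * h2
  have hcR := subContrib_mem_cyRing hM hk hζ (b := b) χ χ
  have hmcR : ((m : ℤ) : ℂ) * c ∈ cyRing ζ := Subring.mul_mem _ (intCast_mem _ _) hcR
  set w := ((2 ^ (h - 1) * n : ℕ) : ℂ) * S
  have hwI : Cfsg.MemLocalIdeal M w := memLocalIdeal_mul_left (memLocalRing_natCast _)
    (secSum_self_mem hM hB hind hd hk hχ h0)
  have hwR : w ∈ cyRing ζ :=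
    exists_half hM hζ hmcR (memLocalRing_of_memLocalIdeal hwI) hmc
  have hreal : conj w = w := by
    refine mul_left_cancel₀ (two_ne_zero (α := ℂ)) ?_
    rw [← hmc]
    have h2 := congrArg conj hmc
    rw [map_mul, map_mul, Complex.conj_ofNat, hc, subContrib_conj, map_intCast, ← hc] at h2
    exact h2.symm
  have hev : (2 : ℤ) ∣ cyEps ζ k w := by
    have h2 := memLocalIdeal_sub hwI (cong_cyEps hM hζ hwR hreal)
    rw [sub_sub_cancel] at h2
    obtain ⟨t, ht | ht⟩ := (cyEps ζ k w).eq_nat_or_neg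
    · rw [ht] at h2 ⊢
      exact Int.natCast_dvd_natCast.2 ( (memLocalIdeal_natCast_iff hM t).1 (by simpa using h2))
    · rw [ht] at h2 ⊢
      exact dvd_neg.2 (Int.natCast_dvd_natCast.2 ( (memLocalIdeal_natCast_iff hM t).1 (by simpa using memLocalIdeal_neg h2)))
  have hma : (m : ℤ) * avgContrib ζ k x b χ = 2 * cyEps ζ k w := by
    rw [avgContrib, ← cyEps_int_mul hζ _ hcR, ← hc, hmc, show (2 : ℂ) = ((2 : ℤ) : ℂ) by norm_num,
      cyEps_int_mul hζ _ hwR]
  obtain ⟨t, ht⟩ := hev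
  have h4 : (4 : ℤ) ∣ (m : ℤ) * avgContrib ζ k x b χ := ⟨t, by rw [hma, ht]; ring⟩
  refine (Int.isCoprime_iff_gcd_eq_one.2 ?_).dvd_of_dvd_mul_left h4
  have h5 : Nat.Coprime (2 ^ 2) m := Nat.Coprime.pow_left 2 (Nat.prime_two.coprime_iff_not_dvd.2 hmp)
  simpa [Int.gcd] using h5

end CfsgLib.BlocksCharsC
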