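import Cfsg.Agent.Blocks.LocalRing
import Mathlib.RingTheory.Polynomial.Cyclotomic.Roots
import Mathlib.Analysis.Complex.Polynomial.Basic
import Mathlib.RingTheory.RootsOfUnity.Complex
import Mathlib.Algebra.CharP.Two
import Mathlib.FieldTheory.Finite.Basic

/-!
# Cyclotomic integers of two-power order

`cyEps ζ N z` is the constant coordinate of `z` in the basis `ζ ^ i`, `i < N`, for a primitive root
`ζ` of order `2 * N` with `N` a power of two: the average of the conjugates of `z`.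
-/

set_option autoImplicit false
set_option linter.style.haveILetI false
set_option linter.unusedSectionVars false

namespace CfsgLib.BlocksCharsC

open CfsgLib.Blocks
open scoped ComplexConjugate

variable {ζ : ℂ} {j : ℕ}

/-- The value of a coordinate vector. -/
def cyVal (ζ : ℂ) {N : ℕ} (v : Fin N → ℤ) : ℂ := ∑ i : Fin N, (v i : ℂ) * ζ ^ (i : ℕ)

theorem cy_pow_N (hζ : IsPrimitiveRoot ζ (2 * 2 ^ j)) : ζ ^ (2 ^ j) = -1 := by
  have h1 : ζ ^ (2 ^ j) * ζ ^ (2 ^ j) = 1 := by rw [← pow_add, ← two_mul, hζ.pow_eq_one]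
  have h2 : ζ ^ (2 ^ j) ≠ 1 := hζ.pow_ne_one_of_pos_of_lt (pow_ne_zero _ two_ne_zero)
    (by have := Nat.two_pow_pos j; omega)
  exact (mul_self_eq_one_iff.1 h1).resolve_left h2

theorem cy_pow_eq (hζ : IsPrimitiveRoot ζ (2 * 2 ^ j)) (m : ℕ) :
    ζ ^ m = (((-1 : ℤ) ^ (m / 2 ^ j) : ℤ) : ℂ) * ζ ^ (m % 2 ^ j) := by
  conv_lhs => rw [← Nat.div_add_mod m (2 ^ j)]
  rw [pow_add, pow_mul, cy_pow_N hζ]
  push_cast
  ring

theorem cyVal_injective (hζ : IsPrimitiveRoot ζ (2 * 2 ^ j)) :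
    Function.Injective (cyVal ζ : (Fin (2 ^ j) → ℤ) → ℂ) := by
  intro v w hvw
  let P : Polynomial ℚ := ∑ i : Fin (2 ^ j), Polynomial.C ((v i : ℚ) - (w i : ℚ)) * Polynomial.X ^ (i : ℕ)
  have hn : 0 < 2 * 2 ^ j := Nat.mul_pos two_pos (Nat.two_pow_pos j)
  have heval : Polynomial.aeval ζ P = 0 := by
    simp only [P, map_sum, map_mul, Polynomial.aeval_C, map_pow, Polynomial.aeval_X,
      map_sub, map_intCast, sub_mul, Finset.sum_sub_distrib]
    exact sub_eq_zero.2 hvw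
  have hdeg : P.natDegree < 2 ^ j := by
    refine Nat.lt_of_le_of_lt (Polynomial.natDegree_sum_le_of_forall_le _ _ (n := 2 ^ j - 1)
      fun i _ => (Polynomial.natDegree_C_mul_X_pow_le _ _).trans (by have := i.2; omega)) ?_
    have := Nat.two_pow_pos j
    omega
  have hP : P = 0 := by
    by_contra h0
    have h1 := Polynomial.natDegree_le_of_dvd (minpoly.dvd ℚ ζ heval) h0
    rw [← Polynomial.cyclotomic_eq_minpoly_rat hζ hn, Polynomial.natDegree_cyclotomic] at h1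
    rw [show 2 * 2 ^ j = 2 ^ (j + 1) by rw [pow_succ']] at h1
    rw [Nat.totient_prime_pow_succ Nat.prime_two j] at h1
    simp at h1
    omega
  funext i
  have h2 := congrArg (fun Q : Polynomial ℚ => Q.coeff i) hP
  simp only [P, Polynomial.finset_sum_coeff, Polynomial.coeff_C_mul_X_pow, Polynomial.coeff_zero] at h2
  rw [Finset.sum_eq_single i (fun b _ hb => if_neg fun h => hb (Fin.ext h.symm)) (by simp), if_pos rfl,
    sub_eq_zero] at h2
  exact_mod_cast h2

theorem cyVal_add {N : ℕ} (v w : Fin N → ℤ) : cyVal ζ (v + w) = cyVal ζ v + cyVal ζ w := by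
  simp [cyVal, add_mul, Finset.sum_add_distrib]

theorem cyVal_smul {N : ℕ} (c : ℤ) (v : Fin N → ℤ) :
    cyVal ζ (fun i => c * v i) = (c : ℂ) * cyVal ζ v := by
  simp [cyVal, Finset.mul_sum, mul_assoc]

theorem cyVal_single {N : ℕ} (i : Fin N) (c : ℤ) :
    cyVal ζ (Pi.single i c) = (c : ℂ) * ζ ^ (i : ℕ) := by
  rw [cyVal, Finset.sum_eq_single i (fun b _ hb => by simp [hb]) (by simp), Pi.single_eq_same]

/-- The ring of cyclotomic integers. -/
def cyRing (ζ : ℂ) : Subring ℂ := Subring.closure {ζ}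

theorem cy_pow_mem (m : ℕ) : ζ ^ m ∈ cyRing ζ :=
  Subring.pow_mem _ (Subring.subset_closure (Set.mem_singleton ζ)) m

theorem exists_cyVal_sum (hζ : IsPrimitiveRoot ζ (2 * 2 ^ j)) {ι : Type*} (s : Finset ι)
    (c : ι → ℤ) (e : ι → ℕ) :
    ∃ v : Fin (2 ^ j) → ℤ, ∑ t ∈ s, (c t : ℂ) * ζ ^ e t = cyVal ζ v := by
  classical
  induction s using Finset.induction_on with
  | empty => exact ⟨0, by simp [cyVal]⟩
  | insert a t ha ih =>
    obtain ⟨v, hv⟩ := ih
    refine ⟨Pi.single ⟨e a % 2 ^ j, Nat.mod_lt _ (Nat.two_pow_pos j)⟩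
      (c a * (-1) ^ (e a / 2 ^ j)) + v, ?_⟩
    rw [Finset.sum_insert ha, hv, cyVal_add, cyVal_single, cy_pow_eq hζ (e a)]
    push_cast
    ring

theorem exists_cyVal (hζ : IsPrimitiveRoot ζ (2 * 2 ^ j)) {z : ℂ} (hz : z ∈ cyRing ζ) :
    ∃ v : Fin (2 ^ j) → ℤ, z = cyVal ζ v := by
  induction hz using Subring.closure_induction with
  | mem x hx =>
    obtain ⟨v, hv⟩ := exists_cyVal_sum hζ (Finset.univ : Finset Unit) (fun _ => 1) (fun _ => 1)
    exact ⟨v, by rw [Set.mem_singleton_iff.1 hx, ← hv]; simp⟩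
  | zero => exact ⟨0, by simp [cyVal]⟩
  | one =>
    obtain ⟨v, hv⟩ := exists_cyVal_sum hζ (Finset.univ : Finset Unit) (fun _ => 1) (fun _ => 0)
    exact ⟨v, by rw [← hv]; simp⟩
  | add x y _ _ hx hy =>
    obtain ⟨v, rfl⟩ := hx
    obtain ⟨w, rfl⟩ := hy
    exact ⟨v + w, (cyVal_add v w).symm⟩
  | neg x _ hx =>
    obtain ⟨v, rfl⟩ := hx
    exact ⟨fun i => (-1) * v i, by rw [cyVal_smul]; simp⟩
  | mul x y _ _ hx hy =>
    obtain ⟨v, rfl⟩ := hx
    obtain ⟨w, rfl⟩ := hy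
    obtain ⟨r, hr⟩ := exists_cyVal_sum hζ (Finset.univ : Finset (Fin (2 ^ j) × Fin (2 ^ j)))
      (fun t => v t.1 * w t.2) (fun t => (t.1 : ℕ) + t.2)
    refine ⟨r, ?_⟩
    rw [← hr, cyVal, cyVal, Finset.sum_mul_sum, ← Finset.sum_product', Finset.univ_product_univ]
    exact Finset.sum_congr rfl fun t _ => by push_cast; rw [pow_add]; ring

open Classical in
/-- The constant coordinate. -/
noncomputable def cyEps (ζ : ℂ) (j : ℕ) (z : ℂ) : ℤ :=
  if h : ∃ v : Fin (2 ^ j) → ℤ, z = cyVal ζ v then h.choose ⟨0, Nat.two_pow_pos j⟩ else 0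

theorem cyEps_val (hζ : IsPrimitiveRoot ζ (2 * 2 ^ j)) (v : Fin (2 ^ j) → ℤ) :
    cyEps ζ j (cyVal ζ v) = v ⟨0, Nat.two_pow_pos j⟩ := by
  have h : ∃ w : Fin (2 ^ j) → ℤ, cyVal ζ v = cyVal ζ w := ⟨v, rfl⟩
  rw [cyEps, dif_pos h, ← cyVal_injective hζ h.choose_spec]

theorem cyEps_add (hζ : IsPrimitiveRoot ζ (2 * 2 ^ j)) {x y : ℂ} (hx : x ∈ cyRing ζ)
    (hy : y ∈ cyRing ζ) : cyEps ζ j (x + y) = cyEps ζ j x + cyEps ζ j y := by
  obtain ⟨v, rfl⟩ := exists_cyVal hζ hx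
  obtain ⟨w, rfl⟩ := exists_cyVal hζ hy
  rw [← cyVal_add, cyEps_val hζ, cyEps_val hζ, cyEps_val hζ]
  rfl

theorem cyEps_int_mul (hζ : IsPrimitiveRoot ζ (2 * 2 ^ j)) (c : ℤ) {x : ℂ} (hx : x ∈ cyRing ζ) :
    cyEps ζ j ((c : ℂ) * x) = c * cyEps ζ j x := by
  obtain ⟨v, rfl⟩ := exists_cyVal hζ hx
  rw [← cyVal_smul, cyEps_val hζ, cyEps_val hζ]

theorem cyEps_pow (hζ : IsPrimitiveRoot ζ (2 * 2 ^ j)) (m : ℕ) :
    cyEps ζ j (ζ ^ m) = if m % 2 ^ j = 0 then (-1) ^ (m / 2 ^ j) else 0 := by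
  rw [cy_pow_eq hζ m, ← cyVal_single (⟨m % 2 ^ j, Nat.mod_lt _ (Nat.two_pow_pos j)⟩ : Fin (2 ^ j)),
    cyEps_val hζ]
  split_ifs with h
  · rw [show (⟨0, Nat.two_pow_pos j⟩ : Fin (2 ^ j)) = ⟨m % 2 ^ j, Nat.mod_lt _ (Nat.two_pow_pos j)⟩
      from Fin.ext h.symm, Pi.single_eq_same]
  · rw [Pi.single_eq_of_ne]
    exact fun h' => h (congrArg Fin.val h').symm

theorem cyEps_natCast (hζ : IsPrimitiveRoot ζ (2 * 2 ^ j)) (n : ℕ) :
    cyEps ζ j (n : ℂ) = n := by
  have h := cyEps_int_mul hζ (n : ℤ) (cy_pow_mem (ζ := ζ) 0)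
  rw [cyEps_pow hζ, Nat.zero_mod, if_pos rfl, Nat.zero_div, pow_zero, mul_one, pow_zero, mul_one] at h
  exact_mod_cast h

theorem cyEps_sum (hζ : IsPrimitiveRoot ζ (2 * 2 ^ j)) {ι : Type*} (s : Finset ι) {f : ι → ℂ}
    (hf : ∀ i ∈ s, f i ∈ cyRing ζ) : cyEps ζ j (∑ i ∈ s, f i) = ∑ i ∈ s, cyEps ζ j (f i) := by
  classical
  induction s using Finset.induction_on with
  | empty => simpa using cyEps_natCast hζ 0
  | insert a t ha ih =>
    rw [Finset.sum_insert ha, Finset.sum_insert ha, cyEps_add hζ (hf a (Finset.mem_insert_self a t))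
      (Subring.sum_mem _ fun i hi => hf i (Finset.mem_insert_of_mem hi)),
      ih fun i hi => hf i (Finset.mem_insert_of_mem hi)]

theorem conj_cy_pow (hζ : IsPrimitiveRoot ζ (2 * 2 ^ j)) (i : ℕ) (hi : i ≤ 2 * 2 ^ j) :
    conj (ζ ^ i) = ζ ^ (2 * 2 ^ j - i) := by
  have hn : (2 * 2 ^ j) ≠ 0 := (Nat.mul_pos two_pos (Nat.two_pow_pos j)).ne'
  have hn1 : ‖ζ ^ i‖ = 1 := by
    rw [norm_pow, Complex.norm_eq_one_of_pow_eq_one hζ.pow_eq_one hn, one_pow]
  rw [← Complex.inv_eq_conj hn1]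
  refine inv_eq_of_mul_eq_one_right ?_
  rw [← pow_add, Nat.add_sub_cancel' hi, hζ.pow_eq_one]

theorem conj_cyVal (hζ : IsPrimitiveRoot ζ (2 * 2 ^ j)) (v : Fin (2 ^ j) → ℤ) :
    conj (cyVal ζ v) = ∑ i : Fin (2 ^ j), (v i : ℂ) * ζ ^ (2 * 2 ^ j - (i : ℕ)) := by
  rw [cyVal, map_sum]
  exact Finset.sum_congr rfl fun i _ => by
    rw [map_mul, map_intCast, conj_cy_pow hζ _ (by have := i.2; omega)]

theorem conj_mem_cyRing (hζ : IsPrimitiveRoot ζ (2 * 2 ^ j)) {z : ℂ} (hz : z ∈ cyRing ζ) :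
    conj z ∈ cyRing ζ := by
  obtain ⟨v, rfl⟩ := exists_cyVal hζ hz
  rw [conj_cyVal hζ]
  exact Subring.sum_mem _ fun i _ => Subring.mul_mem _ (intCast_mem _ _) (cy_pow_mem _)

/-- The average of the squared absolute values is the sum of the squared coordinates. -/
theorem cyEps_mul_conj (hζ : IsPrimitiveRoot ζ (2 * 2 ^ j)) (v : Fin (2 ^ j) → ℤ) :
    cyEps ζ j (cyVal ζ v * conj (cyVal ζ v)) = ∑ i, v i ^ 2 := by
  rw [conj_cyVal hζ, cyVal, Finset.sum_mul_sum]
  have hmem : ∀ i k : Fin (2 ^ j), (v i : ℂ) * ζ ^ (i : ℕ) * ((v k : ℂ) * ζ ^ (2 * 2 ^ j - (k : ℕ))) =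
      ((v i * v k : ℤ) : ℂ) * ζ ^ ((i : ℕ) + (2 * 2 ^ j - (k : ℕ))) := fun i k => by
    push_cast; rw [pow_add]; ring
  simp only [hmem]
  rw [cyEps_sum hζ _ fun i _ => Subring.sum_mem _ fun k _ =>
    Subring.mul_mem _ (intCast_mem _ _) (cy_pow_mem _)]
  refine Finset.sum_congr rfl fun i _ => ?_
  rw [cyEps_sum hζ _ fun k _ => Subring.mul_mem _ (intCast_mem _ _) (cy_pow_mem _),
    Finset.sum_eq_single i]
  · rw [cyEps_int_mul hζ _ (cy_pow_mem _), cyEps_pow hζ]
    have hi := i.2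
    rw [show (i : ℕ) + (2 * 2 ^ j - (i : ℕ)) = 2 * 2 ^ j by omega, Nat.mul_mod_left, if_pos rfl,
      Nat.mul_div_cancel _ (Nat.two_pow_pos j)]
    ring
  · intro k _ hk
    rw [cyEps_int_mul hζ _ (cy_pow_mem _), cyEps_pow hζ, if_neg, mul_zero]
    intro h0
    obtain ⟨c, hc⟩ := Nat.dvd_of_mod_eq_zero h0
    have hi := i.2
    have hk' := k.2
    have hne : (i : ℕ) ≠ (k : ℕ) := fun h => hk (Fin.ext h.symm)
    have hlt : c < 3 := by
      by_contra hcc
      have := Nat.mul_le_mul_left (2 ^ j) (not_lt.1 hcc)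
      omega
    interval_cases c <;> omega
  · simp

theorem cyEps_normSq_nonneg (hζ : IsPrimitiveRoot ζ (2 * 2 ^ j)) {z : ℂ} (hz : z ∈ cyRing ζ) :
    0 ≤ cyEps ζ j (z * conj z) ∧ (z ≠ 0 → 1 ≤ cyEps ζ j (z * conj z)) ∧
      cyEps ζ j z ^ 2 ≤ cyEps ζ j (z * conj z) := by
  obtain ⟨v, rfl⟩ := exists_cyVal hζ hz
  rw [cyEps_mul_conj hζ, cyEps_val hζ]
  refine ⟨Finset.sum_nonneg fun i _ => sq_nonneg _, fun hne => ?_,
    Finset.single_le_sum (f := fun i => v i ^ 2) (fun i _ => sq_nonneg _) (Finset.mem_univ _)⟩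
  obtain ⟨i, hi⟩ : ∃ i, v i ≠ 0 := by
    by_contra hno
    push Not at hno
    exact hne (by simp [cyVal, hno])
  exact le_trans (Int.add_one_le_iff.2 (sq_pos_iff.2 hi) |> fun h => by simpa using h)
    (Finset.single_le_sum (f := fun i => v i ^ 2) (fun i _ => sq_nonneg _) (Finset.mem_univ i))

/-- A real element is congruent to its constant coordinate. -/
theorem cong_cyEps {M : Ideal Cfsg.AlgInt} [M.IsPrime] (hM : Cfsg.IsPModular 2 M)
    (hζ : IsPrimitiveRoot ζ (2 * 2 ^ j)) {z : ℂ} (hz : z ∈ cyRing ζ) (hreal : conj z = z) :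
    Cfsg.MemLocalIdeal M (z - (cyEps ζ j z : ℂ)) := by
  obtain ⟨v, rfl⟩ := exists_cyVal hζ hz
  set o : Fin (2 ^ j) := ⟨0, Nat.two_pow_pos j⟩
  rw [cyEps_val hζ]
  have hsym : ∀ i k : Fin (2 ^ j), (i : ℕ) + k = 2 ^ j → v k = - v i := by
    intro i k hik
    have h1 : cyEps ζ j (cyVal ζ v * ζ ^ (2 * 2 ^ j - (k : ℕ))) = v k := by
      rw [cyVal, Finset.sum_mul, cyEps_sum hζ _ fun t _ => Subring.mul_mem _
        (Subring.mul_mem _ (intCast_mem _ _) (cy_pow_mem _)) (cy_pow_mem _), Finset.sum_eq_single k]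
      · rw [mul_assoc, ← pow_add, cyEps_int_mul hζ _ (cy_pow_mem _), cyEps_pow hζ]
        have := k.2
        rw [show (k : ℕ) + (2 * 2 ^ j - (k : ℕ)) = 2 * 2 ^ j by omega, Nat.mul_mod_left, if_pos rfl,
          Nat.mul_div_cancel _ (Nat.two_pow_pos j)]
        ring
      · intro t _ htk
        rw [mul_assoc, ← pow_add, cyEps_int_mul hζ _ (cy_pow_mem _), cyEps_pow hζ, if_neg, mul_zero]
        intro h0
        obtain ⟨c, hc⟩ := Nat.dvd_of_mod_eq_zero h0
        have := k.2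
        have := t.2
        have hne : (t : ℕ) ≠ (k : ℕ) := fun h => htk (Fin.ext h)
        have hlt : c < 3 := by
          by_contra hcc
          have := Nat.mul_le_mul_left (2 ^ j) (not_lt.1 hcc)
          omega
        interval_cases c <;> omega
      · simp
    rw [← hreal, conj_cyVal hζ, Finset.sum_mul, cyEps_sum hζ _ fun t _ => Subring.mul_mem _
      (Subring.mul_mem _ (intCast_mem _ _) (cy_pow_mem _)) (cy_pow_mem _),
      Finset.sum_eq_single i] at h1
    · rw [mul_assoc, ← pow_add, cyEps_int_mul hζ _ (cy_pow_mem _), cyEps_pow hζ] at h1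
      have := i.2
      have := k.2
      rw [show (2 * 2 ^ j - (i : ℕ)) + (2 * 2 ^ j - (k : ℕ)) = 3 * 2 ^ j by omega, Nat.mul_mod_left,
        if_pos rfl, Nat.mul_div_cancel _ (Nat.two_pow_pos j)] at h1
      linarith
    · intro t _ hti
      rw [mul_assoc, ← pow_add, cyEps_int_mul hζ _ (cy_pow_mem _), cyEps_pow hζ, if_neg, mul_zero]
      intro h0
      obtain ⟨c, hc⟩ := Nat.dvd_of_mod_eq_zero h0
      have := k.2
      have := t.2
      have := i.2
      have hne : (t : ℕ) ≠ (i : ℕ) := fun h => hti (Fin.ext h)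
      have hlt : c < 5 := by
        by_contra hcc
        have := Nat.mul_le_mul_left (2 ^ j) (not_lt.1 hcc)
        omega
      interval_cases c <;> omega
    · simp
  have hsum : ∑ i ∈ Finset.univ.erase o, v i = 0 := by
    let r : Fin (2 ^ j) → Fin (2 ^ j) := fun i => ⟨(2 ^ j - i) % 2 ^ j, Nat.mod_lt _ (Nat.two_pow_pos j)⟩
    have hval : ∀ i ∈ Finset.univ.erase o, ((r i : Fin (2 ^ j)) : ℕ) = 2 ^ j - i := by
      intro i hi
      have : (i : ℕ) ≠ 0 := fun h => Finset.ne_of_mem_erase hi (Fin.ext h)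
      exact Nat.mod_eq_of_lt (by have := i.2; omega)
    have hmem : ∀ i ∈ Finset.univ.erase o, r i ∈ Finset.univ.erase o := fun i hi =>
      Finset.mem_erase.2 ⟨fun h => by
        have h1 := congrArg Fin.val h
        rw [hval i hi] at h1
        have := i.2
        simp [o] at h1
        omega, Finset.mem_univ _⟩
    have key : ∑ i ∈ Finset.univ.erase o, v i = ∑ i ∈ Finset.univ.erase o, - v i := by
      refine Finset.sum_nbij' r r hmem hmem (fun i hi => Fin.ext ?_) (fun i hi => Fin.ext ?_)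
        (fun i hi => ?_)
      · rw [hval _ (hmem i hi), hval i hi]; have := i.2; omega
      · rw [hval _ (hmem i hi), hval i hi]; have := i.2; omega
      · rw [hsym i (r i) (by rw [hval i hi]; have := i.2; omega)]
        ring
    rw [Finset.sum_neg_distrib] at key
    linarith
  have hz1 : ∀ m : ℕ, Cfsg.MemLocalIdeal M (ζ ^ m - 1) := by
    intro m
    have hw : (ζ ^ m) ^ (2 ^ (j + 1)) = 1 := by
      rw [← pow_mul, mul_comm, pow_mul, show 2 ^ (j + 1) = 2 * 2 ^ j by rw [pow_succ'], hζ.pow_eq_one,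
        one_pow]
    have hint : IsIntegral ℤ (ζ ^ m) :=
      IsIntegral.of_pow (Nat.two_pow_pos (j + 1)) (by rw [hw]; exact isIntegral_one)
    have h := red_eq_one_of_pow_eq_one hM
      (z := (⟨ζ ^ m, memLocalRing_of_isIntegral hint⟩ : localRing M)) (k := j + 1) (Subtype.ext hw)
    rw [← map_one (red M), red_eq_red_iff] at h
    simpa using h
  have e : cyVal ζ v - (v o : ℂ) = ∑ i : Fin (2 ^ j), (v i : ℂ) * (ζ ^ (i : ℕ) - 1) := by
    simp only [cyVal, mul_sub, mul_one, Finset.sum_sub_distrib]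
    rw [← Finset.add_sum_erase _ (fun i => (v i : ℂ)) (Finset.mem_univ o), ← Int.cast_sum, hsum]
    simp
  rw [e]
  exact memLocalIdeal_sum _ fun i _ =>
    memLocalIdeal_mul_left (memLocalRing_of_isIntegral isIntegral_algebraMap) (hz1 i)

/-- An element twice an element of the local ring has even constant coordinate, and its half is
in the ring. -/
theorem exists_half {M : Ideal Cfsg.AlgInt} [M.IsPrime] (hM : Cfsg.IsPModular 2 M)
    (hζ : IsPrimitiveRoot ζ (2 * 2 ^ j)) {z w : ℂ} (hz : z ∈ cyRing ζ)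
    (hw : Cfsg.MemLocalRing M w) (hzw : z = 2 * w) : w ∈ cyRing ζ := by
  obtain ⟨v, rfl⟩ := exists_cyVal hζ hz
  by_cases hall : ∀ i, (2 : ℤ) ∣ v i
  · choose u hu using hall
    have : w = cyVal ζ u := by
      refine mul_left_cancel₀ (two_ne_zero (α := ℂ)) ?_
      rw [← hzw, show v = fun i => 2 * u i from funext hu, cyVal_smul]
      norm_num
    rw [this, cyVal]
    exact Subring.sum_mem _ fun i _ => Subring.mul_mem _ (intCast_mem _ _) (cy_pow_mem _)
  exfalso
  push Not at hall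
  obtain ⟨i0, hi0⟩ := hall
  set f : Polynomial ℤ := ∑ i : Fin (2 ^ j), Polynomial.C (v i) * Polynomial.X ^ (i : ℕ) with hf
  have hfc : ∀ i : Fin (2 ^ j), f.coeff i = v i := fun i => by
    simp only [hf, Polynomial.finset_sum_coeff, Polynomial.coeff_C_mul_X_pow]
    rw [Finset.sum_eq_single i (fun b _ hb => if_neg fun h => hb (Fin.ext h.symm)) (by simp), if_pos rfl]
  set φ := Int.castRingHom (ZMod 2)
  have hF0 : f.map φ ≠ 0 := by
    intro h0
    have h1 := congrArg (fun Q : Polynomial (ZMod 2) => Q.coeff i0) h0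
    simp only [Polynomial.coeff_map, hfc, Polynomial.coeff_zero] at h1
    exact hi0 ((ZMod.intCast_zmod_eq_zero_iff_dvd (v i0) 2).1 h1)
  obtain ⟨g', hg', hndvd⟩ :=
    Polynomial.exists_eq_pow_rootMultiplicity_mul_and_not_dvd (f.map φ) hF0 1
  set r := (f.map φ).rootMultiplicity 1
  have hr : r < 2 ^ j := by
    have hdeg : (f.map φ).natDegree < 2 ^ j := by
      refine Nat.lt_of_le_of_lt (Polynomial.natDegree_map_le.trans
        (Polynomial.natDegree_sum_le_of_forall_le _ _ (n := 2 ^ j - 1)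
          fun i _ => (Polynomial.natDegree_C_mul_X_pow_le _ _).trans (by have := i.2; omega))) ?_
      have := Nat.two_pow_pos j
      omega
    have h1 := Polynomial.natDegree_le_of_dvd ⟨g', hg'⟩ hF0
    rw [Polynomial.natDegree_pow, Polynomial.natDegree_X_sub_C, mul_one] at h1
    omega
  have hsurj := Polynomial.map_surjective φ (ZMod.ringHom_surjective φ)
  obtain ⟨g, hg⟩ := hsurj g'
  have hdiv : ∀ P : Polynomial ℤ, P.map φ = 0 → Polynomial.C (2 : ℤ) ∣ P := fun P hP =>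
    (Polynomial.C_dvd_iff_dvd_coeff _ _).2 fun i => by
      have h1 := congrArg (fun Q : Polynomial (ZMod 2) => Q.coeff i) hP
      simp only [Polynomial.coeff_map, Polynomial.coeff_zero] at h1
      exact (ZMod.intCast_zmod_eq_zero_iff_dvd _ 2).1 h1
  obtain ⟨h, hh⟩ := hdiv (f - (Polynomial.X - Polynomial.C 1) ^ r * g) (by
    rw [Polynomial.map_sub, Polynomial.map_mul, Polynomial.map_pow, Polynomial.map_sub,
      Polynomial.map_X, Polynomial.map_C, map_one, hg, ← hg', sub_self])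
  obtain ⟨e, he⟩ := hdiv ((Polynomial.X - Polynomial.C 1) ^ (2 ^ j) - (Polynomial.X ^ (2 ^ j) + 1)) (by
    rw [Polynomial.map_sub, Polynomial.map_pow, Polynomial.map_sub, Polynomial.map_add,
      Polynomial.map_pow, Polynomial.map_X, Polynomial.map_C, Polynomial.map_one, map_one,
      sub_pow_char_pow, map_one, one_pow, CharTwo.sub_eq_add, CharTwo.sub_eq_add]
    exact CharTwo.add_self_eq_zero _)
  have hg1 : ¬ (2 : ℤ) ∣ g.eval 1 := by
    intro hd
    refine hndvd (Polynomial.dvd_iff_isRoot.2 ?_)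
    rw [Polynomial.IsRoot, ← hg, ← map_one φ, Polynomial.eval_map, Polynomial.eval₂_at_apply]
    exact (ZMod.intCast_zmod_eq_zero_iff_dvd _ 2).2 hd
  have he1 : e.eval 1 = -1 := by
    have h1 := congrArg (Polynomial.eval (1 : ℤ)) he
    simp [zero_pow (Nat.two_pow_pos j).ne'] at h1
    omega
  -- evaluate at the root
  let ev : Polynomial ℤ →+* ℂ := Polynomial.eval₂RingHom (Int.castRingHom ℂ) ζ
  have hevX : ev Polynomial.X = ζ := Polynomial.eval₂_X _ _
  have hevC : ∀ c : ℤ, ev (Polynomial.C c) = (c : ℂ) := fun c => Polynomial.eval₂_C _ _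
  have hevf : ev f = cyVal ζ v := by
    simp only [hf, map_sum, map_mul, map_pow, hevX, hevC, cyVal]
  have hπN : (ζ - 1) ^ (2 ^ j) = 2 * ev e := by
    have h1 := congrArg ev he
    simp only [map_sub, map_pow, map_add, map_one, map_mul, hevX, hevC, cy_pow_N hζ] at h1
    simpa using h1
  have hfe : ev f - (ζ - 1) ^ r * ev g = 2 * ev h := by
    have h1 := congrArg ev hh
    simp only [map_sub, map_pow, map_one, map_mul, hevX, hevC] at h1
    simpa using h1
  have hπ0 : (ζ - 1) ^ r ≠ 0 := pow_ne_zero _ (sub_ne_zero.2 (hζ.ne_one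
    (by have := Nat.two_pow_pos j; omega)))
  have hkey : ev g * ev e = (ζ - 1) ^ (2 ^ j - r) * (w - ev h) := by
    refine mul_left_cancel₀ hπ0 ?_
    rw [← mul_assoc _ ((ζ - 1) ^ (2 ^ j - r)), ← pow_add, Nat.add_sub_cancel' hr.le, hπN]
    rw [hevf, hzw] at hfe
    linear_combination (ev e) * (-1 : ℂ) * hfe
  have hint : ∀ P : Polynomial ℤ, Cfsg.MemLocalRing M (ev P) := fun P => by
    refine memLocalRing_of_isIntegral ?_
    have hi : IsIntegral ℤ ζ :=
      IsIntegral.of_pow (Nat.mul_pos two_pos (Nat.two_pow_pos j)) (by rw [hζ.pow_eq_one]; exact isIntegral_one)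
    induction P using Polynomial.induction_on' with
    | add a b ha hb => rw [map_add]; exact ha.add hb
    | monomial n c =>
      rw [← Polynomial.C_mul_X_pow_eq_monomial, map_mul, map_pow, hevX, hevC]
      exact IsIntegral.mul isIntegral_algebraMap (hi.pow n)
  have hz1 : Cfsg.MemLocalIdeal M (ζ - 1) := by
    have hw' : ζ ^ (2 ^ (j + 1)) = 1 := by rw [pow_succ', hζ.pow_eq_one]
    have hi : IsIntegral ℤ ζ :=
      IsIntegral.of_pow (Nat.two_pow_pos (j + 1)) (by rw [hw']; exact isIntegral_one)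
    have h := red_eq_one_of_pow_eq_one hM
      (z := (⟨ζ, memLocalRing_of_isIntegral hi⟩ : localRing M)) (k := j + 1) (Subtype.ext hw')
    rw [← map_one (red M), red_eq_red_iff] at h
    simpa using h
  have hcong : ∀ P : Polynomial ℤ, Cfsg.MemLocalIdeal M (ev P - ((P.eval 1 : ℤ) : ℂ)) := fun P => by
    obtain ⟨Q, hQ⟩ := Polynomial.dvd_iff_isRoot.2 (show (P - Polynomial.C (P.eval 1)).IsRoot 1 by simp)
    have h1 := congrArg ev hQ
    rw [map_sub, map_mul, map_sub, hevX, hevC, hevC] at h1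
    rw [h1]
    push_cast
    exact memLocalIdeal_mul_right hz1 (hint Q)
  have hI : Cfsg.MemLocalIdeal M (ev g * ev e) := by
    rw [hkey, show 2 ^ j - r = (2 ^ j - r - 1) + 1 by omega, pow_succ, mul_assoc]
    refine memLocalIdeal_mul_left ?_ (memLocalIdeal_mul_right hz1
      ((localRing M).sub_mem hw (hint h)))
    exact (localRing M).pow_mem (memLocalRing_of_memLocalIdeal hz1) _
  have h2 : Cfsg.MemLocalIdeal M (((g.eval 1 : ℤ) : ℂ) * -1) := by
    have ha := memLocalIdeal_mul_right (hcong g) (hint e)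
    have hb := memLocalIdeal_mul_left (memLocalRing_of_isIntegral (isIntegral_algebraMap (R := ℤ)
      (A := ℂ) (x := g.eval 1))) (hcong e)
    rw [he1] at hb
    have := memLocalIdeal_sub (memLocalIdeal_sub hI ha) hb
    convert this using 1
    push_cast
    simp
    ring
  apply hg1
  obtain ⟨n, hn | hn⟩ := (g.eval 1).eq_nat_or_neg
  · rw [hn] at h2 ⊢
    push_cast at h2
    have := memLocalIdeal_neg h2
    simp at this
    exact_mod_cast (memLocalIdeal_natCast_iff hM n).1 this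
  · rw [hn] at h2 ⊢
    push_cast at h2
    simp at h2
    exact dvd_neg.2 (by exact_mod_cast (memLocalIdeal_natCast_iff hM n).1 h2)

end CfsgLib.BlocksCharsC
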