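import Cfsg.Agent.BlocksCharsC.SubsectionUnit
import Cfsg.Agent.BlocksCharsC.TwoPowerCyclotomic

/-!
# Averaged contributions of a subsection for the prime two

`avgContrib` is the average over the conjugates of `2 ^ q * secInner 2 x b χ χ`, a natural size
attached to `χ`: the sum is `l * 2 ^ q`, it is odd at height zero, and its `2 ^ q` multiple bounds
the number of characters of height zero.
-/

set_option autoImplicit false
set_option linter.style.haveILetI false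
set_option linter.unusedSectionVars false

namespace CfsgLib.BlocksCharsC

open Cfsg CfsgLib.Blocks CfsgLib.BlockPairing
open scoped ComplexConjugate

universe u

variable {G : Type u} [Group G] [Fintype G] {x : G}
  [Fintype (Subgroup.centralizer ({x} : Set G))] {M : Ideal AlgInt} [M.IsPrime]
  (hM : Cfsg.IsPModular 2 M) {b : Set (IrrCharacter (Subgroup.centralizer ({x} : Set G)))}
  {ζ : ℂ} {k : ℕ} (hk : orderOf x = 2 ^ k) (hζ : IsPrimitiveRoot ζ (2 * 2 ^ k))

include hk hζ in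
theorem secRoot_mem_cyRing (ξ : IrrCharacter (Subgroup.centralizer ({x} : Set G))) :
    secRoot x ξ ∈ cyRing ζ := by
  haveI : NeZero (2 * 2 ^ k) := ⟨(Nat.mul_pos two_pos (Nat.two_pow_pos k)).ne'⟩
  obtain ⟨i, -, hi⟩ := hζ.eq_pow_of_pow_eq_one
    (show secRoot x ξ ^ (2 * 2 ^ k) = 1 by rw [mul_comm, pow_mul, secRoot_pow hk, one_pow])
  rw [← hi]
  exact cy_pow_mem i

include hM hk hζ

theorem subContrib_mem_cyRing (χ ψ : IrrCharacter G) :
    subContrib 2 x b (χ : G → ℂ) ψ ∈ cyRing ζ := by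
  classical
  obtain ⟨n, m, z, -, -, -, -, he⟩ := subContrib_expand hM (b := b) χ ψ
  rw [he]
  refine Subring.sum_mem _ fun ξ _ => Subring.sum_mem _ fun η _ => ?_
  exact Subring.mul_mem _ (Subring.mul_mem _
    (Subring.mul_mem _ (natCast_mem _ _) (secRoot_mem_cyRing hk hζ ξ))
    (Subring.mul_mem _ (natCast_mem _ _) (conj_mem_cyRing hζ (secRoot_mem_cyRing hk hζ η))))
    (intCast_mem _ _)

omit hk hζ hM in
theorem subContrib_conj {p : ℕ} (χ ψ : G → ℂ) :
    conj (subContrib p x b χ ψ) = subContrib p x b ψ χ := by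
  rw [subContrib, map_mul, Complex.conj_natCast, secInner_conj, subContrib]

/-- The averaged diagonal contribution. -/
noncomputable def avgContrib (ζ : ℂ) (k : ℕ) (x : G) [Fintype (Subgroup.centralizer ({x} : Set G))]
    (b : Set (IrrCharacter (Subgroup.centralizer ({x} : Set G)))) (χ : IrrCharacter G) : ℤ :=
  cyEps ζ k (subContrib 2 x b (χ : G → ℂ) χ)

variable (hb : Cfsg.IsPBlock M b)
include hb

theorem sum_avgContrib :
    ∑ χ : IrrCharacter G, avgContrib ζ k x b χ =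
      ((Cfsg.blockRank 2 b * 2 ^ Cfsg.blockDefect 2 b : ℕ) : ℤ) := by
  have h : ∑ χ : IrrCharacter G, subContrib 2 x b (χ : G → ℂ) χ =
      ((Cfsg.blockRank 2 b * 2 ^ Cfsg.blockDefect 2 b : ℕ) : ℂ) := by
    simp only [subContrib]
    rw [← Finset.mul_sum, sum_secInner_self hM (isBlockUnion_of_isPBlock hb) ⟨k, hk⟩]
    push_cast
    ring
  simp only [avgContrib]
  rw [← cyEps_sum hζ _ fun χ _ => subContrib_mem_cyRing hM hk hζ χ χ, h, cyEps_natCast hζ]

theorem sum_cyEps_normSq (χ : IrrCharacter G) :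
    ∑ ψ : IrrCharacter G,
      cyEps ζ k (subContrib 2 x b (χ : G → ℂ) ψ * conj (subContrib 2 x b (χ : G → ℂ) ψ)) =
      (2 : ℤ) ^ Cfsg.blockDefect 2 b * avgContrib ζ k x b χ := by
  have h : ∑ ψ : IrrCharacter G,
      subContrib 2 x b (χ : G → ℂ) ψ * conj (subContrib 2 x b (χ : G → ℂ) ψ) =
      (((2 : ℤ) ^ Cfsg.blockDefect 2 b : ℤ) : ℂ) * subContrib 2 x b (χ : G → ℂ) χ := by
    simp only [subContrib_conj]
    simp only [subContrib]
    rw [← sum_secInner_mul hM (isBlockUnion_of_isPBlock hb) ⟨k, hk⟩ χ χ, Finset.mul_sum,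
      Finset.mul_sum]
    exact Finset.sum_congr rfl fun ψ _ => by push_cast; ring
  rw [← cyEps_sum hζ _ fun ψ _ => Subring.mul_mem _ (subContrib_mem_cyRing hM hk hζ χ ψ)
    (conj_mem_cyRing hζ (subContrib_mem_cyRing hM hk hζ χ ψ)), h,
    cyEps_int_mul hζ _ (subContrib_mem_cyRing hM hk hζ χ χ), avgContrib]

theorem avgContrib_nonneg (χ : IrrCharacter G) : 0 ≤ avgContrib ζ k x b χ := by
  refine nonneg_of_mul_nonneg_right ?_ (pow_pos (two_pos : (0 : ℤ) < 2) (Cfsg.blockDefect 2 b))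
  rw [← sum_cyEps_normSq hM hk hζ hb χ]
  exact Finset.sum_nonneg fun ψ _ =>
    (cyEps_normSq_nonneg hζ (subContrib_mem_cyRing hM hk hζ χ ψ)).1

variable {B : Set (IrrCharacter G)} (hB : Cfsg.IsPBlock M B)
  (hind : Cfsg.IsInducedBlock M (Subgroup.centralizer ({x} : Set G)) b B)
include hB hind

theorem odd_avgContrib {χ : IrrCharacter G} (hχ : χ ∈ B)
    (h0 : Cfsg.blockHeight 2 B (χ : G → ℂ) = 0) : Odd (avgContrib ζ k x b χ) := by
  have hu := subContrib_unit hM ⟨k, hk⟩ hB hind hχ hχ h0 h0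
  have hc := cong_cyEps hM hζ (subContrib_mem_cyRing hM hk hζ (b := b) χ χ) (subContrib_conj _ _)
  rw [← Int.not_even_iff_odd]
  intro he
  obtain ⟨t, ht⟩ := he
  refine hu ?_
  have h2 : Cfsg.MemLocalIdeal M ((avgContrib ζ k x b χ : ℤ) : ℂ) := by
    rw [ht, ← two_mul]
    push_cast
    refine memLocalIdeal_mul_right ?_ (memLocalRing_of_isIntegral isIntegral_algebraMap)
    exact_mod_cast (memLocalIdeal_natCast_iff hM 2).2 (dvd_refl 2)
  have := memLocalIdeal_add hc h2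
  simpa [avgContrib] using this

theorem one_le_normSq {χ ψ : IrrCharacter G} (hχ : χ ∈ B) (hψ : ψ ∈ B)
    (hχ0 : Cfsg.blockHeight 2 B (χ : G → ℂ) = 0) (hψ0 : Cfsg.blockHeight 2 B (ψ : G → ℂ) = 0) :
    1 ≤ cyEps ζ k (subContrib 2 x b (χ : G → ℂ) ψ * conj (subContrib 2 x b (χ : G → ℂ) ψ)) :=
  (cyEps_normSq_nonneg hζ (subContrib_mem_cyRing hM hk hζ χ ψ)).2.1 fun h =>
    subContrib_unit hM ⟨k, hk⟩ hB hind hχ hψ hχ0 hψ0 (h ▸ memLocalIdeal_zero)

omit hM hk hζ hb hB hind in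
open Classical in
theorem natCard_height_zero (B : Set (IrrCharacter G)) :
    Nat.card {χ : IrrCharacter G // χ ∈ B ∧ Cfsg.blockHeight 2 B (χ : G → ℂ) = 0} =
      (Finset.univ.filter fun χ : IrrCharacter G =>
        χ ∈ B ∧ Cfsg.blockHeight 2 B (χ : G → ℂ) = 0).card := by
  rw [Nat.card_eq_fintype_card, Fintype.card_subtype]

theorem card_height_zero_le {χ : IrrCharacter G} (hχ : χ ∈ B)
    (h0 : Cfsg.blockHeight 2 B (χ : G → ℂ) = 0) :
    (Nat.card {χ : IrrCharacter G // χ ∈ B ∧ Cfsg.blockHeight 2 B (χ : G → ℂ) = 0} : ℤ) ≤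
      (2 : ℤ) ^ Cfsg.blockDefect 2 b * avgContrib ζ k x b χ := by
  classical
  rw [natCard_height_zero, ← sum_cyEps_normSq hM hk hζ hb χ, Finset.card_eq_sum_ones, Nat.cast_sum]
  refine le_trans (Finset.sum_le_sum fun ψ hψ => ?_)
    (Finset.sum_le_sum_of_subset_of_nonneg (Finset.subset_univ _) fun ψ _ _ =>
      (cyEps_normSq_nonneg hζ (subContrib_mem_cyRing hM hk hζ χ ψ)).1)
  push_cast
  exact one_le_normSq hM hk hζ hb hB hind hχ (Finset.mem_filter.1 hψ).2.1 h0 (Finset.mem_filter.1 hψ).2.2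

theorem card_height_zero_mul_le {t : ℤ} (ht : ∀ χ ∈ B, Cfsg.blockHeight 2 B (χ : G → ℂ) = 0 →
      t ≤ avgContrib ζ k x b χ) :
    t * (Nat.card {χ : IrrCharacter G // χ ∈ B ∧ Cfsg.blockHeight 2 B (χ : G → ℂ) = 0} : ℤ) ≤
      ((Cfsg.blockRank 2 b * 2 ^ Cfsg.blockDefect 2 b : ℕ) : ℤ) := by
  classical
  rw [natCard_height_zero, ← sum_avgContrib hM hk hζ hb, mul_comm, ← nsmul_eq_mul]
  refine le_trans (Finset.card_nsmul_le_sum _ _ _ fun χ hχ =>
    ht χ (Finset.mem_filter.1 hχ).2.1 (Finset.mem_filter.1 hχ).2.2) ?_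
  exact Finset.sum_le_sum_of_subset_of_nonneg (Finset.subset_univ _) fun χ _ _ =>
    avgContrib_nonneg hM hk hζ hb χ

end CfsgLib.BlocksCharsC
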