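import Cfsg.Agent.Transfer.Tate

/-!
# Tate's criterion for a normal subgroup

A normal subgroup `K` with `P ⊓ K ≤ P'` has a normal `p`-complement.
-/

set_option autoImplicit false

namespace CfsgLib.BlocksCharsC

open CfsgLib.Transfer
open scoped commutatorElement Pointwise

theorem hasNormalPComplement_of_inf_le_commutator {G : Type*} [Group G] [Finite G] {p : ℕ}
    [Fact p.Prime] (P : Sylow p G) (K : Subgroup G) [K.Normal]
    (h : (P : Subgroup G) ⊓ K ≤ ⁅(P : Subgroup G), (P : Subgroup G)⁆) :
    Cfsg.HasNormalPComplement p K := by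
  let L : Subgroup G := K ⊔ (P : Subgroup G)
  let PL : Sylow p L := P.subtype le_sup_right
  let π : L →* L ⧸ K.subgroupOf L := QuotientGroup.mk' (K.subgroupOf L)
  let g : (PL : Subgroup L) →* L ⧸ K.subgroupOf L := π.comp (PL : Subgroup L).subtype
  have hg : Function.Surjective g := by
    intro q
    obtain ⟨x, rfl⟩ := QuotientGroup.mk'_surjective _ q
    have hx : (x : G) ∈ ((K : Set G) * ((P : Subgroup G) : Set G) : Set G) := by
      rw [← Subgroup.normal_mul]; exact x.2
    obtain ⟨k, hk, y, hy, hky⟩ := hx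
    refine ⟨⟨⟨y, Subgroup.mem_sup_right hy⟩, hy⟩, QuotientGroup.eq.2 ?_⟩
    rw [Subgroup.mem_subgroupOf]
    show y⁻¹ * (x : G) ∈ K
    rw [← hky, ← mul_assoc]
    simpa [mul_assoc] using Subgroup.Normal.conj_mem ‹K.Normal› k hk y⁻¹
  have key : (PL : Subgroup L) ⊓ elemResidual p L ≤
      (elemResidual p (PL : Subgroup L)).map (PL : Subgroup L).subtype := by
    rintro x ⟨hxP, hxE⟩
    have h1 : π x ∈ elemResidual p (L ⧸ K.subgroupOf L) :=
      map_elemResidual_le π ⟨x, hxE, rfl⟩
    have h2 : elemResidual p (L ⧸ K.subgroupOf L) ≤ (elemResidual p (PL : Subgroup L)).map g := by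
      rw [elemResidual, elemResidual, Subgroup.map_sup, MonoidHom.map_closure]
      refine sup_le_sup ?_ (Subgroup.closure_mono ?_)
      · rw [_root_.commutator_def, _root_.commutator_def, Subgroup.map_commutator,
          Subgroup.map_top_of_surjective g hg]
      · rintro _ ⟨q, rfl⟩
        obtain ⟨y, rfl⟩ := hg q
        exact ⟨y ^ p, ⟨y, rfl⟩, map_pow g y p⟩
    obtain ⟨e, he, hge⟩ := h2 h1
    let x' : (PL : Subgroup L) := ⟨x, hxP⟩
    have hd : x' * e⁻¹ ∈ _root_.commutator (PL : Subgroup L) := by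
      have hker : π ((x' * e⁻¹ : (PL : Subgroup L)) : L) = 1 := by
        show g (x' * e⁻¹) = 1
        rw [map_mul, map_inv, hge, mul_inv_eq_one]
        rfl
      have hK : (((x' * e⁻¹ : (PL : Subgroup L)) : L) : G) ∈ K :=
        Subgroup.mem_subgroupOf.1 ((QuotientGroup.eq_one_iff _).1 hker)
      have hP : (((x' * e⁻¹ : (PL : Subgroup L)) : L) : G) ∈ (P : Subgroup G) :=
        (x' * e⁻¹).2
      let j : (PL : Subgroup L) →* G := L.subtype.comp (PL : Subgroup L).subtype
      have hj : Function.Injective j := L.subtype_injective.comp (PL : Subgroup L).subtype_injective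
      refine (Subgroup.mem_map_iff_mem hj).1 ?_
      have himg : (⊤ : Subgroup (PL : Subgroup L)).map j = (P : Subgroup G) := by
        ext y
        constructor
        · rintro ⟨z, -, rfl⟩; exact z.2
        · intro hy; exact ⟨⟨⟨y, Subgroup.mem_sup_right hy⟩, hy⟩, trivial, rfl⟩
      rw [_root_.commutator_def, Subgroup.map_commutator, himg]
      exact h ⟨hP, hK⟩
    refine ⟨x', ?_, rfl⟩
    have := mul_mem ((le_sup_left : _ ≤ elemResidual p (PL : Subgroup L)) hd) he
    rwa [inv_mul_cancel_right] at this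
  have hL := tate_of_elemResidual PL le_rfl key
  rw [pResidual_eq_bot_of_isPGroup PL.isPGroup', Subgroup.map_bot] at hL
  exact hasNormalPComplement_of_le (le_sup_left : K ≤ L)
    ((hasNormalPComplement_iff_sylow_inf PL).2 hL)

end CfsgLib.BlocksCharsC
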